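import Cfsg.Agent.Lib.SymBlocks.Bound
import Cfsg.Agent.Lib.BlockCover.Basic
import Cfsg.Agent.Lib.Characters.LinearTwist
import Cfsg.Agent.Lib.Characters.NormalRes
import Cfsg.Agent.Lib.Characters.Clifford
import Cfsg.Agent.Lib.Blocks.BrauerMap
import Mathlib.GroupTheory.SpecificGroups.Alternating

/-!
# The symmetric group over the alternating group

Characters of the symmetric group lying over one block of the alternating group agree in their
central characters up to the sign.
-/

set_option autoImplicit false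
set_option linter.unusedSectionVars false
set_option linter.unusedVariables false
set_option linter.unusedSimpArgs false
set_option linter.style.haveILetI false

noncomputable section

open scoped Classical ComplexConjugate

namespace CfsgLib.SymBlocks

open Equiv Cfsg CfsgLib.Blocks CfsgLib.Characters CfsgLib.Clifford CfsgLib.LinearTwist
  MonoidAlgebra

variable {n p : ℕ} {M : Ideal AlgInt}

/-- The sign, as a linear character. -/
def sgnHom (n : ℕ) : Perm (Fin n) →* ℂˣ :=
  (Units.map (Int.castRingHom ℂ).toMonoidHom).comp Perm.sign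

/-- A character twisted by the sign. -/
def sgnTw (χ : IrrCharacter (Perm (Fin n))) : IrrCharacter (Perm (Fin n)) :=
  ⟨fun g => (χ : Perm (Fin n) → ℂ) g * (sgnHom n g : ℂ), isIrr_mul_hom χ.2 _⟩

theorem sgnTw_apply (χ : IrrCharacter (Perm (Fin n))) (g : Perm (Fin n)) :
    (sgnTw χ : Perm (Fin n) → ℂ) g = ((Perm.sign g : ℤ) : ℂ) * (χ : Perm (Fin n) → ℂ) g :=
  mul_comm _ _

theorem sgnTw_sgnTw (χ : IrrCharacter (Perm (Fin n))) : sgnTw (sgnTw χ) = χ := by
  refine Subtype.ext (funext fun g => ?_)
  rw [sgnTw_apply, sgnTw_apply, ← mul_assoc, ← Int.cast_mul, ← Units.val_mul, Int.units_mul_self]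
  simp

theorem sgnTw_apply_alt (χ : IrrCharacter (Perm (Fin n))) (a : alternatingGroup (Fin n)) :
    (sgnTw χ : Perm (Fin n) → ℂ) a = (χ : Perm (Fin n) → ℂ) a := by
  rw [sgnTw_apply, Equiv.Perm.mem_alternatingGroup.1 a.2]
  simp

theorem centralChar_sgnTw (χ : IrrCharacter (Perm (Fin n))) (g : Perm (Fin n)) :
    centralChar (sgnTw χ : Perm (Fin n) → ℂ) g =
      ((Perm.sign g : ℤ) : ℂ) * centralChar (χ : Perm (Fin n) → ℂ) g := by
  simp only [centralChar, sgnTw_apply, Perm.sign_one, Units.val_one, Int.cast_one, one_mul]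
  ring

theorem sameBlock_sgnTw (hM : IsPModular p M) {χ ψ : IrrCharacter (Perm (Fin n))}
    (h : SameBlock M (χ : Perm (Fin n) → ℂ) (ψ : Perm (Fin n) → ℂ)) :
    SameBlock M (sgnTw χ : Perm (Fin n) → ℂ) (sgnTw ψ : Perm (Fin n) → ℂ) := by
  intro g
  rw [centralChar_sgnTw, centralChar_sgnTw, ← mul_sub]
  rcases Int.units_eq_one_or (Perm.sign g) with hs | hs <;> rw [hs]
  · simpa using h g
  · simpa using MemLocalIdeal.neg hM (h g)

/-- Lying over a block of the alternating group. -/
def Covers (B : Set (IrrCharacter (alternatingGroup (Fin n))))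
    (χ : IrrCharacter (Perm (Fin n))) : Prop :=
  ∃ ψ ∈ B, classInner (fun a : alternatingGroup (Fin n) => (χ : Perm (Fin n) → ℂ) a)
    (ψ : alternatingGroup (Fin n) → ℂ) ≠ 0

theorem covers_sgnTw {B : Set (IrrCharacter (alternatingGroup (Fin n)))}
    {χ : IrrCharacter (Perm (Fin n))} (h : Covers B χ) : Covers B (sgnTw χ) := by
  obtain ⟨ψ, hψ, hne⟩ := h
  refine ⟨ψ, hψ, ?_⟩
  simpa only [sgnTw_apply_alt] using hne

theorem centralChar_congr_even (hM : IsPModular p M)
    {B : Set (IrrCharacter (alternatingGroup (Fin n)))} (hB : IsPBlock M B)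
    {χ χ' : IrrCharacter (Perm (Fin n))} (h : Covers B χ) (h' : Covers B χ') {g : Perm (Fin n)}
    (hg : g ∈ alternatingGroup (Fin n)) :
    MemLocalIdeal M (centralChar (χ : Perm (Fin n) → ℂ) g -
      centralChar (χ' : Perm (Fin n) → ℂ) g) := by
  obtain ⟨ψ, hψ, hne⟩ := h
  obtain ⟨ψ', hψ', hne'⟩ := h'
  rw [(CfsgLib.CharCorr.constituent_iff_centralChar _ χ ψ).1 hne ⟨g, hg⟩,
    (CfsgLib.CharCorr.constituent_iff_centralChar _ χ' ψ').1 hne' ⟨g, hg⟩]
  exact CfsgLib.BlockCover.inducedCentralChar_congr _ hM ((IsPBlock.mem_iff hM hB hψ ψ').1 hψ') g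

theorem centralChar_mul_congr_odd (hM : IsPModular p M)
    {B : Set (IrrCharacter (alternatingGroup (Fin n)))} (hB : IsPBlock M B)
    {χ χ' : IrrCharacter (Perm (Fin n))} (h : Covers B χ) (h' : Covers B χ') {g k : Perm (Fin n)}
    (hg : g ∉ alternatingGroup (Fin n)) (hk : k ∉ alternatingGroup (Fin n)) :
    MemLocalIdeal M (centralChar (χ : Perm (Fin n) → ℂ) g * centralChar (χ : Perm (Fin n) → ℂ) k -
      centralChar (χ' : Perm (Fin n) → ℂ) g * centralChar (χ' : Perm (Fin n) → ℂ) k) := by
  have hz : classSum ℂ g * classSum ℂ k ∈ Subalgebra.center ℂ (MonoidAlgebra ℂ (Perm (Fin n))) :=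
    Subalgebra.mul_mem _ (classSum_mem_center g) (classSum_mem_center k)
  have hω : ∀ φ : IrrCharacter (Perm (Fin n)),
      centralChar (φ : Perm (Fin n) → ℂ) g * centralChar (φ : Perm (Fin n) → ℂ) k =
        ∑ c : ConjClasses (Perm (Fin n)), (classSum ℂ g * classSum ℂ k).coeff c.out *
          centralChar (φ : Perm (Fin n) → ℂ) c.out := fun φ => by
    have e := omega_eq_sum_classes φ hz
    rw [omega_mul φ (classSum_mem_center g),
      omega_classSum (irr_isClassFunction φ), omega_classSum (irr_isClassFunction φ)] at e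
    convert e
  rw [hω χ, hω χ', ← Finset.sum_sub_distrib]
  refine MemLocalIdeal.sum hM _ fun c _ => ?_
  rw [← mul_sub]
  set x : Perm (Fin n) := c.out with hx
  by_cases hxA : x ∈ alternatingGroup (Fin n)
  · refine MemLocalIdeal.mul_left hM ?_ (centralChar_congr_even hM hB h h' hxA)
    rw [CfsgLib.BlockAlg.coeff_mul_sum]
    refine (lRing hM).sum_mem fun a _ => (lRing hM).mul_mem ?_ ?_ <;>
      rw [coeff_classSum] <;> split_ifs <;> simp [(lRing hM).one_mem, (lRing hM).zero_mem]
  · have h0 : (classSum ℂ g * classSum ℂ k).coeff x = 0 := by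
      rw [CfsgLib.BlockAlg.coeff_mul_sum]
      refine Finset.sum_eq_zero fun a _ => ?_
      rw [coeff_classSum, coeff_classSum]
      split_ifs with ha hb
      · exfalso
        refine hxA ?_
        have h1 : Perm.sign a = Perm.sign g := by
          obtain ⟨t, rfl⟩ := isConj_iff.1 ha
          simp [mul_comm, mul_left_comm]
        have h2 : Perm.sign (a⁻¹ * x) = Perm.sign k := by
          obtain ⟨t, ht⟩ := isConj_iff.1 hb
          rw [← ht]
          simp [mul_comm, mul_left_comm]
        rw [Equiv.Perm.mem_alternatingGroup] at hg hk ⊢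
        have e1 := (Int.units_eq_one_or (Perm.sign g)).resolve_left hg
        have e2 := (Int.units_eq_one_or (Perm.sign k)).resolve_left hk
        rw [Perm.sign_mul, Perm.sign_inv, h1, e1, e2] at h2
        rcases Int.units_eq_one_or (Perm.sign x) with e | e
        · exact e
        · rw [e] at h2
          exact absurd h2 (by decide)
      all_goals simp
    rw [h0, zero_mul]
    exact memLocalIdeal_zero hM

/-- Characters over one block agree up to the sign. -/
theorem sameBlock_or_twist (hM : IsPModular p M)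
    {B : Set (IrrCharacter (alternatingGroup (Fin n)))} (hB : IsPBlock M B)
    {χ χ' : IrrCharacter (Perm (Fin n))} (h : Covers B χ) (h' : Covers B χ') :
    SameBlock M (χ : Perm (Fin n) → ℂ) (χ' : Perm (Fin n) → ℂ) ∨
      SameBlock M (χ : Perm (Fin n) → ℂ) (sgnTw χ' : Perm (Fin n) → ℂ) := by
  haveI := hM.2.1
  letI := Ideal.Quotient.field M
  set a : Perm (Fin n) → lRing hM :=
    fun g => ⟨centralChar (χ : Perm (Fin n) → ℂ) g, centralChar_mem_lRing hM χ g⟩ with ha
  set b : Perm (Fin n) → lRing hM :=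
    fun g => ⟨centralChar (χ' : Perm (Fin n) → ℂ) g, centralChar_mem_lRing hM χ' g⟩ with hb
  have heven : ∀ g ∈ alternatingGroup (Fin n), lRes hM (a g) = lRes hM (b g) := fun g hg =>
    (lRes_eq_iff hM _ _).2 (centralChar_congr_even hM hB h h' hg)
  have hodd : ∀ g k, g ∉ alternatingGroup (Fin n) → k ∉ alternatingGroup (Fin n) →
      lRes hM (a g) * lRes hM (a k) = lRes hM (b g) * lRes hM (b k) := fun g k hg hk => by
    rw [← map_mul, ← map_mul]
    exact (lRes_eq_iff hM _ _).2 (centralChar_mul_congr_odd hM hB h h' hg hk)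
  by_cases hall : ∀ g, lRes hM (a g) = lRes hM (b g)
  · exact Or.inl fun g => (lRes_eq_iff hM _ _).1 (hall g)
  push Not at hall
  obtain ⟨g₀, hg₀⟩ := hall
  have hg₀A : g₀ ∉ alternatingGroup (Fin n) := fun hA => hg₀ (heven g₀ hA)
  have hneg : lRes hM (a g₀) = -lRes hM (b g₀) := by
    have h2 := hodd g₀ g₀ hg₀A hg₀A
    have h3 : (lRes hM (a g₀) - lRes hM (b g₀)) * (lRes hM (a g₀) + lRes hM (b g₀)) = 0 := by
      linear_combination h2
    rcases mul_eq_zero.1 h3 with h4 | h4
    · exact absurd (sub_eq_zero.1 h4) hg₀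
    · linear_combination h4
  refine Or.inr fun g => ?_
  rw [centralChar_sgnTw]
  by_cases hgA : g ∈ alternatingGroup (Fin n)
  · rw [Equiv.Perm.mem_alternatingGroup.1 hgA]
    simpa using (lRes_eq_iff hM _ _).1 (heven g hgA)
  · have hb0 : lRes hM (b g₀) ≠ 0 := fun h0 => hg₀ (by rw [hneg, h0, neg_zero])
    have h5 : lRes hM (a g) = lRes hM (-(b g)) := by
      rw [map_neg]
      have h2 := hodd g g₀ hgA hg₀A
      rw [hneg] at h2
      refine mul_right_cancel₀ hb0 ?_
      linear_combination -h2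
    have h6 := (lRes_eq_iff hM _ _).1 h5
    rw [Equiv.Perm.mem_alternatingGroup] at hgA
    rw [(Int.units_eq_one_or (Perm.sign g)).resolve_left hgA]
    simpa using h6

/-! ## Induction -/

/-- Conjugation of a function by a permutation. -/
def twA (τ : Perm (Fin n)) (u : alternatingGroup (Fin n) → ℂ) : alternatingGroup (Fin n) → ℂ :=
  conjChar (inferInstance : (alternatingGroup (Fin n)).Normal) u τ

theorem twA_apply (τ : Perm (Fin n)) (u : alternatingGroup (Fin n) → ℂ)
    (a : alternatingGroup (Fin n)) :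
    twA τ u a = u ⟨τ * a * τ⁻¹,
      (inferInstance : (alternatingGroup (Fin n)).Normal).conj_mem a a.2 τ⟩ := rfl

theorem indFun_apply_alt {τ : Perm (Fin n)} (hτ : τ ∉ alternatingGroup (Fin n))
    {u : alternatingGroup (Fin n) → ℂ} (hu : IsClassFunction (alternatingGroup (Fin n)) u)
    (a : alternatingGroup (Fin n)) :
    indFun (alternatingGroup (Fin n)) u a = u a + twA τ u a := by
  have hτ' : Perm.sign τ = -1 := (Int.units_eq_one_or _).resolve_left
    (by rwa [← Equiv.Perm.mem_alternatingGroup])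
  rw [CfsgLib.Induction.indFun_normal_apply,
    ← Finset.sum_filter_add_sum_filter_not Finset.univ (fun x => x ∈ alternatingGroup (Fin n))]
  have hA : (Finset.univ.filter fun x : Perm (Fin n) => x ∈ alternatingGroup (Fin n)).card =
      Nat.card (alternatingGroup (Fin n)) := by
    rw [← Fintype.card_subtype, Nat.card_eq_fintype_card]
  have hB : (Finset.univ.filter fun x : Perm (Fin n) => ¬ x ∈ alternatingGroup (Fin n)).card =
      Nat.card (alternatingGroup (Fin n)) := by
    rw [← hA]
    refine Finset.card_equiv (Equiv.mulRight τ) fun x => ?_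
    simp only [Finset.mem_filter, Finset.mem_univ, true_and, Equiv.coe_mulRight,
      Equiv.Perm.mem_alternatingGroup, Perm.sign_mul, hτ']
    rcases Int.units_eq_one_or (Perm.sign x) with e | e <;> rw [e] <;> decide
  rw [Finset.sum_eq_card_nsmul (b := u a), Finset.sum_eq_card_nsmul (b := twA τ u a), hA, hB,
    nsmul_eq_mul, nsmul_eq_mul, mul_add, ← mul_assoc, ← mul_assoc,
    inv_mul_cancel₀ CfsgLib.Induction.natCard_ne_zero', one_mul, one_mul]
  · intro x hx
    have hxA := (Finset.mem_filter.1 hx).2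
    have hy : x * τ⁻¹ ∈ alternatingGroup (Fin n) := by
      rw [Equiv.Perm.mem_alternatingGroup, Perm.sign_mul, Perm.sign_inv, hτ']
      rw [Equiv.Perm.mem_alternatingGroup] at hxA
      rw [(Int.units_eq_one_or (Perm.sign x)).resolve_left hxA]
      rfl
    rw [twA_apply, ← hu ⟨τ * a * τ⁻¹, (inferInstance : (alternatingGroup (Fin n)).Normal).conj_mem
      a a.2 τ⟩ ⟨x * τ⁻¹, hy⟩]
    refine congrArg u (Subtype.ext ?_)
    simp [mul_assoc]
  · intro x hx
    rw [← hu a ⟨x, (Finset.mem_filter.1 hx).2⟩]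
    rfl

theorem indFun_eq_zero_of_odd (u : alternatingGroup (Fin n) → ℂ) {g : Perm (Fin n)}
    (hg : g ∉ alternatingGroup (Fin n)) : indFun (alternatingGroup (Fin n)) u g = 0 :=
  CfsgLib.Induction.indFun_normal_eq_zero _ hg

/-! ## The functions of the block -/

theorem span_props (hM : IsPModular p M) {B : Set (IrrCharacter (alternatingGroup (Fin n)))}
    (hB : IsPBlock M B) {u : alternatingGroup (Fin n) → ℂ}
    (hu : u ∈ Submodule.span ℂ ((fun χ : IrrCharacter (alternatingGroup (Fin n)) =>
      pRegularPart p (χ : alternatingGroup (Fin n) → ℂ)) '' B)) :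
    IsClassFunction (alternatingGroup (Fin n)) u ∧ (∀ a, p ∣ orderOf a → u a = 0) ∧
      ∀ ψ, ψ ∉ B → classInner u (ψ : alternatingGroup (Fin n) → ℂ) = 0 := by
  induction hu using Submodule.span_induction with
  | mem x hx =>
    obtain ⟨χ, hχ, rfl⟩ := hx
    refine ⟨fun a b => ?_, fun a ha => by simp [pRegularPart, IsPRegular, ha], fun ψ hψ => ?_⟩
    · have ho : orderOf (b * a * b⁻¹) = orderOf a := orderOf_injective (MulAut.conj b).toMonoidHom
        (MulAut.conj b).injective a
      simp only [pRegularPart, IsPRegular, ho, irr_isClassFunction χ a b]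
      congr
    · have h0 := sum_regular_eq_zero_of_not_sameBlock hM (χ := χ) (ψ := ψ) fun h =>
        hψ ((IsPBlock.mem_iff hM hB hχ ψ).2 h)
      rw [classInner, mul_eq_zero]
      right
      rw [← h0, Finset.sum_filter]
      exact Finset.sum_congr rfl fun a _ => by
        by_cases ha : p ∣ orderOf a <;> simp [pRegularPart, IsPRegular, ha]
  | zero => exact ⟨fun a b => rfl, fun a _ => rfl, fun ψ _ => classInner_zero_left _⟩
  | add x y _ _ hx hy =>
    exact ⟨fun a b => by simp [hx.1 a b, hy.1 a b], fun a ha => by simp [hx.2.1 a ha, hy.2.1 a ha],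
      fun ψ hψ => by rw [classInner_add_left, hx.2.2 ψ hψ, hy.2.2 ψ hψ, add_zero]⟩
  | smul z x _ hx =>
    exact ⟨fun a b => by simp [hx.1 a b], fun a ha => by simp [hx.2.1 a ha],
      fun ψ hψ => by rw [classInner_smul_left, hx.2.2 ψ hψ, mul_zero]⟩

theorem indFun_singular {u : alternatingGroup (Fin n) → ℂ}
    (hu : ∀ a, p ∣ orderOf a → u a = 0) {g : Perm (Fin n)} (hg : p ∣ orderOf g) :
    indFun (alternatingGroup (Fin n)) u g = 0 := by
  by_cases hA : g ∈ alternatingGroup (Fin n)
  · rw [show g = ((⟨g, hA⟩ : alternatingGroup (Fin n)) : Perm (Fin n)) from rfl,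
      CfsgLib.Induction.indFun_normal_apply, Finset.sum_eq_zero fun x _ => hu _ ?_, mul_zero]
    rw [← Subgroup.orderOf_coe]
    show p ∣ orderOf (x * g * x⁻¹)
    rwa [show x * g * x⁻¹ = MulAut.conj x g from rfl, MulEquiv.orderOf_eq]
  · exact indFun_eq_zero_of_odd u hA

theorem covers_of_classInner {B : Set (IrrCharacter (alternatingGroup (Fin n)))}
    {u : alternatingGroup (Fin n) → ℂ} (hu : IsClassFunction (alternatingGroup (Fin n)) u)
    (huB : ∀ ψ, ψ ∉ B → classInner u (ψ : alternatingGroup (Fin n) → ℂ) = 0)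
    {χ : IrrCharacter (Perm (Fin n))}
    (hne : classInner (indFun (alternatingGroup (Fin n)) u) (χ : Perm (Fin n) → ℂ) ≠ 0) :
    Covers B χ := by
  by_contra hcov
  refine hne ?_
  rw [CfsgLib.Induction.classInner_indFun _ _ (irr_isClassFunction χ)]
  conv_lhs => rw [classFunction_eq_sum hu]
  rw [classInner_sum_left]
  refine Finset.sum_eq_zero fun ψ _ => ?_
  rw [classInner_smul_left]
  by_cases hψ : ψ ∈ B
  · refine mul_eq_zero_of_right _ (by_contra fun h => hcov ⟨ψ, hψ, fun h0 => h ?_⟩)
    rw [classInner_conj_symm, h0, map_zero]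
  · rw [huB ψ hψ, zero_mul]

/-- The irreducible character over a pair of conjugate characters. -/
theorem exists_ind_irr {τ : Perm (Fin n)} (hτ : τ ∉ alternatingGroup (Fin n))
    (ψ : IrrCharacter (alternatingGroup (Fin n)))
    (hψ : twA τ (ψ : alternatingGroup (Fin n) → ℂ) ≠ (ψ : alternatingGroup (Fin n) → ℂ)) :
    ∃ χ : IrrCharacter (Perm (Fin n)), sgnTw χ = χ ∧
      (fun a : alternatingGroup (Fin n) => (χ : Perm (Fin n) → ℂ) a) =
        (ψ : alternatingGroup (Fin n) → ℂ) + twA τ (ψ : alternatingGroup (Fin n) → ℂ) := by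
  have hψc := irr_isClassFunction ψ
  have hres : (fun a : alternatingGroup (Fin n) => indFun (alternatingGroup (Fin n))
      (ψ : alternatingGroup (Fin n) → ℂ) a) =
      (ψ : alternatingGroup (Fin n) → ℂ) + twA τ (ψ : alternatingGroup (Fin n) → ℂ) :=
    funext fun a => indFun_apply_alt hτ hψc a
  have h1 : classInner (indFun (alternatingGroup (Fin n)) (ψ : alternatingGroup (Fin n) → ℂ))
      (indFun (alternatingGroup (Fin n)) (ψ : alternatingGroup (Fin n) → ℂ)) = 1 := by
    rw [CfsgLib.Induction.classInner_indFun _ _ (CfsgLib.Induction.isClassFunction_indFun _ _),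
      hres, classInner_add_right, classInner_irr_self ψ.2,
      classInner_irr_ne (ψ := twA τ (ψ : alternatingGroup (Fin n) → ℂ)) ψ.2
        (isIrrCharacter_conjChar _ ψ.2 τ) hψ.symm, add_zero]
  refine ⟨⟨_, isIrr_of_norm_one (CfsgLib.Induction.isCharacter_indFun _ (isCharacter_of_irr ψ.2))
    h1⟩, Subtype.ext (funext fun g => ?_), hres⟩
  rw [sgnTw_apply]
  by_cases hg : g ∈ alternatingGroup (Fin n)
  · rw [Equiv.Perm.mem_alternatingGroup.1 hg]
    simp
  · show _ * indFun _ _ g = indFun _ _ g
    rw [indFun_eq_zero_of_odd _ hg, mul_zero]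

/-- The anti-invariant functions are seen by the fixed characters over the block. -/
theorem exists_minus_test {τ : Perm (Fin n)} (hτ : τ ∉ alternatingGroup (Fin n))
    {B : Set (IrrCharacter (alternatingGroup (Fin n)))}
    (pick : IrrCharacter (Perm (Fin n)) → IrrCharacter (alternatingGroup (Fin n)))
    (hpick : ∀ χ : IrrCharacter (Perm (Fin n)), classInner (fun a : alternatingGroup (Fin n) => (χ : Perm (Fin n) → ℂ) a)
      (pick χ : alternatingGroup (Fin n) → ℂ) ≠ 0)
    {u : alternatingGroup (Fin n) → ℂ} (hu : IsClassFunction (alternatingGroup (Fin n)) u)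
    (huB : ∀ ψ, ψ ∉ B → classInner u (ψ : alternatingGroup (Fin n) → ℂ) = 0)
    (hanti : twA τ u = -u)
    (h0 : ∀ χ, Covers B χ → sgnTw χ = χ →
      classInner u (pick χ : alternatingGroup (Fin n) → ℂ) = 0) : u = 0 := by
  have hN : (alternatingGroup (Fin n)).Normal := inferInstance
  rw [classFunction_eq_sum hu]
  refine Finset.sum_eq_zero fun ψ _ => ?_
  suffices hz : classInner u (ψ : alternatingGroup (Fin n) → ℂ) = 0 by rw [hz, zero_smul]
  by_contra hne
  have hψB : ψ ∈ B := by_contra fun h => hne (huB ψ h)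
  have htw : classInner u (twA τ (ψ : alternatingGroup (Fin n) → ℂ)) =
      -classInner u (ψ : alternatingGroup (Fin n) → ℂ) := by
    have h := classInner_conjChar hN u (ψ : alternatingGroup (Fin n) → ℂ) τ
    change classInner (twA τ u) (twA τ (ψ : alternatingGroup (Fin n) → ℂ)) = _ at h
    rw [hanti, classInner_neg_left] at h
    linear_combination -h
  have hψne : twA τ (ψ : alternatingGroup (Fin n) → ℂ) ≠ (ψ : alternatingGroup (Fin n) → ℂ) := by
    intro h
    rw [h] at htw
    exact hne (CharZero.eq_neg_self_iff.1 htw)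
  obtain ⟨χ, hfix, hres⟩ := exists_ind_irr hτ ψ hψne
  have hirr : IsIrrCharacter (alternatingGroup (Fin n))
      (twA τ (ψ : alternatingGroup (Fin n) → ℂ)) := isIrrCharacter_conjChar hN ψ.2 τ
  have hcov : Covers B χ := ⟨ψ, hψB, by
    rw [hres, classInner_add_left, classInner_irr_self ψ.2, classInner_irr_ne hirr ψ.2 hψne]
    simp⟩
  have hp := hpick χ
  rw [hres, classInner_add_left] at hp
  have hc := h0 χ hcov hfix
  by_cases e1 : (pick χ : alternatingGroup (Fin n) → ℂ) = (ψ : alternatingGroup (Fin n) → ℂ)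
  · exact hne (e1 ▸ hc)
  by_cases e2 : (pick χ : alternatingGroup (Fin n) → ℂ) = twA τ (ψ : alternatingGroup (Fin n) → ℂ)
  · rw [e2, htw, neg_eq_zero] at hc
    exact hne hc
  rw [classInner_irr_ne ψ.2 (pick χ).2 (Ne.symm e1),
    classInner_irr_ne hirr (pick χ).2 (Ne.symm e2), add_zero] at hp
  exact hp rfl

end CfsgLib.SymBlocks
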