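import Cfsg.Agent.Lib.SymBlocks.Plus
import Cfsg.Agent.Lib.SymBlocks.Cover

/-!
# The rank of a block of an alternating group

The functions of a block of the alternating group split into those seen by the covering block of
the symmetric group and those seen by its self-conjugate characters.
-/

set_option autoImplicit false
set_option linter.unusedSectionVars false
set_option linter.unusedVariables false
set_option linter.unusedSimpArgs false
set_option linter.style.haveILetI false

noncomputable section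

open scoped Classical ComplexConjugate

namespace CfsgLib.SymBlocks

open Equiv Cfsg CfsgLib.Blocks CfsgLib.Characters

variable {n p : ℕ} {M : Ideal AlgInt}

theorem classInner_eq_zero_of_coeffMap {B : Set (IrrCharacter (Perm (Fin n)))}
    {θ : Perm (Fin n) → ℂ} (h : ∀ β, coeffMap B θ β = 0) {ψ : IrrCharacter (Perm (Fin n))}
    (hψ : ψ ∈ B) : classInner θ (ψ : Perm (Fin n) → ℂ) = 0 := by
  obtain ⟨β, hβ, hrep⟩ := exists_rep ψ
  have h := h β
  rw [coeffMap_eq_sum, Finset.sum_eq_single ψ] at h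
  · rcases hrep with hrep | hrep <;> rw [hrep] at h
    · rwa [classInner_irr_self ψ.2, mul_one] at h
    · rwa [classInner_neg_right, classInner_irr_self ψ.2, mul_neg, mul_one, neg_eq_zero] at h
  · intro χ _ hχ
    refine mul_eq_zero_of_right _ ?_
    have h0 : classInner (χ : Perm (Fin n) → ℂ) (ψ : Perm (Fin n) → ℂ) = 0 :=
      classInner_irr_ne χ.2 ψ.2 fun e => hχ (Subtype.ext e)
    rcases hrep with hrep | hrep <;> rw [hrep]
    · exact h0
    · rw [classInner_neg_right, h0, neg_zero]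
  · exact fun hnot => absurd (Finset.mem_filter.2 ⟨Finset.mem_univ _, hψ⟩) hnot

theorem coeffMap_deg (B : Set (IrrCharacter (Perm (Fin n)))) (θ : Perm (Fin n) → ℂ) (β : Exp n)
    (h : coeffMap B θ β ≠ 0) : ∑ i, β i = n + baseDeg n := by
  by_contra hdeg
  refine h ?_
  rw [coeffMap_apply, chi_eq_zero fun hA => hdeg hA.deg, classInner_zero_right]

theorem classInner_sgnTw_indFun (u : alternatingGroup (Fin n) → ℂ)
    (χ : IrrCharacter (Perm (Fin n))) :
    classInner (indFun (alternatingGroup (Fin n)) u) (sgnTw χ : Perm (Fin n) → ℂ) =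
      classInner (indFun (alternatingGroup (Fin n)) u) (χ : Perm (Fin n) → ℂ) := by
  rw [CfsgLib.Induction.classInner_indFun _ _ (irr_isClassFunction _),
    CfsgLib.Induction.classInner_indFun _ _ (irr_isClassFunction _)]
  simp only [sgnTw_apply_alt]

theorem coeffMap_mirror (hM : IsPModular p M) {χ₀ : IrrCharacter (Perm (Fin n))}
    (hinv : SameBlock M (χ₀ : Perm (Fin n) → ℂ) (sgnTw χ₀ : Perm (Fin n) → ℂ))
    {θ : Perm (Fin n) → ℂ}
    (hθ : ∀ χ : IrrCharacter (Perm (Fin n)),
      classInner θ (sgnTw χ : Perm (Fin n) → ℂ) = classInner θ (χ : Perm (Fin n) → ℂ))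
    (π : Perm (Fin n ⊕ Fin n)) :
    coeffMap (blockOf M (χ₀ : Perm (Fin n) → ℂ)) θ (mirrorOf π) =
      (-1) ^ n * ((Perm.sign π : ℤ) : ℂ) *
        coeffMap (blockOf M (χ₀ : Perm (Fin n) → ℂ)) θ (beadsOf π) := by
  have hmem : ∀ χ : IrrCharacter (Perm (Fin n)), χ ∈ blockOf M (χ₀ : Perm (Fin n) → ℂ) →
      sgnTw χ ∈ blockOf M (χ₀ : Perm (Fin n) → ℂ) := fun χ hχ =>
    SameBlock.trans hM hinv (sameBlock_sgnTw hM hχ)
  have hchi : ∀ χ : IrrCharacter (Perm (Fin n)),
      classInner (χ : Perm (Fin n) → ℂ) (chi (mirrorOf π)) =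
        (-1) ^ n * ((Perm.sign π : ℤ) : ℂ) *
          classInner (sgnTw χ : Perm (Fin n) → ℂ) (chi (beadsOf π)) := by
    intro χ
    simp only [classInner, Finset.mul_sum]
    refine Finset.sum_congr rfl fun σ _ => ?_
    rw [chi_mirrorOf, sgnTw_apply, map_mul, map_mul, map_mul, map_intCast, map_intCast, map_pow,
      map_neg, map_one]
    ring
  rw [coeffMap_eq_sum, coeffMap_eq_sum, Finset.mul_sum]
  refine Finset.sum_bij' (fun χ _ => sgnTw χ) (fun χ _ => sgnTw χ) ?_ ?_ ?_ ?_ ?_
  · intro χ hχ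
    exact Finset.mem_filter.2 ⟨Finset.mem_univ _, hmem χ (Finset.mem_filter.1 hχ).2⟩
  · intro χ hχ
    exact Finset.mem_filter.2 ⟨Finset.mem_univ _, hmem χ (Finset.mem_filter.1 hχ).2⟩
  · exact fun χ _ => sgnTw_sgnTw χ
  · exact fun χ _ => sgnTw_sgnTw χ
  · intro χ _
    rw [hchi χ, hθ χ]
    ring

theorem exists_perm_of_chi {β γ : Exp n} (hβ : Adm n β) (hγ : Adm n γ)
    {χ : IrrCharacter (Perm (Fin n))} {a b : ℂ} (ha : a ≠ 0) (hb : b ≠ 0)
    (h1 : (chi β : Perm (Fin n) → ℂ) = a • (χ : Perm (Fin n) → ℂ))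
    (h2 : (chi γ : Perm (Fin n) → ℂ) = b • (χ : Perm (Fin n) → ℂ)) :
    ∃ π : Perm (Fin n), β = γ ∘ π := by
  by_contra hnot
  push Not at hnot
  have h := classInner_chi hβ hγ
  rw [sgnDelta_ne hnot, h1, h2, classInner_smul_left, classInner_smul_right,
    classInner_irr_self χ.2, mul_one, Int.cast_zero, mul_eq_zero] at h
  rcases h with h | h
  · exact ha h
  · exact hb ((map_eq_zero _).1 h)

/-- The image of the beads of a self-conjugate character is self-conjugate. -/
theorem selfMirror_of_fixed {β : Exp n} (hβ : Adm n β) {χ : IrrCharacter (Perm (Fin n))}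
    (hfix : sgnTw χ = χ) {ε : ℂ} (hε : ε ≠ 0)
    (h : (chi β : Perm (Fin n) → ℂ) = ε • (χ : Perm (Fin n) → ℂ)) :
    SelfMirror n (Finset.univ.image β) := by
  obtain ⟨π, rfl⟩ := exists_beadsOf_of_deg hβ.inj hβ.nonneg hβ.deg.le
  set K : ℂ := ((Perm.sign π : ℤ) : ℂ) * (-1) ^ n * ε with hK
  have hK0 : K ≠ 0 := by
    refine mul_ne_zero (mul_ne_zero ?_ (pow_ne_zero _ (by norm_num))) hε
    rcases Int.units_eq_one_or (Perm.sign π) with e | e <;> simp [e]
  have h2 : (chi (mirrorOf π) : Perm (Fin n) → ℂ) = K • (χ : Perm (Fin n) → ℂ) := by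
    funext σ
    rw [chi_mirrorOf, congrFun h σ, Pi.smul_apply, Pi.smul_apply, smul_eq_mul, smul_eq_mul, hK]
    conv_rhs => rw [← hfix, sgnTw_apply]
    ring
  obtain ⟨ρ, hρ⟩ := exists_perm_of_chi (adm_mirrorOf hβ) hβ hK0 hε h2 h
  refine ⟨fun x hx => ?_, ?_, fun y hy0 hy1 => ?_⟩
  · obtain ⟨i, -, rfl⟩ := Finset.mem_image.1 hx
    exact ⟨pos_nonneg _, pos_lt _⟩
  · rw [Finset.card_image_of_injective _ hβ.inj, Finset.card_univ, Fintype.card_fin]
  · obtain ⟨z, rfl⟩ := pos_surj hy0 hy1
    obtain ⟨w, rfl⟩ := π.surjective z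
    rcases w with i | j
    · refine iff_of_true (Finset.mem_image.2 ⟨i, Finset.mem_univ _, rfl⟩) fun hmem => ?_
      obtain ⟨k, -, hk⟩ := Finset.mem_image.1 hmem
      obtain ⟨j, rfl⟩ := ρ.surjective k
      have hj := congrFun hρ j
      simp only [Function.comp_apply] at hj
      rw [hk] at hj
      simp only [mirrorOf, refl] at hj
      exact absurd (π.injective (pos_injective (show pos n (π (Sum.inr j)) = pos n (π (Sum.inl i))
        by omega))) (by simp)
    · refine iff_of_false (fun hmem => ?_) (not_not.2 ?_)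
      · obtain ⟨k, -, hk⟩ := Finset.mem_image.1 hmem
        exact absurd (π.injective (pos_injective hk)) (by simp)
      · exact Finset.mem_image.2 ⟨ρ j, Finset.mem_univ _, (congrFun hρ j).symm⟩

/-- The data of a block of the alternating group. -/
theorem alt_rank_bound [Fact p.Prime] (hM : IsPModular p M) {τ : Perm (Fin n)}
    (hτ : τ ∉ alternatingGroup (Fin n)) {B : Set (IrrCharacter (alternatingGroup (Fin n)))}
    (hB : IsPBlock M B) {χ₀ : IrrCharacter (Perm (Fin n))} (hχ₀ : Covers B χ₀) {β₀ : Exp n}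
    (hβ₀ : Adm n β₀) {ε₀ : ℂ} (hε₀ : ε₀ ≠ 0)
    (hchi : (chi β₀ : Perm (Fin n) → ℂ) = ε₀ • (χ₀ : Perm (Fin n) → ℂ)) {v : ℕ}
    (hv : 2 * qSum p β₀ = pairCount (resCount p β₀) + 2 * (v : ℤ)) :
    ∃ R S : ℕ, blockRank p B ≤ R + S ∧
      R ≤ Module.finrank ℂ (space n p (resCount p β₀) (qSum p β₀)) ∧
      S ≤ (scSet n p (resCount p β₀) v).card ∧
      (p ≠ 2 → 0 < v → 0 < S → 2 * R ≤ p ^ v - 1) := by
  set U : Submodule ℂ (alternatingGroup (Fin n) → ℂ) := Submodule.span ℂ
    ((fun χ : IrrCharacter (alternatingGroup (Fin n)) =>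
      pRegularPart p (χ : alternatingGroup (Fin n) → ℂ)) '' B) with hU
  set Bh := blockOf M (χ₀ : Perm (Fin n) → ℂ) with hBh
  have hBhB : IsPBlock M Bh := isPBlock_blockOf χ₀
  have hmem₀ : χ₀ ∈ Bh := mem_blockOf_self hM χ₀
  let I : U →ₗ[ℂ] (Perm (Fin n) → ℂ) :=
    { toFun := fun u => indFun (alternatingGroup (Fin n)) (u : alternatingGroup (Fin n) → ℂ)
      map_add' := fun u w => CfsgLib.Induction.indFun_add _ _ _
      map_smul' := fun z u => CfsgLib.Induction.indFun_smul _ _ _ }
  let L : U →ₗ[ℂ] (Exp n → ℂ) := (coeffMap Bh).comp I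
  have hLmem : ∀ u, L u ∈ space n p (resCount p β₀) (qSum p β₀) := fun u =>
    coeffMap_mem_space hM hBhB hβ₀ hmem₀ hε₀ hchi
      fun σ hσ => indFun_singular (span_props hM hB u.2).2.1 hσ
  haveI := (finrank_space (N := n) v (resCount p β₀) (qSum p β₀) hv).1
  have hrange : L.range ≤ space n p (resCount p β₀) (qSum p β₀) := by
    rintro _ ⟨u, rfl⟩
    exact hLmem u
  have hdim := LinearMap.finrank_range_add_finrank_ker L
  choose pick hpick using fun χ : IrrCharacter (Perm (Fin n)) =>
    CfsgLib.NormalRes.exists_mult_ne_zero (alternatingGroup (Fin n)) χ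
  have hanti : ∀ u ∈ L.ker, twA τ (u : alternatingGroup (Fin n) → ℂ) =
      -(u : alternatingGroup (Fin n) → ℂ) := by
    intro u hu
    obtain ⟨hcl, -, huB⟩ := span_props hM hB u.2
    have hcoef : ∀ β, coeffMap Bh (I u) β = 0 := fun β => congrFun (LinearMap.mem_ker.1 hu) β
    have hall : ∀ χ : IrrCharacter (Perm (Fin n)),
        classInner (I u) (χ : Perm (Fin n) → ℂ) = 0 := by
      intro χ
      by_contra hne
      have hcov : Covers B χ := covers_of_classInner hcl huB hne
      rcases sameBlock_or_twist hM hB hχ₀ hcov with h | h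
      · exact hne (classInner_eq_zero_of_coeffMap hcoef h)
      · refine hne ?_
        have h0 := classInner_eq_zero_of_coeffMap hcoef (ψ := sgnTw χ) h
        rwa [show classInner (I u) (sgnTw χ : Perm (Fin n) → ℂ) =
          classInner (I u) (χ : Perm (Fin n) → ℂ) from classInner_sgnTw_indFun _ χ] at h0
    have hI0 : I u = 0 := by
      rw [classFunction_eq_sum
        (show IsClassFunction (Perm (Fin n)) (I u) from CfsgLib.Induction.isClassFunction_indFun _ _)]
      exact Finset.sum_eq_zero fun χ _ => by rw [hall χ, zero_smul]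
    funext a
    have h := congrFun hI0 (a : Perm (Fin n))
    change indFun (alternatingGroup (Fin n)) (u : alternatingGroup (Fin n) → ℂ) a = 0 at h
    rw [indFun_apply_alt hτ hcl] at h
    rw [Pi.neg_apply]
    linear_combination h
  set F : Finset (IrrCharacter (Perm (Fin n))) :=
    Finset.univ.filter fun χ => Covers B χ ∧ sgnTw χ = χ with hF
  let G : L.ker →ₗ[ℂ] (F → ℂ) :=
    { toFun := fun u χ => classInner ((u : U) : alternatingGroup (Fin n) → ℂ)
        (pick χ : alternatingGroup (Fin n) → ℂ)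
      map_add' := fun u w => funext fun χ => classInner_add_left _ _ _
      map_smul' := fun z u => funext fun χ => classInner_smul_left _ _ _ }
  have hG : Function.Injective G := by
    intro a b hab
    refine Subtype.ext (Subtype.ext (sub_eq_zero.1 ?_))
    obtain ⟨hcl, -, huB⟩ := span_props hM hB (U.sub_mem a.1.2 b.1.2)
    refine exists_minus_test hτ pick hpick hcl huB ?_ fun χ hc hf => ?_
    · funext x
      have ea := congrFun (hanti a.1 a.2) x
      have eb := congrFun (hanti b.1 b.2) x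
      simp only [twA_apply, Pi.sub_apply, Pi.neg_apply] at ea eb ⊢
      linear_combination ea - eb
    · rw [classInner_sub_left, sub_eq_zero]
      exact congrFun hab ⟨χ, Finset.mem_filter.2 ⟨Finset.mem_univ _, hc, hf⟩⟩
  have hker : Module.finrank ℂ L.ker ≤ F.card := by
    refine (LinearMap.finrank_le_finrank_of_injective hG).trans_eq ?_
    rw [Module.finrank_pi, Fintype.card_coe]
  have hblock : ∀ χ ∈ F, SameBlock M (χ₀ : Perm (Fin n) → ℂ) (χ : Perm (Fin n) → ℂ) := by
    intro χ hχ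
    obtain ⟨hcov, hfix⟩ := (Finset.mem_filter.1 hχ).2
    rcases sameBlock_or_twist hM hB hχ₀ hcov with h | h
    · exact h
    · rwa [hfix] at h
  have hrepε : ∀ χ : IrrCharacter (Perm (Fin n)), ∃ β : Exp n, ∃ ε : ℂ, ε ≠ 0 ∧ Adm n β ∧
      (chi β : Perm (Fin n) → ℂ) = ε • (χ : Perm (Fin n) → ℂ) := fun χ => by
    obtain ⟨β, hβ, h⟩ := exists_rep χ
    rcases h with h | h
    · exact ⟨β, 1, one_ne_zero, hβ, by rw [h, one_smul]⟩
    · exact ⟨β, -1, by norm_num, hβ, by rw [h, neg_one_smul]⟩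
  choose rep ε hε hadm hrep using hrepε
  have hcard : F.card ≤ (scSet n p (resCount p β₀) v).card := by
    refine Finset.card_le_card_of_injOn (fun χ => Finset.univ.image (rep χ)) (fun χ hχ => ?_) ?_
    · obtain ⟨-, hfix⟩ := (Finset.mem_filter.1 (Finset.mem_coe.1 hχ)).2
      have hc := resCount_eq_of_sameBlock hM (hadm χ) hβ₀ (hε χ) hε₀ (hrep χ) hchi
        (SameBlock.symm hM (hblock χ (Finset.mem_coe.1 hχ)))
      refine Finset.mem_coe.2 (mem_scSet.2 ⟨selfMirror_of_fixed (hadm χ) hfix (hε χ) (hrep χ),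
        ?_, ?_⟩)
      · rw [cSet_image (hadm χ).inj, hc]
      · rw [qSet_image (hadm χ).inj, qSum_eq_of (by rw [(hadm χ).deg, hβ₀.deg]) hc, hv]
    · intro χ _ χ' _ h
      simp only at h
      have hex : ∀ i, ∃ k, rep χ i = rep χ' k := fun i => by
        have hi : rep χ i ∈ Finset.univ.image (rep χ') := h ▸ Finset.mem_image_of_mem _ (Finset.mem_univ i)
        obtain ⟨k, -, hk⟩ := Finset.mem_image.1 hi
        exact ⟨k, hk.symm⟩
      choose f hf using hex
      have hfb : Function.Bijective f := Finite.injective_iff_bijective.1 fun i j hij =>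
        (hadm χ).inj (by rw [hf, hf, hij])
      have e : rep χ = rep χ' ∘ ⇑(Equiv.ofBijective f hfb) := funext hf
      have h1 := hrep χ
      rw [e, chi_comp, hrep χ', smul_smul] at h1
      by_contra hne
      have h2 := congrArg (fun w => classInner w (χ' : Perm (Fin n) → ℂ)) h1
      simp only [classInner_smul_left, classInner_irr_self χ'.2, mul_one,
        classInner_irr_ne χ.2 χ'.2 (fun e => hne (Subtype.ext e)), mul_zero] at h2
      rcases mul_eq_zero.1 h2 with h3 | h3
      · rcases Int.units_eq_one_or (Perm.sign (Equiv.ofBijective f hfb)) with e | e <;>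
          simp [e] at h3
      · exact hε χ' h3
  refine ⟨Module.finrank ℂ L.range, Module.finrank ℂ L.ker, ?_, Submodule.finrank_mono hrange,
    hker.trans hcard, fun hp2 hv0 hS => ?_⟩
  · rw [hdim, hU]
    exact le_rfl
  · obtain ⟨χ, hχ⟩ := Finset.card_pos.1 (lt_of_lt_of_le hS hker)
    obtain ⟨-, hfix⟩ := (Finset.mem_filter.1 hχ).2
    have hinv : SameBlock M (χ₀ : Perm (Fin n) → ℂ) (sgnTw χ₀ : Perm (Fin n) → ℂ) := by
      have h1 := hblock χ hχ
      have h2 := sameBlock_sgnTw hM h1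
      rw [hfix] at h2
      exact SameBlock.trans hM h1 (SameBlock.symm hM h2)
    have hrange' : L.range ≤ twSpace n p (resCount p β₀) (qSum p β₀) ((-1 : ℂ) ^ n) := by
      rintro _ ⟨u, rfl⟩
      exact ⟨hLmem u, coeffMap_deg _ _,
        fun π => coeffMap_mirror hM hinv (classInner_sgnTw_indFun _) π⟩
    obtain ⟨hfin, hle⟩ := finrank_twSpace (n := n) hp2 (resCount p β₀) (qSum p β₀)
      ((-1 : ℂ) ^ n) hv0 hv
    haveI := hfin
    exact le_trans (Nat.mul_le_mul_left 2 (Submodule.finrank_mono hrange')) hle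

end CfsgLib.SymBlocks
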