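import Cfsg.Agent.Lib.SymBlocks.Runners
import Cfsg.Agent.Lib.Characters.Ito
import Cfsg.Agent.Lib.Chars17.PGroupGalois
import Cfsg.Agent.Lib.OddOrder.CharTools
import Mathlib.GroupTheory.RegularWreathProduct
import Mathlib.GroupTheory.SpecificGroups.Alternating

/-!
# A character of degree `p` of a Sylow subgroup of the alternating group

The even part of a Sylow `p`-subgroup of the symmetric group of degree `p w` maps onto the
wreath product of two groups of order `p` when `w` is large enough.
-/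

set_option autoImplicit false

noncomputable section

open scoped Classical

namespace CfsgLib.SymBlocks

open Equiv Cfsg CfsgLib.Characters RegularWreathProduct

variable {p : ℕ}

/-- The group of order `p`. -/
abbrev Cp (p : ℕ) : Type := Multiplicative (ZMod p)

/-- A homomorphism applied to all entries of the base. -/
def mapBase {D E Q : Type*} [Group D] [Group E] [Group Q] (f : D →* E) : D ≀ᵣ Q →* E ≀ᵣ Q where
  toFun x := ⟨fun q => f (x.left q), x.right⟩
  map_one' := by ext <;> simp
  map_mul' x y := by ext <;> simp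

/-- The action on the top level. -/
def topHom (p n : ℕ) : IteratedWreathProduct (Cp p) (n + 1) →* Cp p :=
  RegularWreathProduct.rightHom (D := IteratedWreathProduct (Cp p) n) (Q := Cp p)

theorem topHom_surjective (n : ℕ) : Function.Surjective (topHom p n) := fun g =>
  ⟨RegularWreathProduct.inl (D := IteratedWreathProduct (Cp p) n) (Q := Cp p) g, rfl⟩

/-- The action on the two top levels. -/
def topTwo (p n : ℕ) : IteratedWreathProduct (Cp p) (n + 2) →* (Cp p) ≀ᵣ (Cp p) :=
  mapBase (D := IteratedWreathProduct (Cp p) (n + 1)) (Q := Cp p) (topHom p n)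

theorem topTwo_surjective (n : ℕ) : Function.Surjective (topTwo p n) := fun y => by
  choose f hf using fun q => topHom_surjective (p := p) n (y.left q)
  exact ⟨(⟨f, y.right⟩ : IteratedWreathProduct (Cp p) (n + 1) ≀ᵣ Cp p),
    RegularWreathProduct.ext (funext hf) rfl⟩

/-- An element moving two points at the bottom. -/
def bottomElt : ∀ n : ℕ, IteratedWreathProduct (Cp 2) (n + 1)
  | 0 => RegularWreathProduct.inl (D := IteratedWreathProduct (Cp 2) 0) (Q := Cp 2)
      (Multiplicative.ofAdd 1)
  | n + 1 => (⟨Pi.mulSingle 1 (bottomElt n), 1⟩ :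
      IteratedWreathProduct (Cp 2) (n + 1) ≀ᵣ Cp 2)

theorem topTwo_bottomElt (n : ℕ) : topTwo 2 (n + 1) (bottomElt (n + 2)) = 1 := by
  refine RegularWreathProduct.ext (funext fun q => ?_) rfl
  show topHom 2 (n + 1) ((Pi.mulSingle (1 : Cp 2) (bottomElt (n + 1)) :
    Cp 2 → IteratedWreathProduct (Cp 2) (n + 2)) q) = 1
  by_cases hq : q = 1
  · subst hq
    rw [Pi.mulSingle_eq_same]
    rfl
  · rw [Pi.mulSingle_eq_of_ne hq, map_one]

theorem sign_bottomElt : ∀ n : ℕ,
    Perm.sign (iteratedWreathToPermHom (Cp 2) (n + 1) (bottomElt n)) = -1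
  | 0 => by
    set σ := iteratedWreathToPermHom (Cp 2) 1 (bottomElt 0) with hσ
    have hne : σ ≠ 1 := by
      rw [hσ, ← map_one (iteratedWreathToPermHom (Cp 2) 1)]
      intro h
      have h2 := iteratedWreathToPermHomInj (Cp 2) 1 h
      have h3 := congrArg (topHom 2 0) h2
      rw [map_one] at h3
      exact absurd h3 (by decide)
    have h2 : σ.support.card = 2 := by
      have h1 : σ.support.card ≤ 2 := (Finset.card_le_univ _).trans (le_of_eq (by simp))
      have h0 := Perm.card_support_ne_one σ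
      have : σ.support.card ≠ 0 := by
        rw [Ne, Perm.card_support_eq_zero]
        exact hne
      omega
    exact (Perm.card_support_eq_two.1 h2).sign_eq
  | n + 1 => by
    let _ := MulAction.compHom (Fin (n + 1) → Cp 2) (iteratedWreathToPermHom (Cp 2) (n + 1))
    show Perm.sign ((Fin.succFunEquiv (Cp 2) (n + 1)).symm.permCongr
      (RegularWreathProduct.toPerm (IteratedWreathProduct (Cp 2) (n + 1)) (Cp 2)
        (Fin (n + 1) → Cp 2) ⟨Pi.mulSingle 1 (bottomElt n), 1⟩)) = -1
    rw [Perm.sign_permCongr]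
    have e : RegularWreathProduct.toPerm (IteratedWreathProduct (Cp 2) (n + 1)) (Cp 2)
        (Fin (n + 1) → Cp 2) ⟨Pi.mulSingle 1 (bottomElt n), 1⟩ =
        (Equiv.prodComm _ _).permCongr (Perm.prodExtendRight (1 : Cp 2)
          (iteratedWreathToPermHom (Cp 2) (n + 1) (bottomElt n))) := by
      refine Equiv.ext fun ⟨l, q⟩ => ?_
      show ((Pi.mulSingle (1 : Cp 2) (bottomElt n) :
        Cp 2 → IteratedWreathProduct (Cp 2) (n + 1)) (1 * q) • l, 1 * q) = _
      rw [one_mul]
      by_cases hq : q = 1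
      · subst hq
        rw [Pi.mulSingle_eq_same]
        simp [Equiv.permCongr_apply, Perm.prodExtendRight_apply_eq]
        rfl
      · rw [Pi.mulSingle_eq_of_ne hq, one_smul]
        simp [Equiv.permCongr_apply, Perm.prodExtendRight_apply_ne _ hq]
    rw [e, Perm.sign_permCongr, Perm.sign_prodExtendRight]
    exact sign_bottomElt n

/-- The wreath product of two groups of order `p` has a character of degree `p`. -/
theorem exists_degree_wreath [hp : Fact p.Prime] :
    ∃ φ : IrrCharacter ((Cp p) ≀ᵣ (Cp p)), charDegree (φ : (Cp p) ≀ᵣ (Cp p) → ℂ) = p := by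
  haveI : Fact (1 < p) := ⟨hp.out.one_lt⟩
  have hna : ¬ IsMulCommutative ((Cp p) ≀ᵣ (Cp p)) := by
    intro h
    have h1 := congrArg (fun x : (Cp p) ≀ᵣ (Cp p) => x.left 1)
      (h.is_comm.comm (⟨Pi.mulSingle 1 (Multiplicative.ofAdd 1), 1⟩ : (Cp p) ≀ᵣ (Cp p))
        (RegularWreathProduct.inl (Multiplicative.ofAdd 1)))
    simp [RegularWreathProduct.mul_left] at h1
  obtain ⟨φ, hφ⟩ := CfsgLib.Chars17.PGalois.exists_nonlinear hna
  refine ⟨φ, ?_⟩
  set A := (RegularWreathProduct.rightHom (D := Cp p) (Q := Cp p)).ker with hA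
  obtain ⟨d, hd, hdvd⟩ := CfsgLib.CharIto.degree_dvd_index_of_abelian_normal φ.2 A inferInstance fun a ha b hb => by
    rw [hA, MonoidHom.mem_ker, RegularWreathProduct.rightHom_eq_right] at ha hb
    refine RegularWreathProduct.ext ?_ ?_
    · funext q
      simp [RegularWreathProduct.mul_left, ha, hb, mul_comm]
    · simp [RegularWreathProduct.mul_right, mul_comm]
  have hidx : A.index = p := by
    rw [hA, Subgroup.index_ker, MonoidHom.range_eq_top.2 fun q => ⟨RegularWreathProduct.inl q, rfl⟩]
    simp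
  rw [hidx] at hdvd
  have hdeg : charDegree (φ : (Cp p) ≀ᵣ (Cp p) → ℂ) = d := by
    rw [charDegree, hd, Complex.natCast_re, Nat.floor_natCast]
  rcases hp.out.eq_one_or_self_of_dvd d hdvd with h | h
  · exact absurd (hdeg.trans h) hφ
  · rw [hdeg, h]

/-- The top power splits off from a factorial. -/
theorem fac_top [hp : Fact p.Prime] {k t : ℕ} (h : p ^ k + t < p ^ (k + 1)) :
    ((p ^ k + t).factorial).factorization p =
      (p ^ k).factorial.factorization p + t.factorial.factorization p := by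
  have hk : 0 < p ^ k := pow_pos hp.out.pos k
  have hm : t / p ^ k + 1 < p := by
    rw [← Nat.add_div_right t hk, Nat.div_lt_iff_lt_mul hk, add_comm, mul_comm, ← pow_succ]
    exact h
  have ht : t = t / p ^ k * p ^ k + t % p ^ k := by rw [mul_comm, Nat.div_add_mod]
  have e1 : p ^ k + t = (t / p ^ k + 1) * p ^ k + t % p ^ k := by
    conv_lhs => rw [ht]
    ring
  rw [e1, fac_pow_add k _ _ (Nat.mod_lt t hk), fac_digit k _ hm]
  conv_rhs => rw [ht, fac_pow_add k _ _ (Nat.mod_lt t hk), fac_digit k _ (by omega)]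
  ring

/-- The even part of a full `p`-subgroup of degree `p w` with a character of degree `p`. -/
theorem exists_sylow_degree [hp : Fact p.Prime] {w : ℕ} (hw : p ≤ w) (hw3 : 3 ≤ w) :
    ∃ P : Subgroup (Perm (Fin w × ZMod p)),
      Nat.card P = p ^ ((p * w).factorial.factorization p) ∧
      ∃ φ : IrrCharacter ↥(P ⊓ alternatingGroup (Fin w × ZMod p) : Subgroup _),
        charDegree (φ : ↥(P ⊓ alternatingGroup (Fin w × ZMod p) : Subgroup _) → ℂ) = p := by
  set m := p * w with hm
  have hmp : p ^ 2 ≤ m := by rw [sq]; exact Nat.mul_le_mul_left p hw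
  have hm0 : m ≠ 0 := (lt_of_lt_of_le (pow_pos hp.out.pos 2) hmp).ne'
  obtain ⟨j, hj⟩ : ∃ j, Nat.log p m = j + 2 :=
    ⟨Nat.log p m - 2, by have := Nat.le_log_of_pow_le hp.out.one_lt hmp; omega⟩
  have hlo : p ^ (j + 2) ≤ m := by rw [← hj]; exact Nat.pow_log_le_self p hm0
  have hhi : m < p ^ (j + 2 + 1) := by rw [← hj]; exact Nat.lt_pow_succ_log_self hp.out.one_lt m
  obtain ⟨t, ht⟩ : ∃ t, m = p ^ (j + 2) + t := Nat.exists_eq_add_of_le hlo
  haveI : NeZero p := ⟨hp.out.ne_zero⟩
  obtain ⟨T, hT⟩ : ∃ T : Sylow p (Perm (Fin t)), 2 ≤ t → p = 2 →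
      ∃ s ∈ (T : Subgroup (Perm (Fin t))), Perm.sign s = -1 := by
    by_cases h : 2 ≤ t ∧ p = 2
    · obtain ⟨h2, rfl⟩ := h
      set s : Perm (Fin t) := swap ⟨0, by omega⟩ ⟨1, by omega⟩ with hs
      have hne : (⟨0, by omega⟩ : Fin t) ≠ ⟨1, by omega⟩ := by simp
      obtain ⟨T, hT⟩ := (IsPGroup.of_card (p := 2) (n := 1) (G := Subgroup.zpowers s) (by
        rw [Nat.card_zpowers, pow_one]
        exact orderOf_eq_prime (by rw [sq, hs, swap_mul_self]) (fun h1 => by
          have := congrArg Perm.sign h1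
          rw [hs, Perm.sign_swap hne, map_one] at this
          exact absurd this (by decide)))).exists_le_sylow
      exact ⟨T, fun _ _ => ⟨s, hT (Subgroup.mem_zpowers s), Perm.sign_swap hne⟩⟩
    · exact ⟨default, fun h1 h2 => absurd ⟨h1, h2⟩ h⟩
  have hcard : Fintype.card ((Fin (j + 2) → Cp p) ⊕ Fin t) = Fintype.card (Fin w × ZMod p) := by
    simp [ZMod.card, ← ht, hm, mul_comm]
  let e := Fintype.equivOfCardEq hcard
  let f : IteratedWreathProduct (Cp p) (j + 2) × (T : Subgroup (Perm (Fin t))) →*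
      Perm (Fin w × ZMod p) :=
    (e.permCongrHom : Perm ((Fin (j + 2) → Cp p) ⊕ Fin t) ≃* _).toMonoidHom.comp
      ((Perm.sumCongrHom _ _).comp
        ((iteratedWreathToPermHom (Cp p) (j + 2)).prodMap (T : Subgroup (Perm (Fin t))).subtype))
  have hf : Function.Injective f := fun a b hab => by
    have h1 := Perm.sumCongrHom_injective (e.permCongrHom.injective hab)
    exact Prod.ext (iteratedWreathToPermHomInj _ _ (congrArg Prod.fst h1))
      (Subtype.ext (congrArg Prod.snd h1))
  have hsign : ∀ a, Perm.sign (f a) = Perm.sign (iteratedWreathToPermHom (Cp p) (j + 2) a.1) *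
      Perm.sign (a.2 : Perm (Fin t)) := fun a => by
    show Perm.sign (e.permCongr (Perm.sumCongr _ _)) = _
    rw [Perm.sign_permCongr, Perm.sign_sumCongr]
    rfl
  have hPcard : Nat.card f.range = p ^ (m.factorial.factorization p) := by
    rw [← Nat.card_congr (MonoidHom.ofInjective hf).toEquiv, Nat.card_prod,
      IteratedWreathProduct.card, T.card_eq_multiplicity, ht, fac_top (by rw [← ht]; exact hhi),
      pow_add, Nat.card_perm, Nat.card_eq_fintype_card, Fintype.card_multiplicative, ZMod.card,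
      Nat.card_eq_fintype_card, Fintype.card_fin,
      ← Nat.multiplicity_eq_factorization hp.out (p ^ (j + 2)).factorial_ne_zero,
      Nat.Prime.multiplicity_factorial_pow hp.out]
  refine ⟨f.range, hPcard, ?_⟩
  set R : Subgroup (Perm (Fin w × ZMod p)) := f.range ⊓ alternatingGroup (Fin w × ZMod p) with hR
  let F : R →* (Cp p) ≀ᵣ (Cp p) := (topTwo p j).comp ((MonoidHom.fst _ _).comp
    ((MonoidHom.ofInjective hf).symm.toMonoidHom.comp (Subgroup.inclusion inf_le_left)))
  have hF : ∀ a (ha : f a ∈ R), F ⟨f a, ha⟩ = topTwo p j a.1 := fun a ha => by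
    have h1 : (MonoidHom.ofInjective hf).symm ⟨f a, ⟨a, rfl⟩⟩ = a :=
      (MonoidHom.ofInjective hf).symm_apply_eq.2 (Subtype.ext rfl)
    show topTwo p j ((MonoidHom.ofInjective hf).symm ⟨f a, _⟩).1 = _
    rw [h1]
  have hsurj : Function.Surjective F := by
    intro y
    obtain ⟨x, hx⟩ := topTwo_surjective j y
    -- an element of the kernel that is odd, at two
    obtain ⟨c, hc, hcodd⟩ : ∃ c : IteratedWreathProduct (Cp p) (j + 2) ×
        (T : Subgroup (Perm (Fin t))), topTwo p j c.1 = 1 ∧
        (Perm.sign (f (x, 1)) * Perm.sign (f c) = 1) := by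
      by_cases h1 : Perm.sign (f (x, 1)) = 1
      · exact ⟨1, map_one _, by rw [h1, map_one, map_one, mul_one]⟩
      have h1' : Perm.sign (f (x, 1)) = -1 := (Int.units_eq_one_or _).resolve_left h1
      obtain ⟨rfl⟩ : Nonempty (p = 2) := by
        refine ⟨by_contra fun h2 => h1 ?_⟩
        obtain ⟨i, hi⟩ := IsPGroup.iff_orderOf.1 (IsPGroup.of_card hPcard)
          (⟨f (x, 1), _, rfl⟩ : f.range)
        rw [← Subgroup.orderOf_coe] at hi
        simp only at hi
        rcases Int.units_eq_one_or (Perm.sign (f (x, 1))) with h | h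
        · exact h
        · have h3 := congrArg Perm.sign (pow_orderOf_eq_one (f (x, 1)))
          rw [map_pow, h, map_one, hi, Odd.neg_one_pow (Odd.pow (hp.out.odd_of_ne_two h2))] at h3
          exact absurd h3 (by decide)
      by_cases ht2 : 2 ≤ t
      · obtain ⟨s, hs, hsodd⟩ := hT ht2 rfl
        exact ⟨(1, ⟨s, hs⟩), map_one _, by rw [h1', hsign, map_one, map_one, hsodd]; decide⟩
      · obtain ⟨i, rfl⟩ : ∃ i, j = i + 1 := by
          rcases Nat.eq_zero_or_pos j with rfl | hj0
          · simp at ht hhi; omega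
          · exact ⟨j - 1, by omega⟩
        refine ⟨(bottomElt (i + 2), 1), topTwo_bottomElt i, ?_⟩
        rw [h1', hsign, sign_bottomElt, Subgroup.coe_one, map_one]
        decide
    have hmem : f ((x, 1) * c) ∈ R := by
      refine ⟨⟨_, rfl⟩, Equiv.Perm.mem_alternatingGroup.2 ?_⟩
      rw [map_mul, map_mul]
      exact hcodd
    exact ⟨⟨_, hmem⟩, by rw [hF, Prod.fst_mul, map_mul, hx, hc, mul_one]⟩
  obtain ⟨φ, hφ⟩ := exists_degree_wreath (p := p)
  refine ⟨⟨_, CfsgLib.OddOrder.CharTools.isIrrCharacter_comp φ.2 F hsurj⟩, ?_⟩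
  refine Eq.trans ?_ hφ
  simp [charDegree]

end CfsgLib.SymBlocks
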