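import Cfsg.Agent.Lib.SymBlocks.BlockData
import Cfsg.Agent.Lib.SymBlocks.SylowDegree
import Cfsg.Agent.Lib.Blocks12.Bounds
import Cfsg.Agent.Lib.BlockCover.KnorrCover

/-!
# The least positive height in a block of an alternating group
-/

set_option autoImplicit false

noncomputable section

open scoped Classical ComplexConjugate

namespace CfsgLib.SymBlocks

open Equiv Cfsg CfsgLib.Blocks CfsgLib.Characters CfsgLib.ClassCount

variable {n p : ℕ} {M : Ideal AlgInt}

theorem no_sq_eq_two_sq {d e : ℕ} (hd : d ≠ 0) (he : e ≠ 0) : d * d ≠ 2 * (e * e) := by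
  intro h
  have h1 := congrArg (fun m : ℕ => m.factorization 2) h
  simp only [Nat.factorization_mul hd hd, Nat.factorization_mul two_ne_zero (mul_ne_zero he he),
    Nat.factorization_mul he he, Finsupp.add_apply, Nat.prime_two.factorization_self] at h1
  omega

/-- The degree of a constituent on the alternating group. -/
theorem degree_cases {τ : Perm (Fin n)} (hτ : τ ∉ alternatingGroup (Fin n))
    (χ : IrrCharacter (Perm (Fin n))) (ψ : IrrCharacter (alternatingGroup (Fin n)))
    (h : classInner (fun a : alternatingGroup (Fin n) => (χ : Perm (Fin n) → ℂ) a)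
      (ψ : alternatingGroup (Fin n) → ℂ) ≠ 0) :
    (sgnTw χ ≠ χ ∧ charDegree (χ : Perm (Fin n) → ℂ) =
        charDegree (ψ : alternatingGroup (Fin n) → ℂ)) ∨
      (sgnTw χ = χ ∧ charDegree (χ : Perm (Fin n) → ℂ) =
        2 * charDegree (ψ : alternatingGroup (Fin n) → ℂ)) := by
  set d := charDegree (χ : Perm (Fin n) → ℂ) with hd
  set e := charDegree (ψ : (alternatingGroup (Fin n)) → ℂ) with he
  have hd0 : d ≠ 0 := (degree_eq χ).2.2.ne'
  have he0 : e ≠ 0 := (degree_eq ψ).2.2.ne'
  set u : (alternatingGroup (Fin n)) → ℂ := (ψ : (alternatingGroup (Fin n)) → ℂ) + twA τ (ψ : (alternatingGroup (Fin n)) → ℂ) with hu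
  set c : ℂ := (d : ℂ) / (2 * (e : ℂ)) with hc
  have hnt : Nontrivial (Fin n) := by
    by_contra hn
    rw [not_nontrivial_iff_subsingleton] at hn
    exact hτ (by rw [Subsingleton.elim τ 1]; exact Subgroup.one_mem _)
  have hres : (fun a : (alternatingGroup (Fin n)) => (χ : Perm (Fin n) → ℂ) a) = c • u := funext fun a => by
    rw [CharCorr.res_eq_avgConj (alternatingGroup (Fin n)) χ ψ h a, Pi.smul_apply, smul_eq_mul, hu,
      Pi.add_apply, ← indFun_apply_alt hτ (irr_isClassFunction ψ) a,
      CfsgLib.Induction.indFun_normal_apply, CharCorr.avgConj, hc, (degree_eq χ).1, ← hd,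
      ← Finset.sum_div, (degree_eq ψ).1, ← he]
    have e1 : ∀ g : Perm (Fin n), (CharCorr.conjIrr (alternatingGroup (Fin n)) g ψ : (alternatingGroup (Fin n)) → ℂ) a = (ψ : (alternatingGroup (Fin n)) → ℂ)
        ⟨g * a * g⁻¹, (inferInstance : (alternatingGroup (Fin n)).Normal).conj_mem a a.2 g⟩ := fun g =>
      CharCorr.conjIrr_apply (alternatingGroup (Fin n)) g ψ a
    simp only [e1]
    rw [show (Nat.card (Perm (Fin n)) : ℂ) = 2 * (Nat.card (alternatingGroup (Fin n)) : ℂ) by
      rw [← two_mul_nat_card_alternatingGroup (α := Fin n)]; push_cast; rfl]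
    ring
  have hcc : conj c = c := by rw [hc]; simp [map_ofNat]
  have hcu : classInner (fun a : (alternatingGroup (Fin n)) => (χ : Perm (Fin n) → ℂ) a)
      (fun a : (alternatingGroup (Fin n)) => (χ : Perm (Fin n) → ℂ) a) = c * c * classInner u u := by
    rw [hres, classInner_smul_left, classInner_smul_right, hcc, mul_assoc]
  have hfrob : classInner (fun a : (alternatingGroup (Fin n)) => (χ : Perm (Fin n) → ℂ) a)
      (fun a : (alternatingGroup (Fin n)) => (χ : Perm (Fin n) → ℂ) a) =
      1 + classInner (sgnTw χ : Perm (Fin n) → ℂ) (χ : Perm (Fin n) → ℂ) := by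
    rw [← CfsgLib.Induction.classInner_indFun (alternatingGroup (Fin n)) _ (irr_isClassFunction χ),
      ← classInner_irr_self χ.2, ← classInner_add_left]
    congr 1
    funext g
    by_cases hg : g ∈ (alternatingGroup (Fin n))
    · rw [show g = ((⟨g, hg⟩ : (alternatingGroup (Fin n))) : Perm (Fin n)) from rfl,
        indFun_apply_alt hτ (fun a b => irr_isClassFunction χ _ _) ⟨g, hg⟩, twA_apply,
        Pi.add_apply, sgnTw_apply_alt, irr_isClassFunction χ _ τ]
    · rw [indFun_eq_zero_of_odd _ hg, Pi.add_apply, sgnTw_apply,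
        (Int.units_eq_one_or (Perm.sign g)).resolve_left (by rwa [← Equiv.Perm.mem_alternatingGroup])]
      simp
  rw [hfrob] at hcu
  have htw : IsIrrCharacter (alternatingGroup (Fin n)) (twA τ (ψ : (alternatingGroup (Fin n)) → ℂ)) := CfsgLib.Clifford.isIrrCharacter_conjChar _ ψ.2 τ
  have hu2 : (twA τ (ψ : (alternatingGroup (Fin n)) → ℂ) = (ψ : (alternatingGroup (Fin n)) → ℂ) ∧ classInner u u = 4) ∨ classInner u u = 2 := by
    by_cases ht : twA τ (ψ : (alternatingGroup (Fin n)) → ℂ) = (ψ : (alternatingGroup (Fin n)) → ℂ)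
    · refine Or.inl ⟨ht, ?_⟩
      rw [hu, ht, classInner_add_left, classInner_add_right, classInner_irr_self ψ.2]
      norm_num
    · refine Or.inr ?_
      rw [hu, classInner_add_left, classInner_add_right, classInner_add_right,
        classInner_irr_self ψ.2, classInner_irr_self htw,
        classInner_irr_ne (ψ := twA τ (ψ : (alternatingGroup (Fin n)) → ℂ)) ψ.2 htw (Ne.symm ht),
        classInner_irr_ne (ψ := (ψ : (alternatingGroup (Fin n)) → ℂ)) htw ψ.2 ht]
      norm_num
  have hne2 : (2 : ℂ) * (e : ℂ) ≠ 0 := by simp [he0]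
  by_cases hfix : sgnTw χ = χ
  · rw [hfix, classInner_irr_self χ.2] at hcu
    refine Or.inr ⟨hfix, ?_⟩
    rcases hu2 with ⟨-, h4⟩ | h2
    · rw [h4, hc] at hcu
      have : ((2 * (e * e) : ℕ) : ℂ) = ((d * d : ℕ) : ℂ) := by
        push_cast
        field_simp at hcu
        linear_combination hcu / 4
      exact absurd (Nat.cast_injective this).symm (no_sq_eq_two_sq hd0 he0)
    · rw [h2, hc] at hcu
      have : ((2 * e * (2 * e) : ℕ) : ℂ) = ((d * d : ℕ) : ℂ) := by
        push_cast
        field_simp at hcu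
        linear_combination hcu
      exact (Nat.mul_self_inj.1 (Nat.cast_injective this)).symm
  · rw [classInner_irr_ne (sgnTw χ).2 χ.2 (fun e' => hfix (Subtype.ext e')), add_zero] at hcu
    refine Or.inl ⟨hfix, ?_⟩
    rcases hu2 with ⟨-, h4⟩ | h2
    · rw [h4, hc] at hcu
      have : ((e * e : ℕ) : ℂ) = ((d * d : ℕ) : ℂ) := by
        push_cast
        field_simp at hcu
        linear_combination hcu / 4
      exact (Nat.mul_self_inj.1 (Nat.cast_injective this)).symm
    · rw [h2, hc] at hcu
      have : ((2 * (e * e) : ℕ) : ℂ) = ((d * d : ℕ) : ℂ) := by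
        push_cast
        field_simp at hcu
        linear_combination hcu
      exact absurd (Nat.cast_injective this).symm (no_sq_eq_two_sq hd0 he0)

/-- The data over one block of the alternating group. -/
theorem exists_over [Fact p.Prime] (hM : IsPModular p M)
    {B : Set (IrrCharacter (alternatingGroup (Fin n)))} (hB : IsPBlock M B)
    {D : Subgroup (alternatingGroup (Fin n))} (hD : IsDefectGroup p M B D)
    {θ : IrrCharacter (alternatingGroup (Fin n))} (hθ : θ ∈ B) :
    ∃ (χ : IrrCharacter (Perm (Fin n))) (β : Exp n) (w : ℕ) (P : Subgroup (Perm (Fin n))),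
      classInner (fun a : alternatingGroup (Fin n) => (χ : Perm (Fin n) → ℂ) a)
        (θ : alternatingGroup (Fin n) → ℂ) ≠ 0 ∧
      Adm n β ∧ Rep β χ ∧ 2 * qSum p β = pairCount (resCount p β) + 2 * (w : ℤ) ∧
      IsDefectGroup p M (blockOf M (χ : Perm (Fin n) → ℂ)) P ∧
      P ⊓ alternatingGroup (Fin n) = D.map (alternatingGroup (Fin n)).subtype ∧
      Nat.card P = p ^ (p * w).factorial.factorization p ∧
      Nat.card P = Nat.card D * (if p = 2 ∧ 1 ≤ w then 2 else 1) := by
  obtain ⟨χ, hχ⟩ := CfsgLib.NormalRes.exists_mult_ne_zero_of_irr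
    (G := Perm (Fin n)) (alternatingGroup (Fin n)) θ
  obtain ⟨β, hβ, hrep⟩ := exists_rep χ
  obtain ⟨w, hw⟩ := exists_weight (p := p) hβ.inj hβ.nonneg
  have hBh : IsPBlock M (blockOf M (χ : Perm (Fin n) → ℂ)) := isPBlock_blockOf χ
  have hmem := mem_blockOf_self hM χ
  obtain ⟨P, hP, hPA⟩ := CfsgLib.BlockCover.exists_defectGroup_inter_eq
    (alternatingGroup (Fin n)) hM hBh hB hmem hθ hχ hD
  have hcard : Nat.card P = p ^ (p * w).factorial.factorization p := by
    rw [CfsgLib.BlockCover.natCard_defect hM hBh hP, blockDefect_eq_weight hM hBh hβ hmem hrep hw]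
  refine ⟨χ, β, w, P, hχ, hβ, hrep, hw, hP, hPA, hcard, ?_⟩
  have hDcard : Nat.card D = Nat.card ↥(P ⊓ alternatingGroup (Fin n) : Subgroup _) := by
    rw [hPA, Subgroup.card_map_of_injective (Subgroup.subtype_injective _)]
  rw [hDcard]
  split_ifs with h2
  · obtain ⟨rfl, hw1⟩ := h2
    -- a full subgroup with an odd element
    set s : Perm (Fin w × ZMod 2) := swap (⟨0, hw1⟩, 0) (⟨0, hw1⟩, 1) with hs
    have hne : ((⟨0, hw1⟩, 0) : Fin w × ZMod 2) ≠ (⟨0, hw1⟩, 1) := by simp
    obtain ⟨T, hT⟩ := (IsPGroup.of_card (p := 2) (n := 1) (G := Subgroup.zpowers s) (by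
      rw [Nat.card_zpowers, pow_one]
      exact orderOf_eq_prime (by rw [sq, hs, swap_mul_self]) (fun h1 => by
        have := congrArg Perm.sign h1
        rw [hs, Perm.sign_swap hne, map_one] at this
        exact absurd this (by decide)))).exists_le_sylow
    obtain ⟨φ, -, hsign, hmap⟩ := exists_defect_image hM hBh hβ hmem hrep hw hP
      (P := (T : Subgroup _)) (by
        rw [T.card_eq_multiplicity, Nat.card_perm, Nat.card_prod, Nat.card_fin, Nat.card_zmod,
          mul_comm])
    have hodd : φ s ∈ P := hmap ▸ Subgroup.mem_map_of_mem φ (hT (Subgroup.mem_zpowers s))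
    let f : P →* ℤˣ := Perm.sign.comp P.subtype
    have hfs : Function.Surjective f := fun z => by
      rcases Int.units_eq_one_or z with rfl | rfl
      · exact ⟨1, map_one _⟩
      · exact ⟨⟨φ s, hodd⟩, by show Perm.sign (φ s) = -1; rw [hsign, hs, Perm.sign_swap hne]⟩
    rw [← Subgroup.card_mul_index f.ker, Subgroup.index_ker, MonoidHom.range_eq_top.2 hfs,
      Subgroup.card_top, show Nat.card ℤˣ = 2 by rw [Nat.card_eq_fintype_card]; decide]
    congr 1
    exact Nat.card_congr
      { toFun := fun a => ⟨a.1.1, a.1.2, Equiv.Perm.mem_alternatingGroup.2 a.2⟩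
        invFun := fun a => ⟨⟨a.1, a.2.1⟩, Equiv.Perm.mem_alternatingGroup.1 a.2.2⟩
        left_inv := fun _ => rfl
        right_inv := fun _ => rfl }
  · rw [mul_one]
    have hPle : P ≤ alternatingGroup (Fin n) := by
      intro x hx
      rw [Equiv.Perm.mem_alternatingGroup]
      by_cases hp2 : p = 2
      · subst hp2
        obtain rfl : w = 0 := by omega
        rw [mul_zero, Nat.factorial_zero, Nat.factorization_one] at hcard
        have hbot : P = ⊥ := Subgroup.eq_bot_of_card_eq _ (by rw [hcard]; simp)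
        rw [hbot, Subgroup.mem_bot] at hx
        rw [hx, map_one]
      · rcases Int.units_eq_one_or (Perm.sign x) with h | h
        · exact h
        · obtain ⟨i, hi⟩ := IsPGroup.iff_orderOf.1 (IsPGroup.of_card hcard) ⟨x, hx⟩
          rw [← Subgroup.orderOf_coe] at hi
          simp only at hi
          have h3 := congrArg Perm.sign (pow_orderOf_eq_one x)
          rw [map_pow, h, map_one, hi,
            Odd.neg_one_pow (Odd.pow ((Fact.out : p.Prime).odd_of_ne_two hp2))] at h3
          exact absurd h3 (by decide)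
    rw [inf_eq_left.2 hPle]

theorem alt_heights [Fact p.Prime] (hM : IsPModular p M)
    {B : Set (IrrCharacter (alternatingGroup (Fin n)))} (hB : IsPBlock M B)
    {D : Subgroup (alternatingGroup (Fin n))} (hD : IsDefectGroup p M B D) :
    ((∃ χ : IrrCharacter ↥(alternatingGroup (Fin n)), χ ∈ B ∧
        blockHeight p B (χ : ↥(alternatingGroup (Fin n)) → ℂ) = 1) ∧
      (∃ φ : IrrCharacter ↥D, charDegree (φ : ↥D → ℂ) = p)) ∨
    ((∀ χ : IrrCharacter ↥(alternatingGroup (Fin n)), χ ∈ B →
        blockHeight p B (χ : ↥(alternatingGroup (Fin n)) → ℂ) = 0) ∧ IsMulCommutative D) := by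
  rcases Nat.lt_or_ge n 2 with hn | hn
  · have hss : Subsingleton (alternatingGroup (Fin n)) := by
      have : Subsingleton (Fin n) := Fin.subsingleton_iff_le_one.2 (by omega)
      infer_instance
    refine Or.inr ⟨fun χ _ => ?_, ⟨⟨fun a b => Subsingleton.elim _ _⟩⟩⟩
    have h1 : charDegree (χ : ↥(alternatingGroup (Fin n)) → ℂ) = 1 := by
      have h := (degree_eq χ).2.1
      rw [Nat.card_unique] at h
      exact Nat.dvd_one.1 h
    simp [blockHeight, h1]
  set τ : Perm (Fin n) := swap ⟨0, by omega⟩ ⟨1, by omega⟩ with hτdef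
  have hτ : τ ∉ (alternatingGroup (Fin n)) := by
    rw [Equiv.Perm.mem_alternatingGroup, hτdef, Perm.sign_swap (by simp)]
    decide
  have : Nontrivial (Fin n) := ⟨⟨0, by omega⟩, ⟨1, by omega⟩, by simp⟩
  -- the least exponent of a degree in the block
  have hcardA : (Nat.card (alternatingGroup (Fin n))).factorization p + (if p = 2 then 1 else 0) =
      n.factorial.factorization p := by
    have h2 := two_mul_nat_card_alternatingGroup (α := Fin n)
    rw [Nat.card_perm, Nat.card_eq_fintype_card (α := Fin n), Fintype.card_fin] at h2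
    rw [← h2, Nat.factorization_mul two_ne_zero Nat.card_pos.ne', Finsupp.add_apply,
      Nat.prime_two.factorization, Finsupp.single_apply, add_comm]
    simp [eq_comm]
  set m₀ := sInf ((fun ψ : IrrCharacter (alternatingGroup (Fin n)) => (charDegree (ψ : (alternatingGroup (Fin n)) → ℂ)).factorization p) '' B)
    with hm₀
  have hbd : blockDefect p B = (Nat.card (alternatingGroup (Fin n))).factorization p - m₀ := rfl
  have hDbd : Nat.card D = p ^ blockDefect p B := CfsgLib.BlockCover.natCard_defect hM hB hD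
  have hm₀le : ∀ ψ ∈ B, m₀ ≤ (charDegree (ψ : (alternatingGroup (Fin n)) → ℂ)).factorization p ∧
      (charDegree (ψ : (alternatingGroup (Fin n)) → ℂ)).factorization p ≤ (Nat.card (alternatingGroup (Fin n))).factorization p := fun ψ hψ =>
    ⟨Nat.sInf_le ⟨ψ, hψ, rfl⟩,
      (Nat.factorization_le_iff_dvd (degree_eq ψ).2.2.ne' Nat.card_pos.ne').2 (degree_eq ψ).2.1 p⟩
  obtain ⟨θ, hθ⟩ := IsPBlock.nonempty hM hB
  obtain ⟨χ₀, β₀, w, P, hcov, hβ₀, hrep, hw, hP, hPA, hPcard, hPD⟩ := exists_over hM hB hD hθ
  have hexp : ∀ {v : ℕ} {Q : Subgroup (Perm (Fin n))},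
      Nat.card Q = p ^ (p * v).factorial.factorization p →
      Nat.card Q = Nat.card D * (if p = 2 ∧ 1 ≤ v then 2 else 1) →
      (p * v).factorial.factorization p =
        blockDefect p B + (if p = 2 ∧ 1 ≤ v then 1 else 0) := by
    intro v Q h1 h2
    rw [h1, hDbd] at h2
    refine Nat.pow_right_injective (Fact.out : p.Prime).two_le ?_
    show p ^ _ = p ^ _
    rw [h2, pow_add]
    split_ifs with h
    · rw [pow_one, h.1]
    · rw [pow_zero]
  have hdw := hexp hPcard hPD
  have hBh : IsPBlock M (blockOf M (χ₀ : Perm (Fin n) → ℂ)) := isPBlock_blockOf χ₀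
  have hmem₀ := mem_blockOf_self hM χ₀
  by_cases hlarge : p ≤ w ∧ 3 ≤ w
  · left
    constructor
    · obtain ⟨β, hβ, hc, hdeg, hns⟩ := exists_height_one_config hβ₀ hw hlarge
      obtain ⟨χ, hχ⟩ := chi_irr hβ
      have hmem : χ ∈ blockOf M (χ₀ : Perm (Fin n) → ℂ) :=
        sameBlock_of_core hM hβ₀ hβ hrep hχ hc
      obtain ⟨θ', hθ', hne⟩ := CfsgLib.BlockCover.covers_of_congr (alternatingGroup (Fin n)) hM hB χ hθ
        fun a => CfsgLib.BlockCover.congr_of_covers (alternatingGroup (Fin n)) hM hBh hB hmem₀ hθ hcov hmem hθ a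
      refine ⟨θ', hθ', ?_⟩
      show (charDegree (θ' : (alternatingGroup (Fin n)) → ℂ)).factorization p - m₀ = 1
      obtain ⟨hlo, hhi⟩ := hm₀le θ' hθ'
      have hχdeg := Rep.charDegree hχ
      rw [← hχdeg] at hdeg
      rcases degree_cases hτ χ θ' hne with ⟨-, hd⟩ | ⟨hfix, hd⟩
      · rw [hd] at hdeg
        have := hlarge.2
        by_cases h2 : p = 2
        · rw [if_pos h2] at hcardA
          rw [if_pos ⟨h2, by omega⟩] at hdw
          omega
        · rw [if_neg h2] at hcardA
          rw [if_neg fun h => h2 h.1] at hdw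
          omega
      · have h2 : p ≠ 2 := fun h2 => hns h2 (by
          obtain ⟨ε, hε, hεχ⟩ := Rep.smul hχ
          exact selfMirror_of_fixed hβ hfix hε hεχ)
        rw [hd, Nat.factorization_mul two_ne_zero (degree_eq θ').2.2.ne', Finsupp.add_apply,
          Nat.prime_two.factorization, Finsupp.single_apply, if_neg (Ne.symm h2), zero_add] at hdeg
        rw [if_neg h2] at hcardA
        rw [if_neg fun h => h2 h.1] at hdw
        omega
    · obtain ⟨P₀, hP₀, φ₀, hφ₀⟩ := exists_sylow_degree (p := p) hlarge.1 hlarge.2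
      obtain ⟨φ, hφi, hsign, hmap⟩ := exists_defect_image hM hBh hβ₀ hmem₀ hrep hw hP hP₀
      have hR : (P₀ ⊓ alternatingGroup (Fin w × ZMod p)).map φ = D.map (alternatingGroup (Fin n)).subtype := by
        rw [← hPA, ← hmap]
        ext x
        constructor
        · rintro ⟨ρ, ⟨hρ, hρA⟩, rfl⟩
          exact ⟨Subgroup.mem_map_of_mem φ hρ, Equiv.Perm.mem_alternatingGroup.2
            (by rw [hsign]; exact Equiv.Perm.mem_alternatingGroup.1 hρA)⟩
        · rintro ⟨⟨ρ, hρ, rfl⟩, hxA⟩
          exact ⟨ρ, ⟨hρ, Equiv.Perm.mem_alternatingGroup.2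
            (by rw [← hsign]; exact Equiv.Perm.mem_alternatingGroup.1 hxA)⟩, rfl⟩
      let e : D ≃* ↥(P₀ ⊓ alternatingGroup (Fin w × ZMod p) : Subgroup _) :=
        ((D.equivMapOfInjective (alternatingGroup (Fin n)).subtype (Subgroup.subtype_injective _)).trans
          (MulEquiv.subgroupCongr hR.symm)).trans
          ((P₀ ⊓ alternatingGroup (Fin w × ZMod p)).equivMapOfInjective φ hφi).symm
      refine ⟨CharCorr.twistIrr e φ₀, Eq.trans ?_ hφ₀⟩
      simp [charDegree]
  · right
    have hsmall : w < p ∨ (p = 2 ∧ w = 2) := by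
      have := (Fact.out : p.Prime).two_le
      omega
    have hdfac : ∀ {v : ℕ}, v < p → (p * v).factorial.factorization p = v := fun {v} hv => by
      rw [fac_mul, fac_small hv, add_zero]
    constructor
    · intro ψ hψ
      obtain ⟨hlo, hhi⟩ := hm₀le ψ hψ
      show (charDegree (ψ : (alternatingGroup (Fin n)) → ℂ)).factorization p - m₀ = 0
      by_cases h2 : p = 2
      · subst h2
        have hb : blockDefect 2 B ≤ 2 := by
          rcases (show w = 0 ∨ w = 1 ∨ w = 2 by omega) with rfl | rfl | rfl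
          · rw [hdfac (by norm_num)] at hdw; omega
          · rw [hdfac (by norm_num)] at hdw; omega
          · rw [fac_mul, show (Nat.factorial 2) = 2 from rfl,
              Nat.prime_two.factorization_self] at hdw
            simp at hdw
            omega
        by_contra hne
        have hdvd : 2 ^ ((charDegree (ψ : (alternatingGroup (Fin n)) → ℂ)).factorization 2 - m₀) ∣
            CfsgLib.Contribution.red 2 B ψ := by
          rw [CfsgLib.Contribution.pow_dvd_red Nat.prime_two hψ]
          show m₀ + _ ≤ _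
          omega
        have := CfsgLib.Contribution.height_bound hM hB hψ _ (Nat.pos_of_ne_zero hne) hdvd
        omega
      · obtain ⟨χ, β, v, Q, hne, hβ, hr, hv, -, -, hQcard, hQD⟩ := exists_over hM hB hD hψ
        have hdv := hexp hQcard hQD
        rw [if_neg fun h => h2 h.1] at hdv hdw
        rw [if_neg h2] at hcardA
        have hwp : w < p := hsmall.resolve_right fun h => h2 h.1
        rw [hdfac hwp] at hdw
        have hvp : v < p := by
          rw [fac_mul] at hdv
          omega
        rw [hdfac hvp] at hdv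
        have hdeg := two_deg_small (p := p) hβ hv hvp
        rw [← Rep.charDegree hr] at hdeg
        rcases degree_cases hτ χ ψ hne with ⟨-, hd⟩ | ⟨-, hd⟩
        · rw [hd] at hdeg
          omega
        · rw [hd, Nat.factorization_mul two_ne_zero (degree_eq ψ).2.2.ne', Finsupp.add_apply,
            Nat.prime_two.factorization, Finsupp.single_apply, if_neg (Ne.symm h2), zero_add]
            at hdeg
          omega
    · rcases hsmall with hwp | ⟨rfl, rfl⟩
      · obtain ⟨ε₀, -, hchi⟩ := hrep.smul
        obtain ⟨D', E, hD', hED, hEc, -, hEcard⟩ := exists_elementary hM hBh hβ₀ hmem₀ hchi hw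
        have hE : E = D' := Subgroup.eq_of_le_of_card_ge hED (le_of_eq (by
          rw [hEcard, CfsgLib.BlockCover.natCard_defect hM hBh hD',
            blockDefect_eq_weight hM hBh hβ₀ hmem₀ hrep hw, hdfac hwp]))
        obtain ⟨t, ht⟩ := CfsgLib.BlockCover.defectGroup_conjugate hM hBh hD' hP
        refine ⟨⟨fun x y => Subtype.ext (Subtype.ext ?_)⟩⟩
        have hmem : ∀ z : D, ((z : (alternatingGroup (Fin n))) : Perm (Fin n)) ∈ D'.map (MulAut.conj t).toMonoidHom := by
          intro z
          rw [← ht]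
          exact ((hPA ▸ (⟨(z : (alternatingGroup (Fin n))), z.2, rfl⟩ : _ ∈ D.map (alternatingGroup (Fin n)).subtype)) :
            ((z : (alternatingGroup (Fin n))) : Perm (Fin n)) ∈ P ⊓ (alternatingGroup (Fin n))).1
        obtain ⟨a, ha, hax⟩ := hmem x
        obtain ⟨b, hb, hby⟩ := hmem y
        simp only [Subgroup.coe_mul]
        rw [← hax, ← hby, ← map_mul, ← map_mul]
        exact congrArg _ (congrArg Subtype.val
          (hEc.is_comm.comm (⟨a, hE ▸ ha⟩ : E) ⟨b, hE ▸ hb⟩))
      · rw [if_pos ⟨rfl, by norm_num⟩, fac_mul, show (Nat.factorial 2) = 2 from rfl,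
          Nat.prime_two.factorization_self] at hdw
        refine IsPGroup.isMulCommutative_of_card_eq_prime_sq (p := 2) ?_
        rw [hDbd]
        congr 1
        omega

end CfsgLib.SymBlocks
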