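import Cfsg.Agent.Lib.SymBlocks.Witness

/-!
# The rank of a block of a symmetric group and the sectional rank of its defect groups
-/

set_option autoImplicit false
set_option linter.style.haveILetI false

noncomputable section

open scoped Classical

namespace CfsgLib.SymBlocks

open Equiv Cfsg CfsgLib.Blocks CfsgLib.Characters

variable {n p : ℕ} {M : Ideal AlgInt}

theorem card_le_of_sectional {G : Type*} [Group G] {s : ℕ} {D : Subgroup G}
    (hs : SectionalPRankLE p s D) {A : Subgroup G} (hAD : A ≤ D) (hc : IsMulCommutative A)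
    (hp : ∀ a ∈ A, a ^ p = 1) : Nat.card A ≤ p ^ s := by
  haveI := hc
  have hmem : ∀ x : A.subgroupOf D, ((x : D) : G) ∈ A := fun x => Subgroup.mem_subgroupOf.1 x.2
  have hA : IsMulCommutative (⊤ : Subgroup ((A.subgroupOf D) ⧸ (⊥ : Subgroup (A.subgroupOf D)))) := by
    refine ⟨⟨fun x y => Subtype.ext ?_⟩⟩
    obtain ⟨a, ha⟩ := QuotientGroup.mk_surjective x.1
    obtain ⟨b, hb⟩ := QuotientGroup.mk_surjective y.1
    rw [Subgroup.coe_mul, Subgroup.coe_mul, ← ha, ← hb, ← QuotientGroup.mk_mul,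
      ← QuotientGroup.mk_mul]
    refine congrArg _ (Subtype.ext (Subtype.ext ?_))
    have hab := congrArg Subtype.val
      (IsMulCommutative.is_comm.comm (⟨_, hmem a⟩ : A) ⟨_, hmem b⟩)
    simpa using hab
  have := hs (A.subgroupOf D) ⊥ ⊤ hA fun x _ => by
    obtain ⟨a, rfl⟩ := QuotientGroup.mk_surjective x
    rw [← QuotientGroup.mk_pow]
    refine (QuotientGroup.eq_one_iff _).2 (Subgroup.mem_bot.2 (Subtype.ext (Subtype.ext ?_)))
    push_cast
    exact hp _ (hmem a)
  rwa [Subgroup.card_top, Nat.card_congr QuotientGroup.quotientBot.toEquiv,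
    Nat.card_congr (Subgroup.subgroupOfEquivOfLe hAD).toEquiv] at this

theorem blockRank_lt [Fact p.Prime] (hM : IsPModular p M)
    {B : Set (IrrCharacter (Perm (Fin n)))} (hB : IsPBlock M B) {D : Subgroup (Perm (Fin n))}
    (hD : IsDefectGroup p M B D) (hD1 : D ≠ ⊥) {s : ℕ} (hs : SectionalPRankLE p s D) :
    blockRank p B < p ^ s := by
  obtain ⟨ψ₀, hψ₀⟩ := IsPBlock.nonempty hM hB
  obtain ⟨β₀, hβ₀, hrep⟩ := exists_rep ψ₀
  obtain ⟨ε₀, hε₀, hchi⟩ : ∃ ε : ℂ, ε ≠ 0 ∧
      (chi β₀ : Perm (Fin n) → ℂ) = ε • (ψ₀ : Perm (Fin n) → ℂ) := by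
    rcases hrep with h | h
    · exact ⟨1, one_ne_zero, by rw [h, one_smul]⟩
    · exact ⟨-1, by norm_num, by rw [h, neg_one_smul]⟩
  obtain ⟨v, hv⟩ := exists_weight (p := p) hβ₀.inj hβ₀.nonneg
  have hrank := blockRank_le hM hB hβ₀ hψ₀ hε₀ hchi hv
  have hp2 := (Fact.out : p.Prime).two_le
  rcases Nat.eq_zero_or_pos v with hv0 | hv0
  · rw [if_pos hv0] at hrank
    have hDp := CfsgLib.BlockCover.isPGroup_defect hM hD
    haveI : Nontrivial D := (Subgroup.nontrivial_iff_ne_bot D).2 hD1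
    obtain ⟨k, hk, hkD⟩ := hDp.nontrivial_iff_card.1 inferInstance
    obtain ⟨g, hg⟩ := exists_prime_orderOf_dvd_card' (G := D) p
      (hkD ▸ dvd_pow_self p hk.ne')
    have hA : Nat.card (Subgroup.zpowers (g : Perm (Fin n))) ≤ p ^ s :=
      card_le_of_sectional hs (Subgroup.zpowers_le.2 g.2) inferInstance fun a ha => by
        obtain ⟨i, rfl⟩ := Subgroup.mem_zpowers_iff.1 ha
        rw [← zpow_natCast, zpow_comm, zpow_natCast]
        have : ((g : Perm (Fin n))) ^ p = 1 := by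
          rw [← Subgroup.coe_pow, ← hg, pow_orderOf_eq_one]; rfl
        rw [this, one_zpow]
    rw [Nat.card_zpowers, Subgroup.orderOf_coe, hg] at hA
    omega
  · rw [if_neg hv0.ne'] at hrank
    obtain ⟨D', A, hD', hAD', hAc, hAp, hAcard⟩ := exists_elementary hM hB hβ₀ hψ₀ hchi hv
    obtain ⟨t, ht⟩ := CfsgLib.BlockCover.defectGroup_conjugate hM hB hD' hD
    haveI := hAc
    have hA := card_le_of_sectional hs (A := A.map (MulAut.conj t).toMonoidHom)
      (ht ▸ Subgroup.map_mono hAD') inferInstance fun a ha => by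
        obtain ⟨b, hb, rfl⟩ := ha
        rw [← map_pow, hAp b hb, map_one]
    rw [Subgroup.card_map_of_injective (MulAut.conj t).injective, hAcard] at hA
    have : 0 < p ^ v := pow_pos (by omega) v
    omega

end CfsgLib.SymBlocks
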