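import Cfsg.Agent.Lib.SymBlocks.AltBound
import Cfsg.Agent.Lib.SymBlocks.Main
import Cfsg.Agent.Lib.BlockCover.KnorrCover
import Cfsg.Agent.Lib.Blocks.RankOrth

/-!
# Blocks of alternating groups and the sectional rank of their defect groups
-/

set_option autoImplicit false
set_option linter.unusedSectionVars false
set_option linter.unusedVariables false
set_option linter.unusedSimpArgs false
set_option linter.style.haveILetI false

noncomputable section

open scoped Classical

namespace CfsgLib.SymBlocks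

open Equiv Cfsg CfsgLib.Blocks CfsgLib.Characters

variable {n p : ℕ} {M : Ideal AlgInt}

/-- An elementary abelian subgroup of a defect group of a covering block bounds the rank. -/
theorem card_le_of_covering [Fact p.Prime] (hM : IsPModular p M)
    {B : Set (IrrCharacter (alternatingGroup (Fin n)))} (hB : IsPBlock M B)
    {D : Subgroup (alternatingGroup (Fin n))} (hD : IsDefectGroup p M B D) {s : ℕ}
    (hs : SectionalPRankLE p s D) {χ₀ : IrrCharacter (Perm (Fin n))} (hχ₀ : Covers B χ₀)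
    {E D' : Subgroup (Perm (Fin n))}
    (hD' : IsDefectGroup p M (blockOf M (χ₀ : Perm (Fin n) → ℂ)) D') (hED : E ≤ D')
    (hEA : E ≤ alternatingGroup (Fin n)) (hEc : ∀ a ∈ E, ∀ b ∈ E, a * b = b * a)
    (hEp : ∀ a ∈ E, a ^ p = 1) : Nat.card E ≤ p ^ s := by
  obtain ⟨θ, hθ, hcov⟩ := hχ₀
  have hBh : IsPBlock M (blockOf M (χ₀ : Perm (Fin n) → ℂ)) := isPBlock_blockOf χ₀
  obtain ⟨P, hP, hPA⟩ := CfsgLib.BlockCover.exists_defectGroup_inter_eq (alternatingGroup (Fin n))
    hM hBh hB (mem_blockOf_self hM χ₀) hθ hcov hD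
  obtain ⟨t, rfl⟩ := CfsgLib.BlockCover.defectGroup_conjugate hM hBh hD' hP
  set E' : Subgroup (Perm (Fin n)) := E.map (MulAut.conj t).toMonoidHom with hE'
  have hE'A : E' ≤ alternatingGroup (Fin n) := by
    rintro _ ⟨a, ha, rfl⟩
    exact (inferInstance : (alternatingGroup (Fin n)).Normal).conj_mem a (hEA ha) t
  have hle : E'.subgroupOf (alternatingGroup (Fin n)) ≤ D := by
    intro a ha
    have h1 : (a : Perm (Fin n)) ∈
        D'.map (MulAut.conj t).toMonoidHom ⊓ alternatingGroup (Fin n) :=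
      ⟨Subgroup.map_mono hED (Subgroup.mem_subgroupOf.1 ha), a.2⟩
    rw [hPA] at h1
    obtain ⟨d, hd, hda⟩ := h1
    rwa [show a = d from Subtype.ext hda.symm]
  have hc : IsMulCommutative (E'.subgroupOf (alternatingGroup (Fin n))) := by
    refine ⟨⟨fun x y => Subtype.ext (Subtype.ext ?_)⟩⟩
    obtain ⟨a, ha, hax⟩ := Subgroup.mem_subgroupOf.1 x.2
    obtain ⟨b, hb, hby⟩ := Subgroup.mem_subgroupOf.1 y.2
    simp only [Subgroup.coe_mul]
    rw [← hax, ← hby, ← map_mul, ← map_mul, hEc a ha b hb]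
  have hp' : ∀ x ∈ E'.subgroupOf (alternatingGroup (Fin n)), x ^ p = 1 := by
    intro x hx
    obtain ⟨a, ha, hax⟩ := Subgroup.mem_subgroupOf.1 hx
    refine Subtype.ext ?_
    rw [Subgroup.coe_pow, Subgroup.coe_one, ← hax, ← map_pow, hEp a ha, map_one]
  have h := card_le_of_sectional hs hle hc hp'
  rwa [Nat.card_congr (Subgroup.subgroupOfEquivOfLe hE'A).toEquiv,
    Subgroup.card_map_of_injective (MulAut.conj t).injective] at h

/-! ## The four-group for weight two at the prime `2` -/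

/-- A permutation of the moved points. -/
def embPts (v p r : ℕ) : Perm (Fin v × ZMod p) →* Perm (Pts v p r) :=
  (Perm.sumCongrHom (Fin v × ZMod p) (Fin r)).comp
    (MonoidHom.inl (Perm (Fin v × ZMod p)) (Perm (Fin r)))

theorem embPts_inl (v p r : ℕ) (s : Perm (Fin v × ZMod p)) (z : Fin v × ZMod p) :
    embPts v p r s (Sum.inl z) = Sum.inl (s z) := rfl

theorem embPts_inr (v p r : ℕ) (s : Perm (Fin v × ZMod p)) (j : Fin r) :
    embPts v p r s (Sum.inr j) = Sum.inr j := rfl

/-- The two transpositions. -/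
def cyc22 : Perm (Fin 2 × ZMod 2) := Equiv.addRight (0, 1)

theorem cyc22_pow4 : ∀ s : Perm (Fin 2 × ZMod 2), s * cyc22 = cyc22 * s → s ^ 4 = 1 := by
  decide +kernel

/-- The regular four-group. -/
def regFour : Multiplicative (Fin 2 × ZMod 2) →* Perm (Fin 2 × ZMod 2) where
  toFun a := Equiv.addRight a.toAdd
  map_one' := Equiv.ext fun z => by simp
  map_mul' a b := Equiv.ext fun z => by
    simp [Perm.mul_apply, add_comm, add_left_comm, add_assoc]

theorem regFour_props : ∀ a : Multiplicative (Fin 2 × ZMod 2),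
    Perm.sign (regFour a) = 1 ∧ regFour a * cyc22 = cyc22 * regFour a ∧ regFour a ^ 2 = 1 := by
  decide +kernel

theorem baseCyc_two (r : ℕ) : baseCyc 2 2 r = embPts 2 2 r cyc22 := by
  ext z
  rcases z with ⟨i, a⟩ | j
  · show transHom 2 2 r (Multiplicative.ofAdd fun _ => 1) (Sum.inl (i, a)) = _
    rw [transHom_inl, embPts_inl]
    simp [cyc22]
  · show transHom 2 2 r (Multiplicative.ofAdd fun _ => 1) (Sum.inr j) = _
    rw [transHom_inr, embPts_inr]

theorem exists_four [Fact (Nat.Prime 2)] (hM : IsPModular 2 M)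
    {B : Set (IrrCharacter (Perm (Fin n)))} (hB : IsPBlock M B) {β₀ : Exp n} (hβ₀ : Adm n β₀)
    {ψ₀ : IrrCharacter (Perm (Fin n))} (hψ₀ : ψ₀ ∈ B) {ε₀ : ℂ}
    (hchi : (chi β₀ : Perm (Fin n) → ℂ) = ε₀ • (ψ₀ : Perm (Fin n) → ℂ))
    (hv : 2 * qSum 2 β₀ = pairCount (resCount 2 β₀) + 2 * ((2 : ℕ) : ℤ)) :
    ∃ D E : Subgroup (Perm (Fin n)), IsDefectGroup 2 M B D ∧ E ≤ D ∧
      E ≤ alternatingGroup (Fin n) ∧ (∀ a ∈ E, ∀ b ∈ E, a * b = b * a) ∧
      (∀ a ∈ E, a ^ 2 = 1) ∧ Nat.card E = 4 := by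
  obtain ⟨r, e, b, hb⟩ := exists_witness hM hB hβ₀ hψ₀ hchi hv
  set x : Perm (Fin n) := e.permCongr (baseCyc 2 2 r) with hxdef
  let Φ : Perm (Fin 2 × ZMod 2) →* Perm (Fin n) :=
    (e.permCongrHom : Perm (Pts 2 2 r) ≃* Perm (Fin n)).toMonoidHom.comp (embPts 2 2 r)
  have hΦx : Φ cyc22 = x := by
    rw [hxdef, baseCyc_two]
    rfl
  have hΦinj : Function.Injective Φ := by
    intro s t h
    have h' : embPts 2 2 r s = embPts 2 2 r t := e.permCongrHom.injective h
    refine Equiv.ext fun z => ?_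
    have := congrArg (fun f : Perm (Pts 2 2 r) => f (Sum.inl z)) h'
    simpa [embPts_inl] using this
  set K : Subgroup (Perm (Fin n)) :=
    (Subgroup.centralizer ({cyc22} : Set (Perm (Fin 2 × ZMod 2)))).map Φ with hK
  have hKC : K ≤ Subgroup.centralizer ({x} : Set (Perm (Fin n))) := by
    rintro _ ⟨s, hs, rfl⟩
    rw [Subgroup.mem_centralizer_singleton_iff, ← hΦx, ← map_mul, ← map_mul,
      Subgroup.mem_centralizer_singleton_iff.1 hs]
  have hKp : IsPGroup 2 K := by
    rintro ⟨_, s, hs, rfl⟩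
    refine ⟨2, Subtype.ext ?_⟩
    show Φ s ^ 4 = 1
    rw [← map_pow, cyc22_pow4 s (Subgroup.mem_centralizer_singleton_iff.1 hs), map_one]
  have hKn : ∀ c : Perm (Fin n), Commute c x → ∀ a ∈ K, c * a * c⁻¹ ∈ K := by
    rintro c hc _ ⟨s, hs, rfl⟩
    set c' : Perm (Pts 2 2 r) := e.permCongrHom.symm c with hc'
    have hcx : Commute c' (baseCyc 2 2 r) := by
      have h2 := hc.map (e.permCongrHom.symm : Perm (Fin n) ≃* Perm (Pts 2 2 r))
      rwa [show e.permCongrHom.symm x = baseCyc 2 2 r from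
        (e.permCongrHom).symm_apply_apply _] at h2
    have hmaps : Set.MapsTo c' (Set.range Sum.inl) (Set.range Sum.inl) := by
      rintro _ ⟨z, rfl⟩
      rcases hz : c' (Sum.inl z) with w | j
      · exact ⟨w, rfl⟩
      · exfalso
        have h1 : c' (baseCyc 2 2 r (Sum.inl z)) = baseCyc 2 2 r (c' (Sum.inl z)) := by
          rw [← Perm.mul_apply, hcx.eq, Perm.mul_apply]
        rw [hz, baseCyc_two, embPts_inr, embPts_inl, ← hz] at h1
        have h2 := Sum.inl_injective (c'.injective h1)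
        simp [cyc22] at h2
    obtain ⟨⟨a, d⟩, had⟩ := Perm.mem_sumCongrHom_range_of_perm_mapsTo_inl hmaps
    have hat : a * cyc22 = cyc22 * a := by
      refine Equiv.ext fun z => ?_
      have h1 := congrArg (fun f : Perm (Pts 2 2 r) => f (Sum.inl z)) hcx.eq
      rw [← had, baseCyc_two] at h1
      simp only [Perm.mul_apply, embPts_inl, Perm.sumCongrHom_apply, Equiv.sumCongr_apply,
        Sum.map_inl] at h1
      exact Sum.inl_injective h1
    refine ⟨a * s * a⁻¹, ?_, ?_⟩
    · exact Subgroup.mul_mem _ (Subgroup.mul_mem _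
        (Subgroup.mem_centralizer_singleton_iff.2 hat) hs)
        (Subgroup.inv_mem _ (Subgroup.mem_centralizer_singleton_iff.2 hat))
    · have h3 : embPts 2 2 r (a * s * a⁻¹) = c' * embPts 2 2 r s * c'⁻¹ := by
        rw [← had]
        simp only [embPts, MonoidHom.comp_apply, MonoidHom.inl_apply, ← map_inv, ← map_mul,
          Prod.inv_mk, Prod.mk_mul_mk, mul_one, mul_inv_cancel]
      show e.permCongrHom (embPts 2 2 r (a * s * a⁻¹)) = _
      rw [h3, map_mul, map_mul, map_inv, hc', MulEquiv.apply_symm_apply]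
      rfl
  obtain ⟨D, hD, hle⟩ := exists_defect_ge_normal hM hb hKC hKn hKp
  refine ⟨D, (Φ.comp regFour).range, hD, ?_, ?_, ?_, ?_, ?_⟩
  · rintro _ ⟨a, rfl⟩
    exact hle ⟨regFour a, Subgroup.mem_centralizer_singleton_iff.2 (regFour_props a).2.1, rfl⟩
  · rintro _ ⟨a, rfl⟩
    rw [Equiv.Perm.mem_alternatingGroup]
    show Perm.sign (e.permCongr (embPts 2 2 r (regFour a))) = 1
    rw [Perm.sign_permCongr]
    show Perm.sign (Perm.sumCongrHom _ _ (regFour a, 1)) = 1
    rw [Perm.sumCongrHom_apply, Perm.sign_sumCongr, (regFour_props a).1, Perm.sign_one, mul_one]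
  · rintro _ ⟨a, rfl⟩ _ ⟨b, rfl⟩
    rw [← map_mul, ← map_mul, mul_comm]
  · rintro _ ⟨a, rfl⟩
    rw [MonoidHom.comp_apply, ← map_pow, (regFour_props a).2.2, map_one]
  · have hinj : Function.Injective (Φ.comp regFour) := by
      rw [MonoidHom.coe_comp]
      refine hΦinj.comp fun a b h => ?_
      have := congrArg (fun f : Perm (Fin 2 × ZMod 2) => f 0) h
      simpa [regFour] using this
    rw [Nat.card_congr (MonoidHom.ofInjective hinj).toEquiv.symm, Nat.card_eq_fintype_card,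
      Fintype.card_multiplicative, Fintype.card_prod, Fintype.card_fin, ZMod.card]

/-! ## Weight zero at the prime `2` -/

theorem phi_eq_zero_of_core [NeZero p] {β : Exp n} (hinj : Function.Injective β)
    (h0 : ∀ i, 0 ≤ β i) (hmin : 2 * qSum p β = pairCount (resCount p β)) {L : Multiset ℕ}
    {w : ℕ} (hw : w ∈ L) (hpw : p ∣ w) (hw0 : 0 < w) : phi L β = 0 := by
  rw [← Multiset.cons_erase hw, phi_cons]
  refine Finset.sum_eq_zero fun i _ => ?_
  by_cases hneg : ∀ x, 0 ≤ (β - Pi.single i (w : ℤ) : Exp n) x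
  swap
  · push Not at hneg
    obtain ⟨x, hx⟩ := hneg
    exact phi_eq_zero_of_neg _ _ hx
  refine (antiSym_phi _).eq_zero fun hinj' => ?_
  obtain ⟨k, rfl⟩ := hpw
  have e : (β - Pi.single i (((p * k : ℕ)) : ℤ) : Exp n) =
      β + Pi.single i ((p : ℤ) * (-(k : ℤ))) := by
    rw [mul_neg, Pi.single_neg, ← sub_eq_add_neg, Nat.cast_mul]
  have h1 := pairCount_le (p := p) hinj' hneg
  rw [e, qSum_add_single, resCount_add_single] at h1
  have hk : 0 < k := Nat.pos_of_mul_pos_left hw0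
  omega

theorem exists_orb_dvd {σ : Perm (Fin n)} (hp : p.Prime) (h : p ∣ orderOf σ) :
    ∃ w ∈ orb σ, p ∣ w := by
  by_contra! hcon
  obtain ⟨k, hk⟩ := h
  set τ := σ ^ k with hτ
  have hτp : orderOf τ = p := by
    have hk0 : k ≠ 0 := fun h0 => (orderOf_pos σ).ne' (by rw [hk, h0, mul_zero])
    rw [hτ, orderOf_pow_of_dvd hk0 ⟨p, by rw [hk, mul_comm]⟩, hk,
      Nat.mul_div_cancel _ (Nat.pos_of_ne_zero hk0)]
  refine hp.ne_one (hτp ▸ orderOf_eq_one_iff.2 (Equiv.ext fun x => ?_))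
  -- the orbit of `x`
  have hper : (σ ^ (Function.minimalPeriod σ x)) x = x := by
    rw [Perm.coe_pow]
    exact Function.isPeriodicPt_minimalPeriod σ x
  have hw : (Finset.univ.filter fun y => Quotient.mk (Perm.SameCycle.setoid σ) y =
      Quotient.mk (Perm.SameCycle.setoid σ) x).card = Function.minimalPeriod σ x := by
    rw [← Fintype.card_subtype, ← Nat.card_eq_fintype_card]
    have h1 : MulAction.orbit (Subgroup.zpowers σ) x = {y | σ.SameCycle x y} := by
      ext y
      constructor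
      · rintro ⟨⟨g, hg⟩, rfl⟩
        obtain ⟨i, rfl⟩ := Subgroup.mem_zpowers_iff.1 hg
        exact ⟨i, rfl⟩
      · rintro ⟨i, rfl⟩
        exact ⟨⟨σ ^ i, Subgroup.zpow_mem_zpowers σ i⟩, rfl⟩
    have h2 := MulAction.minimalPeriod_eq_card (a := σ) (b := x)
    have h3 : (Function.minimalPeriod σ x) = Nat.card (MulAction.orbit (Subgroup.zpowers σ) x) := by
      rw [Nat.card_eq_fintype_card]
      exact h2
    rw [h3, h1]
    exact Nat.card_congr (Equiv.subtypeEquivRight fun y => by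
      rw [Quotient.eq]
      exact ⟨fun h => h.symm, fun h => h.symm⟩)
  have hmem : Function.minimalPeriod σ x ∈ orb σ := by
    rw [← hw, orb]
    exact Multiset.mem_map.2 ⟨_, by simp, rfl⟩
  have hnd := hcon _ hmem
  have hfix : (τ ^ Function.minimalPeriod σ x) x = x := by
    rw [hτ, ← pow_mul, mul_comm, pow_mul, Perm.coe_pow]
    exact Function.iterate_fixed hper k
  have hfix' : (τ ^ p) x = x := by rw [← hτp, pow_orderOf_eq_one, Perm.one_apply]
  have hcop : Nat.gcd (Function.minimalPeriod σ x) p = 1 :=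
    Nat.Coprime.symm (hp.coprime_iff_not_dvd.2 hnd)
  have h4 : Function.IsPeriodicPt τ (Nat.gcd (Function.minimalPeriod σ x) p) x :=
    Function.IsPeriodicPt.gcd (by rw [Function.IsPeriodicPt, Function.IsFixedPt, ← Perm.coe_pow]; exact hfix)
      (by rw [Function.IsPeriodicPt, Function.IsFixedPt, ← Perm.coe_pow]; exact hfix')
  rw [hcop] at h4
  exact h4

/-- Blocks of weight zero have trivial defect groups. -/
theorem defect_eq_bot [Fact p.Prime] (hM : IsPModular p M) {β₀ : Exp n} (hβ₀ : Adm n β₀)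
    {χ₀ : IrrCharacter (Perm (Fin n))} {ε₀ : ℂ} (hε₀ : ε₀ ≠ 0)
    (hchi : (chi β₀ : Perm (Fin n) → ℂ) = ε₀ • (χ₀ : Perm (Fin n) → ℂ))
    (hv : 2 * qSum p β₀ = pairCount (resCount p β₀))
    {D : Subgroup (Perm (Fin n))} (hD : IsDefectGroup p M (blockOf M (χ₀ : Perm (Fin n) → ℂ)) D) :
    D = ⊥ := by
  have hBh : IsPBlock M (blockOf M (χ₀ : Perm (Fin n) → ℂ)) := isPBlock_blockOf χ₀
  refine Subgroup.eq_bot_of_card_eq _ ?_
  rw [CfsgLib.BlockCover.natCard_defect hM hBh hD,
    (CfsgLib.RankOrth.defect_zero_iff (IsPBlock.nonempty hM hBh)).2, pow_zero]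
  intro χ hχ
  refine CfsgLib.RankOrth.not_dvd_cofDegree_of_vanish χ fun g hg => ?_
  obtain ⟨β, hβ, hrep⟩ := exists_rep χ
  obtain ⟨ε, hε, hεχ⟩ : ∃ ε : ℂ, ε ≠ 0 ∧
      (chi β : Perm (Fin n) → ℂ) = ε • (χ : Perm (Fin n) → ℂ) := by
    rcases hrep with h | h
    · exact ⟨1, one_ne_zero, by rw [h, one_smul]⟩
    · exact ⟨-1, by norm_num, by rw [h, neg_one_smul]⟩
  have hc := resCount_eq_of_sameBlock hM hβ hβ₀ hε hε₀ hεχ hchi (SameBlock.symm hM hχ)
  obtain ⟨w, hw, hpw⟩ := exists_orb_dvd (Fact.out : p.Prime) hg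
  have h0 : chi β g = 0 := by
    rw [chi, phi_eq_zero_of_core hβ.inj hβ.nonneg ?_ hw hpw (pos_of_mem_orb hw), Int.cast_zero]
    rw [qSum_eq_of (by rw [hβ.deg, hβ₀.deg]) hc, hc, hv]
  rw [hεχ] at h0
  exact (mul_eq_zero.1 h0).resolve_left hε

/-! ## The theorem -/

theorem blockRank_alt_lt [Fact p.Prime] (hM : IsPModular p M)
    {B : Set (IrrCharacter (alternatingGroup (Fin n)))} (hB : IsPBlock M B)
    {D : Subgroup (alternatingGroup (Fin n))} (hD : IsDefectGroup p M B D) (hD1 : D ≠ ⊥) {s : ℕ}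
    (hs : SectionalPRankLE p s D) : blockRank p B < p ^ s := by
  have hDp := CfsgLib.BlockCover.isPGroup_defect hM hD
  haveI : Nontrivial D := (Subgroup.nontrivial_iff_ne_bot D).2 hD1
  obtain ⟨g, hg⟩ : ∃ g : D, orderOf g = p := by
    obtain ⟨k, hk, hkD⟩ := hDp.nontrivial_iff_card.1 inferInstance
    exact exists_prime_orderOf_dvd_card' (G := D) p (hkD ▸ dvd_pow_self p hk.ne')
  have hp_le : p ≤ p ^ s := by
    have hA : Nat.card (Subgroup.zpowers (g : alternatingGroup (Fin n))) ≤ p ^ s :=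
      card_le_of_sectional hs (Subgroup.zpowers_le.2 g.2) inferInstance fun a ha => by
        obtain ⟨i, rfl⟩ := Subgroup.mem_zpowers_iff.1 ha
        rw [← zpow_natCast, zpow_comm, zpow_natCast]
        have : ((g : alternatingGroup (Fin n))) ^ p = 1 := by
          rw [← Subgroup.coe_pow, ← hg, pow_orderOf_eq_one]; rfl
        rw [this, one_zpow]
    rwa [Nat.card_zpowers, Subgroup.orderOf_coe, hg] at hA
  have hn : 2 ≤ n := by
    by_contra hlt
    have : Subsingleton (Fin n) := Fin.subsingleton_iff_le_one.2 (by omega)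
    exact hD1 (Subsingleton.elim _ _)
  set τ : Perm (Fin n) := swap ⟨0, by omega⟩ ⟨1, by omega⟩ with hτdef
  have hτ : τ ∉ alternatingGroup (Fin n) := by
    rw [Equiv.Perm.mem_alternatingGroup, hτdef, Perm.sign_swap (by simp)]
    decide
  obtain ⟨θ, hθ⟩ := IsPBlock.nonempty hM hB
  obtain ⟨χ₀, hχ₀⟩ := CfsgLib.NormalRes.exists_mult_ne_zero_of_irr
    (G := Perm (Fin n)) (alternatingGroup (Fin n)) θ
  have hcov : Covers B χ₀ := ⟨θ, hθ, hχ₀⟩
  have hBh : IsPBlock M (blockOf M (χ₀ : Perm (Fin n) → ℂ)) := isPBlock_blockOf χ₀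
  have hmem₀ : χ₀ ∈ blockOf M (χ₀ : Perm (Fin n) → ℂ) := mem_blockOf_self hM χ₀
  obtain ⟨β₀, hβ₀, hrep⟩ := exists_rep χ₀
  obtain ⟨ε₀, hε₀, hchi⟩ : ∃ ε : ℂ, ε ≠ 0 ∧
      (chi β₀ : Perm (Fin n) → ℂ) = ε • (χ₀ : Perm (Fin n) → ℂ) := by
    rcases hrep with h | h
    · exact ⟨1, one_ne_zero, by rw [h, one_smul]⟩
    · exact ⟨-1, by norm_num, by rw [h, neg_one_smul]⟩
  obtain ⟨v, hv⟩ := exists_weight (p := p) hβ₀.inj hβ₀.nonneg
  obtain ⟨R, S, hRS, hR, hS, hhalf⟩ := alt_rank_bound hM hτ hB hcov hβ₀ hε₀ hchi hv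
  have hW := (finrank_space (N := n) v (resCount p β₀) (qSum p β₀) hv).2
  have hp2 := (Fact.out : p.Prime).two_le
  by_cases h2 : p = 2
  · subst h2
    have hS2 := card_scSet_two (n := n) (resCount 2 β₀) v
    rcases Nat.eq_zero_or_pos v with hv0 | hv0
    · subst hv0
      exfalso
      obtain ⟨P, hP, hPA⟩ := CfsgLib.BlockCover.exists_defectGroup_inter_eq
        (alternatingGroup (Fin n)) hM hBh hB hmem₀ hθ hχ₀ hD
      rw [defect_eq_bot hM hβ₀ hε₀ hchi (by simpa using hv) hP, bot_inf_eq] at hPA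
      exact hD1 ((Subgroup.map_eq_bot_iff_of_injective _ Subtype.val_injective).1 hPA.symm)
    rcases eq_or_lt_of_le (show 1 ≤ v from hv0) with hv1 | hv1
    · subst hv1
      rw [if_neg one_ne_zero, pow_one] at hW
      rw [if_pos odd_one] at hS2
      omega
    rcases eq_or_lt_of_le (show 2 ≤ v from hv1) with hv2 | hv2
    · subst hv2
      obtain ⟨D', E, hD', hED, hEA, hEc, hEp, hE4⟩ := exists_four hM hBh hβ₀ hmem₀ hchi hv
      have hE := card_le_of_covering hM hB hD hs hcov hD' hED hEA hEc hEp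
      rw [hE4] at hE
      have hW2 := finrank_space_two (n := n) 2 le_rfl (resCount 2 β₀) (qSum 2 β₀) hv
      norm_num at hW2
      rw [if_neg (by decide)] at hS2
      norm_num at hS2
      omega
    · obtain ⟨D', E, hD', hED, hEc, hEp, hEcard⟩ := exists_elementary hM hBh hβ₀ hmem₀ hchi hv
      haveI := hEc
      have hE := card_le_of_covering hM hB hD hs hcov hD' (E := E ⊓ alternatingGroup (Fin n))
        (inf_le_left.trans hED) inf_le_right
        (fun a ha b hb => congrArg Subtype.val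
          (IsMulCommutative.is_comm.comm (⟨a, ha.1⟩ : E) ⟨b, hb.1⟩))
        (fun a ha => hEp a ha.1)
      have hindex : Nat.card E ≤ 2 * Nat.card (E ⊓ alternatingGroup (Fin n) : Subgroup _) := by
        let f : E →* ℤˣ := Perm.sign.comp E.subtype
        rw [← Subgroup.card_mul_index f.ker, Subgroup.index_ker, mul_comm]
        refine Nat.mul_le_mul ?_ (le_of_eq (Nat.card_congr
          { toFun := fun a => ⟨a.1.1, a.1.2, Equiv.Perm.mem_alternatingGroup.2 a.2⟩
            invFun := fun a => ⟨⟨a.1, a.2.1⟩, Equiv.Perm.mem_alternatingGroup.1 a.2.2⟩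
            left_inv := fun _ => rfl
            right_inv := fun _ => rfl }))
        exact (Nat.card_le_card_of_injective _ Subtype.val_injective).trans
          (by rw [Nat.card_eq_fintype_card]; decide)
      rw [hEcard] at hindex
      obtain ⟨u, rfl⟩ : ∃ u, v = u + 3 := ⟨v - 3, by omega⟩
      have hW2 := finrank_space_two (n := n) (u + 3) (by omega) (resCount 2 β₀) (qSum 2 β₀) hv
      rw [show u + 3 - 2 = u + 1 by omega] at hW2
      have hpow : 2 ^ (u + 3) = 2 * (2 * 2 ^ (u + 1)) := by ring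
      have hu : 2 ≤ 2 ^ (u + 1) := le_self_pow (by norm_num) (by omega)
      by_cases hodd : Odd (u + 3)
      · rw [if_pos hodd] at hS2
        omega
      · rw [if_neg hodd] at hS2
        rw [Nat.not_odd_iff_even, Nat.even_iff] at hodd
        have h3 : 2 ^ ((u + 3) / 2 - 1) ≤ 2 ^ u := Nat.pow_le_pow_right (by norm_num) (by omega)
        have h4 : 2 ^ (u + 1) = 2 * 2 ^ u := by ring
        have h5 : 2 ≤ 2 ^ u := le_self_pow (by norm_num) (by omega)
        omega
  · have hp3 : 3 ≤ p := by omega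
    obtain ⟨hS1, hShalf⟩ := two_mul_card_scSet (n := n) h2 (resCount p β₀) v
    rcases Nat.eq_zero_or_pos v with hv0 | hv0
    · subst hv0
      rw [if_pos rfl] at hW
      rw [pow_zero] at hS1
      omega
    rw [if_neg hv0.ne'] at hW
    obtain ⟨D', E, hD', hED, hEc, hEp, hEcard⟩ := exists_elementary hM hBh hβ₀ hmem₀ hchi hv
    haveI := hEc
    have hEA : E ≤ alternatingGroup (Fin n) := fun a ha => by
      rw [Equiv.Perm.mem_alternatingGroup]
      rcases Int.units_eq_one_or (Perm.sign a) with e | e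
      · exact e
      · exfalso
        have h1 := congrArg Perm.sign (hEp a ha)
        rw [map_pow, e, map_one, Odd.neg_one_pow ((Fact.out : p.Prime).odd_of_ne_two h2)] at h1
        exact absurd h1 (by decide)
    have hE := card_le_of_covering hM hB hD hs hcov hD' hED hEA
      (fun a ha b hb => congrArg Subtype.val
        (IsMulCommutative.is_comm.comm (⟨a, ha⟩ : E) ⟨b, hb⟩)) hEp
    rw [hEcard] at hE
    have hpos : 0 < p ^ v := pow_pos (by omega) v
    rcases Nat.eq_zero_or_pos S with hS0 | hS0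
    · omega
    · have := hhalf h2 hv0 hS0
      have := hShalf hv0
      omega

end CfsgLib.SymBlocks
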