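import Cfsg.Agent.Lib.SymBlocks.Bound
import Mathlib.Data.Prod.Lex

/-!
# Removing all the hooks of length `p`

When the exponents are ordered by residue and then by size, all the ways of moving beads down the
runners contribute with one sign.
-/

set_option autoImplicit false
set_option linter.unusedSectionVars false
set_option linter.unusedVariables false
set_option linter.unusedSimpArgs false

noncomputable section

open scoped Classical

namespace CfsgLib.SymBlocks

open Equiv Cfsg CfsgLib.Characters

variable {N p : ℕ} [NeZero p]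

/-- Ordered by residue, and by size within a residue class. -/
def KeySorted (p : ℕ) (β : Exp N) : Prop :=
  StrictMono fun i => toLex ((β i : ZMod p).val, β i)

theorem KeySorted.injective {β : Exp N} (h : KeySorted p β) : Function.Injective β :=
  fun i j hij => StrictMono.injective h (by simp [hij])

theorem exists_keySorted {β : Exp N} (hinj : Function.Injective β) :
    ∃ τ : Perm (Fin N), KeySorted p (β ∘ τ) := by
  set f : Fin N → ℕ ×ₗ ℤ := fun i => toLex ((β i : ZMod p).val, β i) with hf
  have hfi : Function.Injective f := fun i j h => hinj (congrArg (fun z => (ofLex z).2) h)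
  exact ⟨Tuple.sort f,
    (Tuple.monotone_sort f).strictMono_of_injective (hfi.comp (Tuple.sort f).injective)⟩

theorem KeySorted.lower {β : Exp N} (h : KeySorted p β) (i : Fin N)
    (hinj : Function.Injective (β - Pi.single i (p : ℤ))) :
    KeySorted p (β - Pi.single i (p : ℤ)) := by
  have hp : (0 : ℤ) < p := by exact_mod_cast Nat.pos_of_neZero p
  have hres : ∀ j, (((β - Pi.single i (p : ℤ) : Exp N) j : ℤ) : ZMod p) = (β j : ZMod p) := by
    intro j
    simp only [Pi.sub_apply, Pi.single_apply]
    split_ifs <;> simp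
  intro a b hab
  have h1 := h hab
  simp only [Prod.Lex.toLex_lt_toLex] at h1 ⊢
  rw [hres, hres]
  rcases h1 with h1 | ⟨h1, h2⟩
  · exact Or.inl h1
  refine Or.inr ⟨h1, ?_⟩
  have hdvd : (p : ℤ) ∣ β b - β a := by
    rw [← ZMod.intCast_eq_intCast_iff_dvd_sub]
    exact ZMod.val_injective p h1
  obtain ⟨k, hk⟩ := hdvd
  have hk1 : 0 < k := pos_of_mul_pos_right (by linarith : (0 : ℤ) < p * k) hp.le
  have hne : (β - Pi.single i (p : ℤ) : Exp N) a ≠ (β - Pi.single i (p : ℤ) : Exp N) b :=
    fun e => hab.ne (hinj e)
  refine lt_of_le_of_ne ?_ hne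
  have hpk : (p : ℤ) ≤ p * k := le_mul_of_one_le_right hp.le (by omega)
  simp only [Pi.sub_apply, Pi.single_apply]
  split_ifs <;> linarith

theorem qSum_sub_single (β : Exp N) (i : Fin N) :
    qSum p (β - Pi.single i (p : ℤ)) = qSum p β - 1 := by
  rw [show β - Pi.single i (p : ℤ) = β + Pi.single i ((p : ℤ) * -1) by
    rw [mul_neg_one, Pi.single_neg, sub_eq_add_neg], qSum_add_single, sub_eq_add_neg]

theorem resCount_sub_single (β : Exp N) (i : Fin N) :
    resCount p (β - Pi.single i (p : ℤ)) = resCount p β := by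
  rw [show β - Pi.single i (p : ℤ) = β + Pi.single i ((p : ℤ) * -1) by
    rw [mul_neg_one, Pi.single_neg, sub_eq_add_neg], resCount_add_single]

theorem sum_sub_single (β : Exp N) (i : Fin N) :
    ∑ x, (β - Pi.single i (p : ℤ) : Exp N) x = (∑ x, β x) - p := by
  simp [Finset.sum_sub_distrib]

/-- Above the least weight some bead can be moved one step down. -/
theorem exists_lower {β : Exp N} (hinj : Function.Injective β) (h0 : ∀ i, 0 ≤ β i)
    (hw : pairCount (resCount p β) < 2 * qSum p β) :
    ∃ i, (∀ x, 0 ≤ (β - Pi.single i (p : ℤ) : Exp N) x) ∧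
      Function.Injective (β - Pi.single i (p : ℤ)) := by
  by_contra! hcon
  have hp : (0 : ℤ) < p := by exact_mod_cast Nat.pos_of_neZero p
  have hstep : ∀ i, (p : ℤ) ≤ β i → ∃ k, β k = β i - p := by
    intro i hi
    have h := hcon i fun x => by
      simp only [Pi.sub_apply, Pi.single_apply]
      have := h0 x
      split_ifs with hx <;> [subst hx; skip] <;> linarith
    obtain ⟨a, b, hab, hne⟩ := Function.not_injective_iff.1 h
    simp only [Pi.sub_apply, Pi.single_apply] at hab
    by_cases ha : a = i
    · subst ha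
      rw [if_pos rfl, if_neg (Ne.symm hne), sub_zero] at hab
      exact ⟨b, hab.symm⟩
    · by_cases hb : b = i
      · subst hb
        rw [if_pos rfl, if_neg hne, sub_zero] at hab
        exact ⟨a, hab⟩
      · rw [if_neg ha, if_neg hb, sub_zero, sub_zero] at hab
        exact absurd (hinj hab) hne
  have hrank : ∀ (t : ℕ) (i : Fin N), β i / (p : ℤ) ≤ t → β i / (p : ℤ) ≤ rankIn p β i := by
    intro t
    induction t with
    | zero =>
      intro i hi
      omega
    | succ t ih =>
      intro i hi
      rcases lt_or_ge (β i) p with hlt | hge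
      · rw [Int.ediv_eq_zero_of_lt (h0 i) hlt]
        positivity
      obtain ⟨k, hk⟩ := hstep i hge
      have hq : β k / (p : ℤ) = β i / (p : ℤ) - 1 := by
        rw [hk, show β i - (p : ℤ) = β i + (p : ℤ) * -1 by ring, Int.add_mul_ediv_left _ _ hp.ne',
          sub_eq_add_neg]
      have h1 := ih k (by push_cast at hi; omega)
      have hres : (β k : ZMod p) = (β i : ZMod p) := by simp [hk]
      have h2 : rankIn p β k < rankIn p β i := by
        refine Finset.card_lt_card ⟨fun l hl => ?_, fun h => ?_⟩
        · simp only [Finset.mem_filter, Finset.mem_univ, true_and] at hl ⊢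
          exact ⟨hl.1.trans hres, by linarith⟩
        · have hmem := h (show k ∈ Finset.univ.filter
            (fun l => (β l : ZMod p) = (β i : ZMod p) ∧ β l < β i) by
              simp only [Finset.mem_filter, Finset.mem_univ, true_and]
              exact ⟨hres, by linarith⟩)
          exact lt_irrefl _ (Finset.mem_filter.1 hmem).2.2
      omega
  have hsum : qSum p β ≤ ∑ i, (rankIn p β i : ℤ) :=
    Finset.sum_le_sum fun i _ => hrank _ i (Int.self_le_toNat _)
  rw [← card_samePairs, ← two_mul_sum_rankIn hinj] at hw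
  push_cast at hw
  linarith

/-- Moving beads down as far as possible. -/
theorem exists_core : ∀ (v : ℕ) (β : Exp N), KeySorted p β → (∀ i, 0 ≤ β i) →
    2 * qSum p β = pairCount (resCount p β) + 2 * (v : ℤ) →
    ∃ κ : Exp N, KeySorted p κ ∧ (∀ i, 0 ≤ κ i) ∧ resCount p κ = resCount p β ∧
      2 * qSum p κ = pairCount (resCount p κ) ∧ ∑ i, κ i = (∑ i, β i) - p * v := by
  intro v
  induction v with
  | zero =>
    intro β hs h0 hv
    exact ⟨β, hs, h0, rfl, by simpa using hv, by simp⟩
  | succ v ih =>
    intro β hs h0 hv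
    obtain ⟨i, hi0, hii⟩ := exists_lower (p := p) hs.injective h0 (by omega)
    obtain ⟨κ, h1, h2, h3, h4, h5⟩ := ih _ (hs.lower i hii) hi0
      (by rw [qSum_sub_single, resCount_sub_single]; push_cast at hv ⊢; linarith)
    refine ⟨κ, h1, h2, h3.trans (resCount_sub_single β i), h4, ?_⟩
    rw [h5, sum_sub_single]
    push_cast
    ring

theorem core_unique {κ κ' : Exp N} (h : KeySorted p κ) (h' : KeySorted p κ')
    (h0 : ∀ i, 0 ≤ κ i) (h0' : ∀ i, 0 ≤ κ' i) (hc : resCount p κ = resCount p κ')
    (hm : 2 * qSum p κ = pairCount (resCount p κ))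
    (hm' : 2 * qSum p κ' = pairCount (resCount p κ')) : κ = κ' := by
  obtain ⟨π, hπ⟩ := eq_comp_of_min h.injective h0 h'.injective h0' hc hm hm'
  have hmono : StrictMono π := fun a b hab => by
    by_contra hle
    rcases eq_or_lt_of_le (not_lt.1 hle) with he | hlt
    · exact hab.ne (π.injective he).symm
    · have h1 := h' hlt
      have h2 := h hab
      simp only [hπ, Function.comp_apply] at h2
      exact lt_irrefl _ (h1.trans h2)
  have : π = 1 := Equiv.ext fun a => congrFun hmono.eq_id a
  rw [hπ, this]
  rfl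

/-- Removing `v` hooks of length `p`: all contributions have the same sign. -/
theorem hook_value_pos (r : ℕ) {κ : Exp N} (hκ : KeySorted p κ) (hκ0 : ∀ i, 0 ≤ κ i)
    (hκm : 2 * qSum p κ = pairCount (resCount p κ)) (hκd : ∑ i, κ i = (r : ℤ) + baseDeg N) :
    ∀ (v : ℕ) (β : Exp N), KeySorted p β → (∀ i, 0 ≤ β i) → resCount p β = resCount p κ →
      2 * qSum p β = pairCount (resCount p β) + 2 * (v : ℤ) →
      0 < phi (Multiset.replicate v p + Multiset.replicate r 1) β *
        phi (Multiset.replicate r 1) κ := by
  intro v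
  induction v with
  | zero =>
    intro β hs h0 hc hv
    rw [core_unique hs hκ h0 hκ0 hc (by simpa using hv) hκm, Multiset.replicate_zero, zero_add]
    refine mul_self_pos.2 fun h => ?_
    obtain ⟨ψ, hψ⟩ := chi_irr (n := r) ⟨hκ.injective, hκ0, hκd⟩
    have h1 : chi κ (1 : Perm (Fin r)) = 0 := by
      rw [chi, orb_one, Fintype.card_fin, h, Int.cast_zero]
    rcases hψ with hψ | hψ <;> rw [hψ] at h1
    · exact irr_one_ne_zero ψ h1
    · exact irr_one_ne_zero ψ (neg_eq_zero.1 h1)
  | succ v ih =>
    intro β hs h0 hc hv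
    rw [Multiset.replicate_succ, Multiset.cons_add, phi_cons, Finset.sum_mul]
    have hpos : ∀ i, (∀ x, 0 ≤ (β - Pi.single i (p : ℤ) : Exp N) x) →
        Function.Injective (β - Pi.single i (p : ℤ)) →
        0 < phi (Multiset.replicate v p + Multiset.replicate r 1) (β - Pi.single i (p : ℤ)) *
          phi (Multiset.replicate r 1) κ := fun i hi0 hii =>
      ih _ (hs.lower i hii) hi0 ((resCount_sub_single β i).trans hc)
        (by rw [qSum_sub_single, resCount_sub_single]; push_cast at hv ⊢; linarith)
    obtain ⟨i, hi0, hii⟩ := exists_lower (p := p) hs.injective h0 (by omega)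
    refine Finset.sum_pos' (fun j _ => ?_) ⟨i, Finset.mem_univ _, hpos i hi0 hii⟩
    by_cases hj0 : ∀ x, 0 ≤ (β - Pi.single j (p : ℤ) : Exp N) x
    · by_cases hji : Function.Injective (β - Pi.single j (p : ℤ))
      · exact (hpos j hj0 hji).le
      · rw [(antiSym_phi _).eq_zero hji, zero_mul]
    · push Not at hj0
      obtain ⟨x, hx⟩ := hj0
      rw [phi_eq_zero_of_neg _ _ hx, zero_mul]

end CfsgLib.SymBlocks
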