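import Cfsg.Agent.Lib.SymBlocks.Twist
import Cfsg.Agent.Lib.SymBlocks.Hook

/-!
# Counting the self-conjugate sets of beads

A self-conjugate configuration of positive weight is encoded by one of lower weight: on a runner
paired with another one the block of beads under the highest gap moves down by one step together
with its mirror image; on a runner fixed by the reflection the highest bead changes places with its
mirror image.
-/

set_option autoImplicit false
set_option linter.unusedSectionVars false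
set_option linter.unusedVariables false
set_option linter.unusedSimpArgs false

noncomputable section

open scoped Classical

namespace CfsgLib.SymBlocks

open Equiv

variable {n p : ℕ} [NeZero p]

/-- The reflection of the positions. -/
def refl (n : ℕ) (x : ℤ) : ℤ := 2 * (n : ℤ) - 1 - x

theorem refl_refl (x : ℤ) : refl n (refl n x) = x := by simp [refl]

theorem res_refl (x : ℤ) : ((refl n x : ℤ) : ZMod p) = mirrorRes p n (x : ZMod p) := by
  simp [refl, mirrorRes]

/-- The residue counts of a set of beads. -/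
def cSet (p : ℕ) (X : Finset ℤ) (r : ZMod p) : ℕ :=
  (X.filter fun x : ℤ => (x : ZMod p) = r).card

/-- The sum of the levels of a set of beads. -/
def qSet (p : ℕ) (X : Finset ℤ) : ℤ := ∑ x ∈ X, x / (p : ℤ)

theorem cSet_image {β : Exp n} (hinj : Function.Injective β) :
    cSet p (Finset.univ.image β) = resCount p β := by
  funext r
  rw [cSet, Finset.filter_image, Finset.card_image_of_injective _ hinj]
  rfl

theorem qSet_image {β : Exp n} (hinj : Function.Injective β) :
    qSet p (Finset.univ.image β) = qSum p β := by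
  rw [qSet, Finset.sum_image fun i _ j _ h => hinj h]
  rfl

/-- Sets of `n` positions equal to the reflection of their complement. -/
def SelfMirror (n : ℕ) (X : Finset ℤ) : Prop :=
  (∀ x ∈ X, 0 ≤ x ∧ x < 2 * (n : ℤ)) ∧ X.card = n ∧
    ∀ x, 0 ≤ x → x < 2 * (n : ℤ) → (x ∈ X ↔ refl n x ∉ X)

/-- The self-conjugate configurations with given residue counts and weight. -/
def scSet (n p : ℕ) [NeZero p] (c : ZMod p → ℕ) (v : ℕ) : Finset (Finset ℤ) :=
  (Finset.Ico (0 : ℤ) (2 * (n : ℤ))).powerset.filter fun X =>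
    SelfMirror n X ∧ cSet p X = c ∧ 2 * qSet p X = pairCount c + 2 * (v : ℤ)

theorem mem_scSet {c : ZMod p → ℕ} {v : ℕ} {X : Finset ℤ} :
    X ∈ scSet n p c v ↔ SelfMirror n X ∧ cSet p X = c ∧
      2 * qSet p X = pairCount c + 2 * (v : ℤ) := by
  rw [scSet, Finset.mem_filter, Finset.mem_powerset]
  exact ⟨fun h => h.2, fun h => ⟨fun x hx => Finset.mem_Ico.2 (h.1.1 x hx), h⟩⟩

theorem exists_enum {X : Finset ℤ} (h : X.card = n) :
    ∃ β : Exp n, Function.Injective β ∧ Finset.univ.image β = X := by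
  let e : Fin n ≃ X := (Fintype.equivFinOfCardEq (by rw [Fintype.card_coe, h])).symm
  refine ⟨fun i => (e i : ℤ), fun i j hij => e.injective (Subtype.ext hij), ?_⟩
  ext x
  simp only [Finset.mem_image, Finset.mem_univ, true_and]
  exact ⟨fun ⟨i, hi⟩ => hi ▸ (e i).2, fun hx => ⟨e.symm ⟨x, hx⟩, by simp⟩⟩

/-- Replace one bead. -/
def swapIn (X : Finset ℤ) (a b : ℤ) : Finset ℤ := insert b (X.erase a)

theorem card_swapIn {X : Finset ℤ} {a b : ℤ} (ha : a ∈ X) (hb : b ∉ X) :
    (swapIn X a b).card = X.card := by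
  rw [swapIn, Finset.card_insert_of_notMem (fun h => hb (Finset.mem_of_mem_erase h)),
    Finset.card_erase_add_one ha]

theorem cSet_swapIn {X : Finset ℤ} {a b : ℤ} (ha : a ∈ X) (hb : b ∉ X)
    (h : (a : ZMod p) = (b : ZMod p)) : cSet p (swapIn X a b) = cSet p X := by
  funext r
  rw [cSet, cSet, swapIn, Finset.filter_insert, Finset.filter_erase]
  by_cases hr : (a : ZMod p) = r
  · rw [if_pos (h ▸ hr), Finset.card_insert_of_notMem
      (fun h' => hb (Finset.mem_filter.1 (Finset.mem_of_mem_erase h')).1),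
      Finset.card_erase_add_one (Finset.mem_filter.2 ⟨ha, hr⟩)]
  · have hna : a ∉ X.filter fun x : ℤ => (x : ZMod p) = r :=
      fun h' => hr (Finset.mem_filter.1 h').2
    rw [if_neg (h ▸ hr), Finset.erase_eq_of_notMem hna]

theorem qSet_swapIn {X : Finset ℤ} {a b : ℤ} (ha : a ∈ X) (hb : b ∉ X) :
    qSet p (swapIn X a b) = qSet p X - a / (p : ℤ) + b / (p : ℤ) := by
  rw [qSet, qSet, swapIn, Finset.sum_insert (fun h => hb (Finset.mem_of_mem_erase h)),
    ← Finset.add_sum_erase X _ ha]
  ring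

theorem sub_mul_ediv (a : ℤ) (m : ℕ) : (a - (m : ℤ) * p) / (p : ℤ) = a / (p : ℤ) - m := by
  have hp : (p : ℤ) ≠ 0 := by exact_mod_cast NeZero.ne p
  rw [show a - (m : ℤ) * p = a + (p : ℤ) * (-(m : ℤ)) by ring, Int.add_mul_ediv_left _ _ hp]
  ring

/-- Toggling a set of positions closed under the reflection keeps a configuration self-conjugate. -/
theorem mirror_toggle {X X' T : Finset ℤ}
    (hX : ∀ y, 0 ≤ y → y < 2 * (n : ℤ) → (y ∈ X ↔ refl n y ∉ X))
    (hT : ∀ y ∈ T, refl n y ∈ T) (hout : ∀ y, y ∉ T → (y ∈ X' ↔ y ∈ X))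
    (hin : ∀ y ∈ T, y ∈ X' ↔ y ∉ X) (y : ℤ) (h0 : 0 ≤ y) (h1 : y < 2 * (n : ℤ)) :
    y ∈ X' ↔ refl n y ∉ X' := by
  by_cases hy : y ∈ T
  · rw [hin y hy, hin _ (hT y hy), hX y h0 h1]
  · have hy' : refl n y ∉ T := fun h => hy (refl_refl (n := n) y ▸ hT _ h)
    rw [hout y hy, hout _ hy', hX y h0 h1]

/-- The runners that are paired, one from each pair. -/
def halfRes (p n : ℕ) [NeZero p] : Finset (ZMod p) :=
  Finset.univ.filter fun r => r.val < (mirrorRes p n r).val

/-- The runners fixed by the reflection. -/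
def fixRes (p n : ℕ) [NeZero p] : Finset (ZMod p) :=
  Finset.univ.filter fun r => mirrorRes p n r = r

/-- How the configuration of weight `j` comes from `X`. -/
def Step (p n : ℕ) [NeZero p] (v : ℕ) (X X' : Finset ℤ) (j : ℕ) (r : ZMod p) : Prop :=
  (r ∈ halfRes p n ∧ ∃ (L : ℤ) (m : ℕ), (L : ZMod p) = r ∧ v = j + 2 * m ∧ 0 < m ∧
    L ∈ X ∧ (∀ y ∈ X, (y : ZMod p) = r → y ≤ L) ∧ L - (m : ℤ) * p ∉ X ∧
    (∀ i : ℕ, i < m → L - (i : ℤ) * p ∈ X) ∧
    X' = swapIn (swapIn X L (L - (m : ℤ) * p)) (refl n (L - (m : ℤ) * p)) (refl n L)) ∨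
  (r ∈ fixRes p n ∧ ∃ (L : ℤ) (m : ℕ), (L : ZMod p) = r ∧ v = j + m ∧ Odd m ∧
    2 * L - (2 * (n : ℤ) - 1) = (m : ℤ) * p ∧ L ∈ X ∧ X' = swapIn X L (refl n L))

theorem odd_of_eq {L : ℤ} {m : ℕ} (h : 2 * L - (2 * (n : ℤ) - 1) = (m : ℤ) * p) : Odd m := by
  by_contra hm
  rw [Nat.not_odd_iff_even] at hm
  obtain ⟨k, rfl⟩ := hm
  push_cast at h
  have h2 : (2 : ℤ) ∣ (2 * L - (2 * (n : ℤ) - 1)) := ⟨(k : ℤ) * p, by rw [h]; ring⟩
  omega

theorem exists_step {c : ZMod p → ℕ} {v : ℕ} (hv : 0 < v) {X : Finset ℤ}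
    (hX : X ∈ scSet n p c v) :
    ∃ j r X', j < v ∧ X' ∈ scSet n p c j ∧ Step p n v X X' j r := by
  obtain ⟨⟨hrange, hcard, hself⟩, hc, hq⟩ := mem_scSet.1 hX
  have hp : (0 : ℤ) < p := by exact_mod_cast Nat.pos_of_neZero p
  obtain ⟨β, hβ, himg⟩ := exists_enum hcard
  have hβX : ∀ i, β i ∈ X := fun i => himg ▸ Finset.mem_image_of_mem β (Finset.mem_univ i)
  have h0 : ∀ i, 0 ≤ β i := fun i => (hrange _ (hβX i)).1
  obtain ⟨i, hi0, hii⟩ := exists_lower (p := p) hβ h0 (by
    rw [← qSet_image hβ, ← cSet_image hβ, himg, hc]; omega)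
  -- a bead with a gap just below it
  obtain ⟨x, hxX, hx0, hxg⟩ : ∃ x ∈ X, 0 ≤ x - (p : ℤ) ∧ x - (p : ℤ) ∉ X := by
    refine ⟨β i, hβX i, by simpa using hi0 i, fun h => ?_⟩
    rw [← himg, Finset.mem_image] at h
    obtain ⟨k, -, hk⟩ := h
    have hki : k ≠ i := fun e => by subst e; omega
    refine hki (hii ?_)
    simp [Pi.single_apply, hki, hk]
  -- choose the runner
  obtain ⟨r, hr, x, hxr, hxX, hx0, hxg⟩ : ∃ r : ZMod p, (r ∈ halfRes p n ∨ r ∈ fixRes p n) ∧
      ∃ x : ℤ, (x : ZMod p) = r ∧ x ∈ X ∧ 0 ≤ x - (p : ℤ) ∧ x - (p : ℤ) ∉ X := by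
    by_cases h : (x : ZMod p) ∈ halfRes p n ∨ (x : ZMod p) ∈ fixRes p n
    · exact ⟨_, h, x, rfl, hxX, hx0, hxg⟩
    push Not at h
    simp only [halfRes, fixRes, Finset.mem_filter, Finset.mem_univ, true_and, not_lt] at h
    have hlt := (hrange x hxX).2
    have hres : ((refl n (x - p) : ℤ) : ZMod p) = mirrorRes p n (x : ZMod p) := by
      rw [res_refl]
      simp
    refine ⟨_, Or.inl ?_, refl n (x - p), hres, ?_, ?_, ?_⟩
    · rw [halfRes, Finset.mem_filter, mirrorRes_mirrorRes]
      exact ⟨Finset.mem_univ _, lt_of_le_of_ne h.1 fun e => h.2 (ZMod.val_injective p e)⟩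
    · by_contra hnot
      exact hxg ((hself (x - p) hx0 (by omega)).2 hnot)
    · simp only [refl]
      omega
    · rw [show refl n (x - (p : ℤ)) - (p : ℤ) = refl n x by simp [refl]; ring]
      exact (hself x (hrange x hxX).1 hlt).1 hxX
  -- the highest bead
  have hSne : (X.filter fun y : ℤ => (y : ZMod p) = r).Nonempty :=
    ⟨x, Finset.mem_filter.2 ⟨hxX, hxr⟩⟩
  set L := (X.filter fun y : ℤ => (y : ZMod p) = r).max' hSne with hL
  obtain ⟨hLX, hLr⟩ := Finset.mem_filter.1 (Finset.max'_mem _ hSne)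
  rw [← hL] at hLX hLr
  have hmax : ∀ y ∈ X, (y : ZMod p) = r → y ≤ L := fun y hy hyr =>
    Finset.le_max' _ y (Finset.mem_filter.2 ⟨hy, hyr⟩)
  have hLlt := (hrange L hLX).2
  have hdvd : (p : ℤ) ∣ L - x := by
    rw [← ZMod.intCast_eq_intCast_iff_dvd_sub, hxr, hLr]
  obtain ⟨t, ht⟩ := hdvd
  have ht0 : 0 ≤ t := by
    have := hmax x hxX hxr
    exact nonneg_of_mul_nonneg_right (by linarith : (0 : ℤ) ≤ p * t) hp
  have hgap : L - ((t.toNat + 1 : ℕ) : ℤ) * p = x - p := by
    push_cast [Int.toNat_of_nonneg ht0]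
    linarith
  rcases hr with hr | hr
  · have hex : ∃ m : ℕ, L - (m : ℤ) * p ∉ X := ⟨t.toNat + 1, by rw [hgap]; exact hxg⟩
    set m := Nat.find hex with hm
    have hm1 : L - (m : ℤ) * p ∉ X := Nat.find_spec hex
    have hm2 : ∀ i : ℕ, i < m → L - (i : ℤ) * p ∈ X := fun i hi =>
      by_contra fun h => Nat.find_min hex hi h
    have hmpos : 0 < m := Nat.pos_of_ne_zero fun e => by
      rw [e] at hm1; simp at hm1; exact hm1 hLX
    have hmle : m ≤ t.toNat + 1 := Nat.find_le (by rw [hgap]; exact hxg)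
    set h := L - (m : ℤ) * p with hh
    have hh0 : 0 ≤ h := by
      have h1 : (m : ℤ) * p ≤ ((t.toNat + 1 : ℕ) : ℤ) * p :=
        mul_le_mul_of_nonneg_right (by exact_mod_cast hmle) hp.le
      have h2 : x - (p : ℤ) ≤ h := by rw [hh, ← hgap]; linarith
      linarith
    have hhlt : h < 2 * (n : ℤ) := by
      have : 0 ≤ (m : ℤ) * p := by positivity
      omega
    have hL1 : refl n L ∉ X := (hself L (hrange L hLX).1 hLlt).1 hLX
    have hh1 : refl n h ∈ X := by_contra fun hn => hm1 ((hself h hh0 hhlt).2 hn)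
    have hhr : (h : ZMod p) = r := by rw [hh]; simp [hLr]
    have hsr : mirrorRes p n r ≠ r := fun e => by
      rw [halfRes, Finset.mem_filter, e] at hr
      exact lt_irrefl _ hr.2
    have hne : ∀ {a b : ℤ}, (a : ZMod p) = r → (b : ZMod p) = mirrorRes p n r → a ≠ b :=
      fun ha hb e => hsr (by rw [← hb, ← e, ha])
    have hrL : ((refl n L : ℤ) : ZMod p) = mirrorRes p n r := by rw [res_refl, hLr]
    have hrh : ((refl n h : ℤ) : ZMod p) = mirrorRes p n r := by rw [res_refl, hhr]
    set X₁ := swapIn X L h with hX₁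
    have ha : refl n h ∈ X₁ := Finset.mem_insert_of_mem
      (Finset.mem_erase.2 ⟨(hne hLr hrh).symm, hh1⟩)
    have hb : refl n L ∉ X₁ := by
      simp only [hX₁, swapIn, Finset.mem_insert, Finset.mem_erase, not_or, not_and]
      exact ⟨(hne hhr hrL).symm, fun _ => hL1⟩
    set X' := swapIn X₁ (refl n h) (refl n L) with hX'
    have hq' : qSet p X' = qSet p X - 2 * (m : ℤ) := by
      rw [hX', qSet_swapIn ha hb, hX₁, qSet_swapIn hLX hm1]
      have e1 : h / (p : ℤ) = L / (p : ℤ) - m := sub_mul_ediv L m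
      have e2 : refl n L / (p : ℤ) = refl n h / (p : ℤ) - m := by
        rw [← sub_mul_ediv]
        congr 1
        simp only [refl, hh]
        ring
      rw [e1, e2]
      ring
    have hc' : cSet p X' = c := by
      rw [hX', cSet_swapIn ha hb (by rw [hrh, hrL]), hX₁,
        cSet_swapIn hLX hm1 (by rw [hLr, hhr]), hc]
    have hmem : ∀ y, y ∈ X' ↔ y = refl n L ∨ (y ≠ refl n h ∧ (y = h ∨ (y ≠ L ∧ y ∈ X))) :=
      fun y => by simp [hX', hX₁, swapIn]
    have hjle : 2 * m ≤ v := by
      obtain ⟨γ, hγ, hγimg⟩ := exists_enum (X := X') (n := n)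
        (by rw [hX', card_swapIn ha hb, hX₁, card_swapIn hLX hm1, hcard])
      have hγ0 : ∀ k, 0 ≤ γ k := fun k => by
        have hk : γ k ∈ X' := hγimg ▸ Finset.mem_image_of_mem γ (Finset.mem_univ k)
        rcases (hmem _).1 hk with e | ⟨-, e | ⟨-, e⟩⟩
        · rw [e]; simp only [refl]; omega
        · rw [e]; exact hh0
        · exact (hrange _ e).1
      have hle := pairCount_le (p := p) hγ hγ0
      rw [← cSet_image hγ, ← qSet_image hγ, hγimg, hc', hq'] at hle
      zify
      linarith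
    refine ⟨v - 2 * m, r, X', by omega, mem_scSet.2 ⟨⟨?_, ?_, ?_⟩, hc', ?_⟩, Or.inl ⟨hr, L, m, hLr,
      by omega, hmpos, hLX, hmax, hm1, hm2, hX'⟩⟩
    · intro y hy
      rcases (hmem y).1 hy with e | ⟨-, e | ⟨-, e⟩⟩
      · have := (hrange L hLX).1
        rw [e]; simp only [refl]; omega
      · rw [e]; exact ⟨hh0, hhlt⟩
      · exact hrange y e
    · rw [hX', card_swapIn ha hb, hX₁, card_swapIn hLX hm1, hcard]
    · have hLh : L ≠ h := fun e => hm1 (e ▸ hLX)
      refine mirror_toggle hself (T := {L, refl n L, h, refl n h}) (fun y hy => ?_) (fun y hy => ?_)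
        (fun y hy => ?_)
      · simp only [Finset.mem_insert, Finset.mem_singleton] at hy ⊢
        rcases hy with e | e | e | e <;> rw [e] <;> simp [refl_refl]
      · simp only [Finset.mem_insert, Finset.mem_singleton, not_or] at hy
        rw [hmem]
        simp only [hy.1, hy.2.1, hy.2.2.1, hy.2.2.2, false_or, ne_eq, not_false_eq_true, true_and]
      · simp only [Finset.mem_insert, Finset.mem_singleton] at hy
        rw [hmem]
        rcases hy with e | e | e | e <;> subst y
        · simp [hLX, hne hLr hrL, hne hLr hrh, hLh]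
        · simp [hL1]
        · simp [hm1, hne hhr hrh]
        · simp [hh1, (show refl n h ≠ refl n L from fun e => hLh (by
            have := congrArg (refl n) e
            rw [refl_refl, refl_refl] at this
            exact this.symm))]
    · rw [hq', Nat.cast_sub hjle]
      push_cast
      linarith
  · have hfix : mirrorRes p n r = r := (Finset.mem_filter.1 hr).2
    have hh2 : refl n (x - p) ∈ X :=
      by_contra fun hn => hxg ((hself (x - p) hx0
        (by have := (hrange x hxX).2; omega)).2 hn)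
    have hle2 : refl n (x - p) ≤ L := hmax _ hh2 (by rw [res_refl]; simp [hxr, hfix])
    have hxle : x ≤ L := hmax x hxX hxr
    have hpos : 0 < 2 * L - (2 * (n : ℤ) - 1) := by simp only [refl] at hle2; omega
    have hd : (p : ℤ) ∣ 2 * L - (2 * (n : ℤ) - 1) := by
      rw [← ZMod.intCast_zmod_eq_zero_iff_dvd]
      push_cast
      rw [hLr]
      simp only [mirrorRes] at hfix
      linear_combination (-1 : ZMod p) * hfix
    obtain ⟨k, hk⟩ := hd
    have hk0 : 0 < k := pos_of_mul_pos_right (by linarith : (0 : ℤ) < p * k) hp.le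
    obtain ⟨m, rfl⟩ := Int.eq_ofNat_of_zero_le hk0.le
    have hm : 2 * L - (2 * (n : ℤ) - 1) = (m : ℤ) * p := by rw [hk]; ring
    have hL1 : refl n L ∉ X := (hself L (hrange L hLX).1 hLlt).1 hLX
    set X' := swapIn X L (refl n L) with hX'
    have hq' : qSet p X' = qSet p X - (m : ℤ) := by
      rw [hX', qSet_swapIn hLX hL1]
      have e : refl n L / (p : ℤ) = L / (p : ℤ) - m := by
        rw [← sub_mul_ediv]
        congr 1
        simp only [refl]
        linarith
      rw [e]
      ring
    have hc' : cSet p X' = c := by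
      rw [hX', cSet_swapIn hLX hL1 (by rw [res_refl, hLr, hfix]), hc]
    have hmem : ∀ y, y ∈ X' ↔ y = refl n L ∨ (y ≠ L ∧ y ∈ X) := fun y => by simp [hX', swapIn]
    have hjle : m ≤ v := by
      obtain ⟨γ, hγ, hγimg⟩ := exists_enum (X := X') (n := n)
        (by rw [hX', card_swapIn hLX hL1, hcard])
      have hγ0 : ∀ k, 0 ≤ γ k := fun k => by
        have hk : γ k ∈ X' := hγimg ▸ Finset.mem_image_of_mem γ (Finset.mem_univ k)
        rcases (hmem _).1 hk with e | ⟨-, e⟩
        · rw [e]; simp only [refl]; omega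
        · exact (hrange _ e).1
      have hle := pairCount_le (p := p) hγ hγ0
      rw [← cSet_image hγ, ← qSet_image hγ, hγimg, hc', hq'] at hle
      omega
    have hm0 : 0 < m := by exact_mod_cast hk0
    refine ⟨v - m, r, X', by omega, mem_scSet.2 ⟨⟨?_, ?_, ?_⟩, hc', ?_⟩,
      Or.inr ⟨hr, L, m, hLr, by omega, odd_of_eq hm, hm, hLX, hX'⟩⟩
    · intro y hy
      rcases (hmem y).1 hy with e | ⟨-, e⟩
      · have := (hrange L hLX).1
        rw [e]; simp only [refl]; omega
      · exact hrange y e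
    · rw [hX', card_swapIn hLX hL1, hcard]
    · have hne : L ≠ refl n L := fun e => hL1 (e ▸ hLX)
      refine mirror_toggle hself (T := {L, refl n L}) (fun y hy => ?_) (fun y hy => ?_)
        (fun y hy => ?_)
      · simp only [Finset.mem_insert, Finset.mem_singleton] at hy ⊢
        rcases hy with e | e <;> rw [e] <;> simp [refl_refl]
      · simp only [Finset.mem_insert, Finset.mem_singleton, not_or] at hy
        rw [hmem]
        simp only [hy.1, hy.2, false_or, ne_eq, not_false_eq_true, true_and]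
      · simp only [Finset.mem_insert, Finset.mem_singleton] at hy
        rw [hmem]
        rcases hy with e | e <;> subst y
        · simp [hLX, hne]
        · simp [hL1]
    · rw [hq', Nat.cast_sub hjle]
      linarith

theorem mem_halfRes_ne {r : ZMod p} (h : r ∈ halfRes p n) : mirrorRes p n r ≠ r := fun e => by
  rw [halfRes, Finset.mem_filter, e] at h
  exact lt_irrefl _ h.2

theorem step_injective {c : ZMod p → ℕ} {v j : ℕ} {r : ZMod p} {X Y X' : Finset ℤ}
    (hX : X ∈ scSet n p c v) (hY : Y ∈ scSet n p c v) (h1 : Step p n v X X' j r)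
    (h2 : Step p n v Y X' j r) : X = Y := by
  have hp : (0 : ℤ) < p := by exact_mod_cast Nat.pos_of_neZero p
  rcases h1 with ⟨hr, L, m, hLr, hvm, hm0, hLX, hmax, hm1, hm2, hX'⟩ |
    ⟨hr, L, m, hLr, hvm, -, hm, hLX, hX'⟩
  · rcases h2 with ⟨-, L', m', hL'r, hvm', -, hL'Y, hmax', hm1', hm2', hY'⟩ | ⟨hr', -⟩
    swap
    · exact absurd (Finset.mem_filter.1 hr').2 (mem_halfRes_ne hr)
    obtain rfl : m = m' := by omega
    have hsr := mem_halfRes_ne hr
    have key : ∀ {Z : Finset ℤ} {T : ℤ}, (T : ZMod p) = r → T ∈ Z →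
        (∀ y ∈ Z, (y : ZMod p) = r → y ≤ T) → (∀ i : ℕ, i < m → T - (i : ℤ) * p ∈ Z) →
        X' = swapIn (swapIn Z T (T - (m : ℤ) * p)) (refl n (T - (m : ℤ) * p)) (refl n T) →
        (T - p ∈ X' ∧ ∀ y ∈ X', (y : ZMod p) = r → y ≤ T - p) := by
      intro Z T hTr hTZ hTmax hfill hZ'
      have hnr : ∀ i : ℤ, ((refl n (T - i * p) : ℤ) : ZMod p) = mirrorRes p n r := fun i => by
        rw [res_refl]
        simp [hTr]
      constructor
      · rw [hZ']
        simp only [swapIn, Finset.mem_insert, Finset.mem_erase]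
        refine Or.inr ⟨fun e => hsr ?_, ?_⟩
        · rw [← hnr (m : ℤ), ← e]; simp [hTr]
        · rcases eq_or_lt_of_le (show 1 ≤ m from hm0) with e | e
          · exact Or.inl (by rw [← e]; simp)
          · refine Or.inr ⟨by omega, ?_⟩
            simpa using hfill 1 e
      · intro y hy hyr
        rw [hZ'] at hy
        simp only [swapIn, Finset.mem_insert, Finset.mem_erase] at hy
        rcases hy with e | ⟨-, e | ⟨hne, hyZ⟩⟩
        · rw [e, res_refl, hTr] at hyr
          exact absurd hyr hsr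
        · rw [e]
          have : (1 : ℤ) * p ≤ (m : ℤ) * p :=
            mul_le_mul_of_nonneg_right (by exact_mod_cast hm0) hp.le
          linarith
        · have hle := hTmax y hyZ hyr
          have hd : (p : ℤ) ∣ T - y := by
            rw [← ZMod.intCast_eq_intCast_iff_dvd_sub, hyr, hTr]
          obtain ⟨k, hk⟩ := hd
          have hk1 : 1 ≤ k := pos_of_mul_pos_right (by omega : (0 : ℤ) < p * k) hp.le
          have : (p : ℤ) * 1 ≤ p * k := mul_le_mul_of_nonneg_left hk1 hp.le
          linarith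
    obtain ⟨ha1, ha2⟩ := key hLr hLX hmax hm2 hX'
    obtain ⟨hb1, hb2⟩ := key hL'r hL'Y hmax' hm2' hY'
    have e1 := ha2 _ hb1 (by simp [hL'r])
    have e2 := hb2 _ ha1 (by simp [hLr])
    obtain rfl : L = L' := by omega
    obtain ⟨⟨hXr, -, hXs⟩, -, -⟩ := mem_scSet.1 hX
    obtain ⟨⟨hYr, -, hYs⟩, -, -⟩ := mem_scSet.1 hY
    ext y
    have hy := Finset.ext_iff.1 (hX'.symm.trans hY') y
    simp only [swapIn, Finset.mem_insert, Finset.mem_erase] at hy
    have hL0 := hXr L hLX
    have hh0 : ∀ {Z : Finset ℤ}, SelfMirror n Z → L - (m : ℤ) * p ∉ Z → 0 ≤ L - (m : ℤ) * p →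
        refl n (L - (m : ℤ) * p) ∈ Z := fun hZ h1 h0 =>
      by_contra fun h2 => h1 ((hZ.2.2 _ h0 (by
        have : 0 ≤ (m : ℤ) * p := by positivity
        omega)).2 h2)
    by_cases c1 : y = L
    · subst c1; simp [hLX, hL'Y]
    by_cases c2 : y = L - (m : ℤ) * p
    · subst c2; simp [hm1, hm1']
    by_cases c3 : y = refl n L
    · subst c3
      simp [(hXs L hL0.1 hL0.2).1 hLX, (hYs L hL0.1 hL0.2).1 hL'Y]
    by_cases c4 : y = refl n (L - (m : ℤ) * p)
    · subst c4
      by_cases h0 : 0 ≤ L - (m : ℤ) * p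
      · simp [hh0 (mem_scSet.1 hX).1 hm1 h0, hh0 (mem_scSet.1 hY).1 hm1' h0]
      · constructor <;> intro h <;> exfalso
        · have := (hXr _ h).2
          simp only [refl] at this
          omega
        · have := (hYr _ h).2
          simp only [refl] at this
          omega
    simpa [c1, c2, c3, c4] using hy
  · rcases h2 with ⟨hr', -⟩ | ⟨-, L', m', hL'r, hvm', -, hm', hL'Y, hY'⟩
    · exact absurd (Finset.mem_filter.1 hr).2 (mem_halfRes_ne hr')
    obtain rfl : m = m' := by omega
    obtain rfl : L = L' := by omega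
    obtain ⟨⟨hXr, -, hXs⟩, -, -⟩ := mem_scSet.1 hX
    obtain ⟨⟨hYr, -, hYs⟩, -, -⟩ := mem_scSet.1 hY
    ext y
    have hy := Finset.ext_iff.1 (hX'.symm.trans hY') y
    simp only [swapIn, Finset.mem_insert, Finset.mem_erase] at hy
    have hL0 := hXr L hLX
    by_cases c1 : y = L
    · subst c1; simp [hLX, hL'Y]
    by_cases c3 : y = refl n L
    · subst c3
      simp [(hXs L hL0.1 hL0.2).1 hLX, (hYs L hL0.1 hL0.2).1 hL'Y]
    simpa [c1, c3] using hy

/-- The runners used at weight `j` below `v`. -/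
def stepRes (p n v j : ℕ) [NeZero p] : Finset (ZMod p) :=
  if Even (v - j) then halfRes p n else fixRes p n

theorem mem_stepRes {v j : ℕ} {r : ZMod p} {X X' : Finset ℤ} (h : Step p n v X X' j r) :
    r ∈ stepRes p n v j := by
  rcases h with ⟨hr, L, m, -, hvm, -⟩ | ⟨hr, L, m, -, hvm, hodd, -⟩
  · rw [stepRes, if_pos (by rw [show v - j = 2 * m by omega]; exact even_two_mul m)]
    exact hr
  · rw [stepRes, if_neg (by rw [show v - j = m by omega, Nat.not_even_iff_odd]; exact hodd)]
    exact hr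

theorem card_scSet_zero (c : ZMod p → ℕ) : (scSet n p c 0).card ≤ 1 := by
  refine Finset.card_le_one.2 fun X hX Y hY => ?_
  obtain ⟨⟨hXr, hXc, -⟩, hX1, hX2⟩ := mem_scSet.1 hX
  obtain ⟨⟨hYr, hYc, -⟩, hY1, hY2⟩ := mem_scSet.1 hY
  obtain ⟨β, hβ, rfl⟩ := exists_enum hXc
  obtain ⟨γ, hγ, rfl⟩ := exists_enum hYc
  rw [cSet_image hβ] at hX1
  rw [cSet_image hγ] at hY1
  rw [qSet_image hβ] at hX2
  rw [qSet_image hγ] at hY2
  obtain ⟨π, rfl⟩ := eq_comp_of_min (p := p) hβ (fun i => (hXr _ (Finset.mem_image_of_mem _ (by simp))).1)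
    hγ (fun i => (hYr _ (Finset.mem_image_of_mem _ (by simp))).1) (hX1.trans hY1.symm)
    (by rw [hX1, hX2]; simp) (by rw [hY1, hY2]; simp)
  rw [← Finset.image_image, Finset.image_univ_equiv]

theorem card_scSet_le (c : ZMod p → ℕ) {v : ℕ} (hv : 0 < v) :
    (scSet n p c v).card ≤
      ∑ j ∈ Finset.range v, (stepRes p n v j).card * (scSet n p c j).card := by
  choose j r X' hj hX' hstep using fun X : scSet n p c v => exists_step hv X.2
  refine le_trans ?_ (le_of_eq (Finset.sum_congr rfl fun j _ => Finset.card_product _ _))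
  rw [← Finset.card_sigma, ← Fintype.card_coe]
  refine Finset.card_le_card_of_injOn (fun X => ⟨j X, (r X, X' X)⟩) (fun X _ => ?_) ?_
  · simp only [Finset.mem_coe, Finset.mem_sigma, Finset.mem_range, Finset.mem_product]
    exact ⟨hj X, mem_stepRes (hstep X), hX' X⟩
  · intro X _ Y _ h
    simp only [Sigma.mk.injEq, heq_eq_eq, Prod.mk.injEq] at h
    obtain ⟨e1, e2, e3⟩ := h
    refine Subtype.ext (step_injective X.2 Y.2 (hstep X) ?_)
    rw [e1, e2, e3]
    exact hstep Y

theorem fixRes_card_le [Fact p.Prime] (hp2 : p ≠ 2) : (fixRes p n).card ≤ 1 := by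
  refine Finset.card_le_one.2 fun r hr s hs => ?_
  have h1 := (Finset.mem_filter.1 hr).2
  have h2 := (Finset.mem_filter.1 hs).2
  simp only [mirrorRes] at h1 h2
  have h3 : (2 : ZMod p) * (r - s) = 0 := by linear_combination h2 - h1
  refine sub_eq_zero.1 ((mul_eq_zero.1 h3).resolve_left fun h => ?_)
  have h4 : (((2 : ℕ)) : ZMod p) = 0 := by exact_mod_cast h
  rw [ZMod.natCast_eq_zero_iff] at h4
  exact hp2 ((Nat.prime_dvd_prime_iff_eq (Fact.out : p.Prime) Nat.prime_two).1 h4)

theorem two_mul_halfRes_add : 2 * (halfRes p n).card + (fixRes p n).card = p := by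
  have h1 : (Finset.univ.filter fun r : ZMod p => (mirrorRes p n r).val < r.val).card =
      (halfRes p n).card := by
    refine Finset.card_bij' (fun r _ => mirrorRes p n r) (fun r _ => mirrorRes p n r) ?_ ?_ ?_ ?_ <;>
      intro r hr <;> simp_all [halfRes, mirrorRes_mirrorRes]
  have h2 : (Finset.univ : Finset (ZMod p)) = halfRes p n ∪ fixRes p n ∪
      Finset.univ.filter fun r : ZMod p => (mirrorRes p n r).val < r.val := by
    ext r
    simp only [halfRes, fixRes, Finset.mem_union, Finset.mem_filter, Finset.mem_univ, true_and,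
      true_iff]
    rcases lt_trichotomy r.val (mirrorRes p n r).val with h | h | h
    · exact Or.inl (Or.inl h)
    · exact Or.inl (Or.inr (ZMod.val_injective p h).symm)
    · exact Or.inr h
  have h3 := congrArg Finset.card h2
  rw [Finset.card_univ, ZMod.card, Finset.card_union_of_disjoint, Finset.card_union_of_disjoint,
    h1] at h3
  · omega
  · rw [Finset.disjoint_left]
    intro r hr hr'
    simp only [halfRes, fixRes, Finset.mem_filter, Finset.mem_univ, true_and] at hr hr'
    rw [hr'] at hr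
    exact lt_irrefl _ hr
  · rw [Finset.disjoint_left]
    intro r hr hr'
    simp only [halfRes, fixRes, Finset.mem_union, Finset.mem_filter, Finset.mem_univ,
      true_and] at hr hr'
    rcases hr with hr | hr
    · omega
    · rw [hr] at hr'; exact lt_irrefl _ hr'

theorem halfRes_card_le : (halfRes p n).card ≤ p / 2 := by
  have := two_mul_halfRes_add (p := p) (n := n)
  omega

theorem fixRes_two : (fixRes 2 n) = ∅ := by
  refine Finset.eq_empty_of_forall_notMem fun r hr => ?_
  have h := (Finset.mem_filter.1 hr).2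
  simp only [mirrorRes] at h
  generalize (n : ZMod 2) = a at h
  clear hr
  revert h
  revert r a
  decide

/-- The count of self-conjugate configurations at an odd prime. -/
theorem two_mul_card_scSet [Fact p.Prime] (hp2 : p ≠ 2) (c : ZMod p → ℕ) :
    ∀ v : ℕ, (scSet n p c v).card ≤ p ^ v ∧
      (0 < v → 2 * (scSet n p c v).card ≤ p ^ v - 1) := by
  have hp3 : 3 ≤ p := by
    have := (Fact.out : p.Prime).two_le
    omega
  intro v
  induction v using Nat.strong_induction_on with
  | _ v ih =>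
  rcases Nat.eq_zero_or_pos v with rfl | hv
  · exact ⟨by simpa using card_scSet_zero (n := n) c, fun h => absurd h (lt_irrefl 0)⟩
  have hR : ∀ j, 2 * (stepRes p n v j).card ≤ p - 1 := by
    intro j
    unfold stepRes
    split_ifs
    · have h1 := halfRes_card_le (p := p) (n := n)
      have h2 : p % 2 = 1 := ((Fact.out : p.Prime).eq_two_or_odd).resolve_left hp2
      omega
    · have := fixRes_card_le (p := p) (n := n) hp2
      omega
  have hsum : 2 * (scSet n p c v).card ≤ (p - 1) * ∑ j ∈ Finset.range v, p ^ j := by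
    refine le_trans (Nat.mul_le_mul_left 2 (card_scSet_le c hv)) ?_
    rw [Finset.mul_sum, Finset.mul_sum]
    refine Finset.sum_le_sum fun j hj => ?_
    rw [← mul_assoc]
    exact Nat.mul_le_mul (hR j) (ih j (Finset.mem_range.1 hj)).1
  have := geom_bound p (Nat.pos_of_neZero p) v
  exact ⟨by omega, fun _ => by omega⟩

/-- The count of self-conjugate configurations at the prime `2`. -/
theorem card_scSet_two (c : ZMod 2 → ℕ) : ∀ v : ℕ,
    ((scSet n 2 c v).card ≤ if Odd v then 0 else 2 ^ (v / 2 - 1)) := by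
  intro v
  induction v using Nat.strong_induction_on with
  | _ v ih =>
  rcases Nat.eq_zero_or_pos v with rfl | hv
  · simpa using card_scSet_zero (n := n) c
  refine (card_scSet_le c hv).trans ?_
  have hh : (halfRes 2 n).card ≤ 1 := halfRes_card_le
  have hb : ∀ j ∈ Finset.range v, (stepRes 2 n v j).card * (scSet n 2 c j).card ≤
      if Even (v - j) then (if Odd j then 0 else 2 ^ (j / 2 - 1)) else 0 := by
    intro j hj
    unfold stepRes
    split_ifs with h1 h2
    · have := ih j (Finset.mem_range.1 hj)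
      rw [if_pos h2] at this
      simp [Nat.le_zero.1 this]
    · have := ih j (Finset.mem_range.1 hj)
      rw [if_neg h2] at this
      calc (halfRes 2 n).card * (scSet n 2 c j).card ≤ 1 * 2 ^ (j / 2 - 1) :=
            Nat.mul_le_mul hh this
        _ = _ := one_mul _
    · simp [fixRes_two]
  refine (Finset.sum_le_sum hb).trans ?_
  split_ifs with hodd
  · refine le_of_eq (Finset.sum_eq_zero fun j hj => ?_)
    have hjv := Finset.mem_range.1 hj
    split_ifs with h1 h2
    · rfl
    · rw [Nat.even_iff] at h1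
      rw [Nat.odd_iff] at hodd h2
      omega
    · rfl
  · obtain ⟨w, hw⟩ := Nat.not_odd_iff_even.1 hodd
    subst hw
    obtain ⟨u, rfl⟩ : ∃ u, w = u + 1 := ⟨w - 1, by omega⟩
    rw [show (u + 1 + (u + 1)) / 2 - 1 = u by omega]
    clear * -
    induction u with
    | zero => decide
    | succ u ih =>
      have e : ∀ j, (if Even (u + 1 + 1 + (u + 1 + 1) - j) then
          (if Odd j then 0 else 2 ^ (j / 2 - 1)) else 0 : ℕ) =
          if Odd j then 0 else if u + 1 + 1 + (u + 1 + 1) < j then 2 ^ (j / 2 - 1)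
            else 2 ^ (j / 2 - 1) := by
        intro j
        by_cases hj : Odd j
        · simp [hj]
        · rw [if_neg hj, if_neg hj, ite_self, if_pos]
          rw [Nat.odd_iff] at hj
          rw [Nat.even_iff]
          omega
      have e' : ∀ j, (if Even (u + 1 + (u + 1) - j) then
          (if Odd j then 0 else 2 ^ (j / 2 - 1)) else 0 : ℕ) =
          if Odd j then 0 else 2 ^ (j / 2 - 1) := by
        intro j
        by_cases hj : Odd j
        · simp [hj]
        · rw [if_neg hj, if_pos]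
          rw [Nat.odd_iff] at hj
          rw [Nat.even_iff]
          omega
      simp only [e, ite_self] at *
      simp only [e'] at ih
      rw [show u + 1 + 1 + (u + 1 + 1) = (u + 1 + (u + 1)) + 1 + 1 by ring, Finset.sum_range_succ,
        Finset.sum_range_succ, if_neg (by rw [Nat.odd_iff]; omega),
        if_pos (by rw [Nat.odd_iff]; omega),
        show (u + 1 + (u + 1)) / 2 - 1 = u by omega, pow_succ]
      omega

end CfsgLib.SymBlocks
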