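import Cfsg.Agent.Lib.SymBlocks.Degree
import Cfsg.Agent.Lib.SymBlocks.SelfConj
import Mathlib.Data.Nat.Prime.Factorial
import Mathlib.Data.Finite.Perm

/-!
# Characters of height zero and one with a given core
-/

set_option autoImplicit false

noncomputable section

open scoped Classical

namespace CfsgLib.SymBlocks

open Equiv Cfsg CfsgLib.Characters

variable {N n p : ℕ}

set_option quotPrecheck false in
local notation:max "vf" q:max m:max => (Nat.factorization (Nat.factorial m) q)

/-! ## Factorials -/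

section Fact

variable [hp : Fact p.Prime]

theorem fac_mul (x : ℕ) : (vf p (p * x)) = x + vf p x := by
  have := factorization_factorial_mul_add (p := p) (q := x) hp.out.pos
  simpa using this

theorem fac_pow_add : ∀ (j m t : ℕ), t < p ^ j → (vf p (m * p ^ j + t)) = (vf p (m * p ^ j)) + vf p t := by
  intro j
  induction j with
  | zero =>
    intro m t ht
    obtain rfl : t = 0 := by simpa using ht
    simp
  | succ j ih =>
    intro m t ht
    have h1 : t / p < p ^ j := by
      rw [Nat.div_lt_iff_lt_mul hp.out.pos, ← pow_succ]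
      exact ht
    have e1 : m * p ^ (j + 1) + t = p * (m * p ^ j + t / p) + t % p := by
      rw [pow_succ, mul_add, add_assoc, Nat.div_add_mod]; ring
    rw [e1, factorization_factorial_mul_add (Nat.mod_lt t hp.out.pos), ih m _ h1]
    conv_rhs => rw [show t = p * (t / p) + t % p from (Nat.div_add_mod t p).symm,
      factorization_factorial_mul_add (Nat.mod_lt t hp.out.pos),
      show m * p ^ (j + 1) = p * (m * p ^ j) by ring, fac_mul]
    ring

theorem fac_small {m : ℕ} (hm : m < p) : (vf p m) = 0 :=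
  Nat.factorization_eq_zero_of_not_dvd fun h => ((hp.out.dvd_factorial).1 h).not_gt hm

theorem fac_digit : ∀ (j m : ℕ), m < p → (vf p (m * p ^ j)) = m * vf p (p ^ j) := by
  intro j
  induction j with
  | zero => intro m hm; simp [fac_small hm]
  | succ j ih =>
    intro m hm
    rw [show m * p ^ (j + 1) = p * (m * p ^ j) by ring, fac_mul, ih m hm,
      show p ^ (j + 1) = p * p ^ j by ring, fac_mul]
    ring

theorem fac_pow_succ : ∀ j : ℕ, (vf p (p ^ (j + 1))) = p * (vf p (p ^ j)) + 1 := by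
  intro j
  induction j with
  | zero => rw [show p ^ (0 + 1) = p * 1 by ring, pow_zero, fac_mul]; simp [add_comm]
  | succ j ih =>
    conv_lhs => rw [pow_succ', fac_mul, ih]
    conv_rhs => rw [pow_succ', fac_mul]
    ring

/-- The distribution of a weight over the runners giving height one, for odd primes. -/
theorem exists_split_odd (hp3 : 3 ≤ p) {w : ℕ} (hw : p ≤ w) :
    ∃ a : ZMod p → ℕ, ∑ r, a r = w ∧ (∑ r, vf p (a r)) + 1 = vf p w := by
  obtain ⟨i, hi⟩ : ∃ i, Nat.log p w = i + 1 :=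
    ⟨Nat.log p w - 1, by have := Nat.log_pos hp.out.one_lt hw; omega⟩
  set P := p ^ i with hP
  set P' := p ^ (i + 1) with hP'
  have hw0 : w ≠ 0 := by omega
  have hlo : P' ≤ w := by rw [hP', ← hi]; exact Nat.pow_log_le_self p hw0
  have hhi : w < P' * p := by
    rw [hP', ← hi, ← pow_succ]; exact Nat.lt_pow_succ_log_self hp.out.one_lt w
  have hP'0 : 0 < P' := pow_pos hp.out.pos _
  set m := w / P' with hm
  set t := w % P' with ht
  have hm1 : 1 ≤ m := (Nat.one_le_div_iff hP'0).2 hlo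
  have hmp : m < p := Nat.div_lt_of_lt_mul hhi
  have hwe : w = m * P' + t := by rw [hm, ht, mul_comm, Nat.div_add_mod]
  have htP : t < P' := Nat.mod_lt _ hP'0
  haveI : Fact (1 < p) := ⟨hp.out.one_lt⟩
  refine ⟨fun r => if r = 0 then (m - 1) * P' + t else if r = 1 then 2 * P else P, ?_, ?_⟩
  · rw [← Finset.add_sum_erase _ _ (Finset.mem_univ (0 : ZMod p)), if_pos rfl,
      ← Finset.add_sum_erase _ _ (show (1 : ZMod p) ∈ Finset.univ.erase (0 : ZMod p) by simp),
      if_neg one_ne_zero, if_pos rfl, Finset.sum_congr rfl (g := fun _ => P) (fun x hx => by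
        simp only [Finset.mem_erase, Finset.mem_univ, and_true] at hx
        rw [if_neg hx.2, if_neg hx.1]),
      Finset.sum_const, Finset.card_erase_of_mem (by simp), Finset.card_erase_of_mem (by simp),
      Finset.card_univ, ZMod.card, smul_eq_mul]
    obtain ⟨k, hk⟩ : ∃ k, p = k + 2 := ⟨p - 2, by omega⟩
    obtain ⟨l, hl⟩ : ∃ l, m = l + 1 := ⟨m - 1, by omega⟩
    rw [hwe, hP', pow_succ, ← hP, hl, show p - 1 - 1 = k by omega, hk]
    simp only [Nat.add_sub_cancel]
    ring
  · dsimp only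
    rw [← Finset.add_sum_erase _ _ (Finset.mem_univ (0 : ZMod p)), if_pos rfl,
      ← Finset.add_sum_erase _ _ (show (1 : ZMod p) ∈ Finset.univ.erase (0 : ZMod p) by simp),
      if_neg one_ne_zero, if_pos rfl, Finset.sum_congr rfl (g := fun _ => vf p P) (fun x hx => by
        simp only [Finset.mem_erase, Finset.mem_univ, and_true] at hx
        rw [if_neg hx.2, if_neg hx.1]),
      Finset.sum_const, Finset.card_erase_of_mem (by simp), Finset.card_erase_of_mem (by simp),
      Finset.card_univ, ZMod.card, smul_eq_mul]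
    rw [hwe, fac_pow_add (i + 1) _ t htP, fac_pow_add (i + 1) _ t htP,
      fac_digit (i + 1) m hmp, fac_digit (i + 1) (m - 1) (by omega),
      fac_digit i 2 (by omega), fac_pow_succ]
    obtain ⟨k, hk⟩ : ∃ k, p = k + 2 := ⟨p - 2, by omega⟩
    obtain ⟨l, hl⟩ : ∃ l, m = l + 1 := ⟨m - 1, by omega⟩
    rw [hl, show p - 1 - 1 = k by omega, Nat.add_sub_cancel]
    subst hk
    ring

end Fact

theorem exists_split_even : ∀ x : ℕ, 1 ≤ x → ∃ a b : ℕ, a + b = 2 * x ∧ 1 ≤ b ∧ b ≤ a ∧
    (a.factorial).factorization 2 + (b.factorial).factorization 2 + 1 =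
      ((2 * x).factorial).factorization 2 := by
  haveI : Fact (Nat.Prime 2) := ⟨Nat.prime_two⟩
  intro x
  induction x using Nat.strong_induction_on with
  | _ x ih =>
    intro hx
    rcases Nat.even_or_odd x with ⟨y, hy⟩ | ⟨y, hy⟩
    · obtain ⟨a, b, hab, hb, hba, hv⟩ := ih y (by omega) (by omega)
      refine ⟨2 * a, 2 * b, by omega, by omega, by omega, ?_⟩
      rw [fac_mul, fac_mul, fac_mul, show x = 2 * y by omega]
      omega
    · refine ⟨2 * x - 1, 1, by omega, le_rfl, by omega, ?_⟩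
      have hv : (2 * x).factorization 2 = 1 := by
        rw [Nat.factorization_mul two_ne_zero (by omega), Finsupp.add_apply,
          Nat.prime_two.factorization_self,
          Nat.factorization_eq_zero_of_not_dvd (by omega : ¬ 2 ∣ x)]
      conv_rhs => rw [← Nat.mul_factorial_pred (show 2 * x ≠ 0 by omega),
        Nat.factorization_mul (by omega) (Nat.factorial_ne_zero _), Finsupp.add_apply, hv]
      simp
      omega

/-- Weights not congruent to three modulo four. -/
theorem exists_split_two {w : ℕ} (hw : 3 ≤ w) (h4 : w % 4 ≠ 3) :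
    ∃ a b : ℕ, a + b = w ∧ 2 ≤ a ∧
      (a.factorial).factorization 2 + (b.factorial).factorization 2 + 1 =
        (w.factorial).factorization 2 := by
  haveI : Fact (Nat.Prime 2) := ⟨Nat.prime_two⟩
  rcases Nat.even_or_odd w with ⟨x, hx⟩ | ⟨x, hx⟩
  · obtain ⟨a, b, hab, hb, hba, hv⟩ := exists_split_even x (by omega)
    exact ⟨a, b, by omega, by omega, by rw [show w = 2 * x by omega]; exact hv⟩
  · obtain ⟨u, hu⟩ : ∃ u, x = 2 * u := ⟨x / 2, by omega⟩
    obtain ⟨a, b, hab, hb, hba, hv⟩ := exists_split_even u (by omega)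
    refine ⟨2 * a + 1, 2 * b, by omega, by omega, ?_⟩
    rw [factorization_factorial_mul_add (by norm_num), fac_mul, hx, hu,
      factorization_factorial_mul_add (by norm_num)]
    omega

/-! ## The level sets -/

section Levels

theorem two_sum_range (k : ℕ) :
    2 * ∑ q ∈ Finset.range k, (q : ℤ) = (k : ℤ) * ((k : ℤ) - 1) := by
  induction k with
  | zero => simp
  | succ k ih => rw [Finset.sum_range_succ, mul_add, ih]; push_cast; ring

variable [hp : Fact p.Prime]

theorem sum_range_sub {x : ℕ} : ∀ m, m ≤ x →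
    (∑ q ∈ Finset.range m, ((x : ℤ) - q).natAbs.factorization p) + (vf p (x - m)) = vf p x := by
  intro m
  induction m with
  | zero => simp
  | succ m ih =>
    intro hm
    rw [← ih (by omega), Finset.sum_range_succ, show x - m = x - (m + 1) + 1 by omega,
      Nat.factorial_succ, Nat.factorization_mul (by omega) (Nat.factorial_ne_zero _),
      Finsupp.add_apply, show ((x : ℤ) - m).natAbs = x - (m + 1) + 1 by omega]
    ring

theorem hookTwo_insert {Q : Finset ℕ} {x : ℕ} (hx : x ∉ Q) :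
    hookTwo p (insert x Q) = hookTwo p Q + 2 * (vf p x : ℕ) -
      2 * ∑ q ∈ Q, (((x : ℤ) - q).natAbs.factorization p : ℤ) := by
  simp only [hookTwo, Finset.sum_insert hx, Finset.sum_add_distrib, sub_self, Int.natAbs_zero,
    Nat.factorization_zero, Finsupp.coe_zero, Pi.zero_apply, Nat.cast_zero, zero_add]
  have e : ∑ q ∈ Q, (((q : ℤ) - x).natAbs.factorization p : ℤ) =
      ∑ q ∈ Q, (((x : ℤ) - q).natAbs.factorization p : ℤ) :=
    Finset.sum_congr rfl fun q _ => by rw [← Int.natAbs_neg, neg_sub]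
  rw [e]
  ring

theorem hookTwo_range (k : ℕ) : hookTwo p (Finset.range k) = 0 := by
  induction k with
  | zero => simp [hookTwo]
  | succ k ih =>
    rw [Finset.range_add_one, hookTwo_insert (by simp), ih]
    have h : (((∑ q ∈ Finset.range k, ((k : ℤ) - q).natAbs.factorization p) + (vf p (k - k)) : ℕ) : ℤ) =
        (vf p k : ℕ) := congrArg Nat.cast (sum_range_sub (p := p) k le_rfl)
    push_cast at h
    simp only [Nat.sub_self, Nat.factorial_zero, Nat.factorization_one, Finsupp.coe_zero,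
      Pi.zero_apply, Nat.cast_zero, add_zero] at h
    rw [h]
    ring

/-- One bead moved up by `a` levels. -/
def rowSet (k a : ℕ) : Finset ℕ := insert (k - 1 + a) (Finset.range (k - 1))

theorem card_rowSet {k : ℕ} (hk : 1 ≤ k) (a : ℕ) : (rowSet k a).card = k := by
  rw [rowSet, Finset.card_insert_of_notMem (by simp), Finset.card_range]
  omega

theorem sum_rowSet {k : ℕ} (hk : 1 ≤ k) (a : ℕ) :
    2 * ∑ q ∈ rowSet k a, (q : ℤ) = (k : ℤ) * ((k : ℤ) - 1) + 2 * (a : ℤ) := by
  obtain ⟨j, rfl⟩ : ∃ j, k = j + 1 := ⟨k - 1, by omega⟩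
  rw [rowSet, Finset.sum_insert (by simp), mul_add, Nat.add_sub_cancel, two_sum_range]
  push_cast
  ring

theorem hookTwo_rowSet (k a : ℕ) : hookTwo p (rowSet k a) = 2 * (vf p a : ℕ) := by
  rw [rowSet, hookTwo_insert (by simp), hookTwo_range]
  have h : ((∑ q ∈ Finset.range (k - 1), (((k - 1 + a : ℕ) : ℤ) - q).natAbs.factorization p) +
      (vf p (k - 1 + a - (k - 1))) : ℕ) = vf p (k - 1 + a) := sum_range_sub (k - 1) (by omega)
  rw [Nat.add_sub_cancel_left] at h
  have h' := congrArg (Nat.cast : ℕ → ℤ) h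
  push_cast at h' ⊢
  linarith

/-- Two beads moved up, by `a` levels and by one. -/
def pairSet (k a : ℕ) : Finset ℕ := insert (k - 1 + a) (rowSet (k - 1) 1)

theorem notMem_pairSet {k a : ℕ} (hk : 2 ≤ k) (ha : 1 ≤ a) : k - 1 + a ∉ rowSet (k - 1) 1 := by
  simp [rowSet]
  omega

theorem card_pairSet {k a : ℕ} (hk : 2 ≤ k) (ha : 1 ≤ a) : (pairSet k a).card = k := by
  rw [pairSet, Finset.card_insert_of_notMem (notMem_pairSet hk ha), card_rowSet (by omega)]
  omega

theorem sum_pairSet {k a : ℕ} (hk : 2 ≤ k) (ha : 1 ≤ a) :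
    2 * ∑ q ∈ pairSet k a, (q : ℤ) = (k : ℤ) * ((k : ℤ) - 1) + 2 * ((a : ℤ) + 1) := by
  obtain ⟨j, rfl⟩ : ∃ j, k = j + 2 := ⟨k - 2, by omega⟩
  rw [pairSet, Finset.sum_insert (notMem_pairSet hk ha), mul_add, sum_rowSet (by omega)]
  simp only [show j + 2 - 1 = j + 1 by omega]
  push_cast
  ring

theorem hookTwo_pairSet {k a : ℕ} (hk : 2 ≤ k) (ha : 1 ≤ a) :
    hookTwo p (pairSet k a) = 2 * (vf p (a + 1) : ℕ) - 2 * (a.factorization p : ℕ) := by
  rw [pairSet, hookTwo_insert (notMem_pairSet hk ha), hookTwo_rowSet, rowSet,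
    Finset.sum_insert (by simp)]
  obtain ⟨j, rfl⟩ : ∃ j, k = j + 2 := ⟨k - 2, by omega⟩
  simp only [show j + 2 - 1 = j + 1 by omega, show j + 1 - 1 = j by omega]
  have h : ((∑ q ∈ Finset.range j, (((j + 1 + a : ℕ) : ℤ) - q).natAbs.factorization p) +
      (vf p (j + 1 + a - j)) : ℕ) = vf p (j + 1 + a) := sum_range_sub j (by omega)
  rw [show j + 1 + a - j = a + 1 by omega] at h
  have h' := congrArg (Nat.cast : ℕ → ℤ) h
  push_cast at h'
  have e : (((j + 1 + a : ℕ) : ℤ) - ((j + 1 : ℕ) : ℤ)).natAbs = a := by push_cast; simp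
  rw [e, Nat.factorial_one, Nat.factorization_one]
  simp only [Finsupp.coe_zero, Pi.zero_apply, Nat.cast_zero, mul_zero, zero_add]
  push_cast at h' ⊢
  linarith

/-- The exponent of `p` in the hook lengths of one runner. -/
theorem hookTwo_bounds (Q : Finset ℕ) :
    ∃ m : ℕ, 2 * ∑ q ∈ Q, (q : ℤ) = (Q.card : ℤ) * ((Q.card : ℤ) - 1) + 2 * (m : ℤ) ∧
      0 ≤ hookTwo p Q ∧ hookTwo p Q ≤ 2 * (vf p m : ℕ) := by
  set k := Q.card with hk
  let e : Fin k ≃ Q := (Fintype.equivFinOfCardEq (Fintype.card_coe Q)).symm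
  set β : Exp k := fun i => ((e i : ℕ) : ℤ) with hβ
  have hinj : Function.Injective β := fun i j h =>
    e.injective (Subtype.ext (Int.ofNat.inj h))
  have h0 : ∀ i, 0 ≤ β i := fun i => Int.natCast_nonneg _
  have hsum : ∀ f : ℕ → ℤ, ∑ q ∈ Q, f q = ∑ i, f (e i) := fun f => by
    rw [e.sum_comp fun z : Q => f z, Finset.sum_coe_sort]
  have hb : (k : ℤ) * ((k : ℤ) - 1) = 2 * baseDeg k := by
    rw [baseDeg, Fin.sum_univ_eq_sum_range (fun i => (i : ℤ)), two_sum_range]
  have hle := baseDeg_le β hinj h0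
  set m := (∑ i, β i - baseDeg k).toNat with hm
  have hdeg : ∑ i, β i = (m : ℤ) + baseDeg k := by
    rw [hm, Int.toNat_of_nonneg (by omega)]
    ring
  refine ⟨m, by rw [hsum, hb, ← mul_add]; exact congrArg _ (hdeg.trans (add_comm _ _)), ?_⟩
  obtain ⟨hne, h⟩ := two_deg_factorization (p := p) hinj h0 hdeg
  have hdvd : (phi (Multiset.replicate m 1) β).natAbs ∣ m.factorial := by
    obtain ⟨ψ, hψ⟩ := chi_irr (n := m) ⟨hinj, h0, hdeg⟩
    obtain ⟨d, hd1, -, hd2⟩ := irr_degree_dvd_card ψ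
    have h1 : chi β (1 : Perm (Fin m)) = ((phi (Multiset.replicate m 1) β : ℤ) : ℂ) := by
      rw [chi, orb_one, Fintype.card_fin]
    have h2 : (phi (Multiset.replicate m 1) β).natAbs = d := by
      rcases hψ with hψ | hψ <;> rw [hψ] at h1
      · rw [hd1] at h1
        have : (phi (Multiset.replicate m 1) β : ℤ) = (d : ℤ) := by exact_mod_cast h1.symm
        omega
      · rw [Pi.neg_apply, hd1] at h1
        have : (phi (Multiset.replicate m 1) β : ℤ) = -(d : ℤ) := by exact_mod_cast h1.symm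
        omega
    rw [h2]
    rwa [Nat.card_perm, Nat.card_eq_fintype_card, Fintype.card_fin] at hd2
  have hfle := (Nat.factorization_le_iff_dvd (Int.natAbs_ne_zero.2 hne) m.factorial_ne_zero).2 hdvd p
  have hh : hookTwo p Q = 2 * ∑ i, ((((β i).toNat).factorial.factorization p : ℕ) : ℤ) -
      ∑ i, ∑ j, (((β i - β j).natAbs.factorization p : ℕ) : ℤ) := by
    rw [hookTwo, hsum, hsum]
    congr 1
    refine Finset.sum_congr rfl fun i _ => ?_
    rw [hsum]
  have hz := congrArg (Nat.cast : ℕ → ℤ) h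
  push_cast at hz
  constructor <;> omega

end Levels

/-! ## Configurations -/

section Config

variable [hp : Fact p.Prime]

/-- Every runner carries at least `w` beads. -/
theorem weight_le_resCount {β₀ : Exp n} (hβ₀ : Adm n β₀) {w : ℕ}
    (hw : 2 * qSum p β₀ = pairCount (resCount p β₀) + 2 * (w : ℤ)) (r : ZMod p) :
    w ≤ resCount p β₀ r := by
  obtain ⟨τ, hτ⟩ := exists_keySorted (p := p) hβ₀.inj
  have h0 : ∀ i, 0 ≤ (β₀ ∘ ⇑τ) i := fun i => hβ₀.nonneg _
  obtain ⟨κ, hκ, hκ0, hκc, -, hκd⟩ := exists_core w _ hτ h0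
    (by rw [qSum_comp, resCount_comp]; exact hw)
  have hτd : ∑ i, (β₀ ∘ ⇑τ) i = (n : ℤ) + baseDeg n := (Equiv.sum_comp τ β₀).trans hβ₀.deg
  rw [hτd] at hκd
  obtain ⟨σ, hσm, hσ⟩ := exists_sort κ hκ.injective hκ0
  have hmono : ∀ a b : Fin n, a ≤ b → κ (σ a) + ((b : ℕ) : ℤ) - ((a : ℕ) : ℤ) ≤ κ (σ b) := by
    intro a b hab
    obtain ⟨d, hd⟩ : ∃ d, (b : ℕ) = (a : ℕ) + d := ⟨(b : ℕ) - a, by
      have : (a : ℕ) ≤ b := hab
      omega⟩
    clear hab
    induction d generalizing b with
    | zero => obtain rfl : a = b := Fin.ext (by omega); omega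
    | succ d ih =>
      have hlt : (a : ℕ) + d < n := by omega
      have h1 := ih ⟨(a : ℕ) + d, hlt⟩ rfl
      have h2 : κ (σ ⟨(a : ℕ) + d, hlt⟩) < κ (σ b) :=
        hσm (show (⟨(a : ℕ) + d, hlt⟩ : Fin n) < b from Fin.lt_def.2 (by simp; omega))
      simp only at h1
      omega
  have hfix : ∀ i : Fin n, (i : ℕ) < p * w → κ (σ i) = (i : ℕ) := by
    intro i hi
    by_contra hne
    have hi' : ((i : ℕ) : ℤ) < κ (σ i) := lt_of_le_of_ne (hσ i) (Ne.symm hne)
    have hs : ((Finset.univ.filter fun j => i ≤ j).card : ℤ) ≤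
        ∑ j, (κ (σ j) - ((j : ℕ) : ℤ)) := by
      rw [Finset.card_filter]
      push_cast
      refine Finset.sum_le_sum fun j _ => ?_
      split_ifs with hij
      · have := hmono i j hij; omega
      · have := hσ j; omega
    rw [Finset.sum_sub_distrib, Equiv.sum_comp σ κ, hκd, show (Finset.univ.filter fun j => i ≤ j) =
      Finset.Ici i by ext; simp, Fin.card_Ici] at hs
    have := i.2
    rw [baseDeg] at hs
    push_cast [Nat.cast_sub this.le] at hs
    have : ((i : ℕ) : ℤ) < (p : ℤ) * w := by exact_mod_cast hi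
    linarith
  have hpw : p * w ≤ n := by
    have := baseDeg_le κ hκ.injective hκ0
    zify
    linarith
  rw [← resCount_comp p β₀ τ, ← hκc, resCount, ← Finset.card_range w]
  have hlt : ∀ q ∈ Finset.range w, r.val + p * q < n := fun q hq => by
    have h1 := r.val_lt
    have h2 : p * (q + 1) ≤ p * w := Nat.mul_le_mul_left p (Finset.mem_range.1 hq)
    rw [mul_add, mul_one] at h2
    omega
  rcases Nat.eq_zero_or_pos w with rfl | hw0
  · simp
  have hn0 : 0 < n := (Nat.mul_pos hp.out.pos hw0).trans_le hpw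
  refine Finset.card_le_card_of_injOn
    (fun q => σ ⟨(r.val + p * q) % n, Nat.mod_lt _ hn0⟩) ?_ ?_
  · intro q hq
    have hq' := hlt q (Finset.mem_coe.1 hq)
    have h1 := r.val_lt
    have h2 : p * (q + 1) ≤ p * w :=
      Nat.mul_le_mul_left p (Finset.mem_range.1 (Finset.mem_coe.1 hq))
    rw [mul_add, mul_one] at h2
    simp only [Finset.coe_filter, Finset.mem_univ, true_and, Set.mem_ofPred_eq,
      Nat.mod_eq_of_lt hq']
    rw [hfix _ (by simp only; omega)]
    simp
  · intro q hq q' hq' h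
    have h2 := congrArg Fin.val (σ.injective h)
    simp only [Nat.mod_eq_of_lt (hlt q (Finset.mem_coe.1 hq)),
      Nat.mod_eq_of_lt (hlt q' (Finset.mem_coe.1 hq'))] at h2
    exact Nat.eq_of_mul_eq_mul_left hp.out.pos (by omega)

/-- An exponent vector with the same core and prescribed levels. -/
theorem exists_config {β₀ : Exp n} (hβ₀ : Adm n β₀) {w : ℕ}
    (hw : 2 * qSum p β₀ = pairCount (resCount p β₀) + 2 * (w : ℤ)) (Q : ZMod p → Finset ℕ)
    (hcard : ∀ r, (Q r).card = resCount p β₀ r)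
    (hsum : 2 * ∑ r, ∑ q ∈ Q r, (q : ℤ) = pairCount (resCount p β₀) + 2 * (w : ℤ)) :
    ∃ β : Exp n, Adm n β ∧ resCount p β = resCount p β₀ ∧ runner p β = Q ∧
      2 * qSum p β = pairCount (resCount p β) + 2 * (w : ℤ) ∧
      2 * ((phi (Multiset.replicate n 1) β).natAbs.factorization p : ℤ) =
        2 * (n.factorial.factorization p : ℤ) - 2 * (w : ℤ) - ∑ r : ZMod p, hookTwo p (Q r) := by
  obtain ⟨β, hinj, h0, hc, hQ⟩ := exists_of_runners (N := n) Q (by
    rw [Finset.sum_congr rfl fun r _ => hcard r]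
    show ∑ r : ZMod p, (Finset.univ.filter fun i => (β₀ i : ZMod p) = r).card = n
    rw [← Finset.card_eq_sum_card_fiberwise (fun x _ => Finset.mem_univ _), Finset.card_univ,
      Fintype.card_fin])
  have hc' : resCount p β = resCount p β₀ := hc.trans (funext hcard)
  have hq : qSum p β = qSum p β₀ := by
    have h1 := sum_runner (p := p) hinj h0
    rw [hQ] at h1
    omega
  have hdeg : ∑ i, β i = n + baseDeg n := by
    rw [← hβ₀.deg, sum_eq_of_qSum (p := p) β, sum_eq_of_qSum (p := p) β₀, hq, hc']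
  have hw' : 2 * qSum p β = pairCount (resCount p β) + 2 * (w : ℤ) := by rw [hq, hc', hw]
  refine ⟨β, ⟨hinj, h0, hdeg⟩, hc', hQ, hw', ?_⟩
  rw [two_deg_eq hinj h0 hdeg hw', hQ]

/-- Membership in the bead set. -/
theorem mem_beads_iff {β : Exp n} (hinj : Function.Injective β) (h0 : ∀ i, 0 ≤ β i)
    (r : ZMod p) (q : ℕ) :
    (p : ℤ) * q + (r.val : ℤ) ∈ Finset.univ.image β ↔ q ∈ runner p β r := by
  have hp0 : (p : ℤ) ≠ 0 := by exact_mod_cast hp.out.ne_zero
  have hdiv : ((p : ℤ) * q + (r.val : ℤ)) / (p : ℤ) = q := by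
    rw [Int.add_comm, Int.add_mul_ediv_left _ _ hp0,
      Int.ediv_eq_zero_of_lt (Int.natCast_nonneg _) (by exact_mod_cast r.val_lt), zero_add]
  simp only [runner, Finset.mem_image, Finset.mem_univ, true_and, Finset.mem_filter]
  constructor
  · rintro ⟨i, hi⟩
    refine ⟨i, by rw [hi]; simp, ?_⟩
    rw [hi, hdiv]
    simp
  · rintro ⟨i, hi, hq⟩
    refine ⟨i, eq_of_res_of_div (p := p) (by rw [hi]; simp) ?_⟩
    rw [hdiv, ← hq, Int.toNat_of_nonneg (Int.ediv_nonneg (h0 i) (Int.natCast_nonneg p))]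

/-- Below weight `p` every degree has the least possible exponent. -/
theorem two_deg_small {β : Exp N} (hβ : Adm n β) {w : ℕ}
    (hw : 2 * qSum p β = pairCount (resCount p β) + 2 * (w : ℤ)) (hwp : w < p) :
    2 * ((phi (Multiset.replicate n 1) β).natAbs.factorization p : ℤ) =
      2 * (n.factorial.factorization p : ℤ) - 2 * (w : ℤ) := by
  rw [two_deg_eq hβ.inj hβ.nonneg hβ.deg hw, Finset.sum_eq_zero fun r _ => ?_, sub_zero]
  choose m hm h1 h2 using fun r => hookTwo_bounds (p := p) (runner p β r)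
  have hmsum : (∑ r, (m r : ℤ)) = w := by
    have h := sum_runner (p := p) hβ.inj hβ.nonneg
    have h' : ∑ r, (2 * ∑ q ∈ runner p β r, (q : ℤ)) =
        pairCount (resCount p β) + 2 * ∑ r, (m r : ℤ) := by
      rw [Finset.sum_congr rfl fun r _ => hm r, Finset.sum_add_distrib, Finset.mul_sum, pairCount]
      simp only [card_runner hβ.inj hβ.nonneg]
    rw [← Finset.mul_sum, h] at h'
    linarith
  have hle : m r ≤ w := by
    have := Finset.single_le_sum (f := fun r => (m r : ℤ)) (fun r _ => Int.natCast_nonneg _)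
      (Finset.mem_univ r)
    omega
  have := fac_small (p := p) (hle.trans_lt hwp)
  have := h1 r
  have := h2 r
  omega

end Config

/-- Two free levels below a bead on a runner, and the other runner with a full bottom. -/
theorem not_selfMirror {β : Exp n} (hinj : Function.Injective β) (h0 : ∀ i, 0 ≤ β i) {l k b : ℕ}
    (hl : 2 ≤ l) (hl1 : l ∈ runner 2 β 0) (hl2 : l - 1 ∉ runner 2 β 0)
    (h : (l - 2 ∉ runner 2 β 0 ∧ runner 2 β 1 = rowSet k b) ∨ runner 2 β 1 = Finset.range k) :
    ¬ SelfMirror n (Finset.univ.image β) := by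
  haveI : Fact (Nat.Prime 2) := ⟨Nat.prime_two⟩
  intro hX
  have hmem0 : ∀ q : ℕ, 2 * (q : ℤ) ∈ Finset.univ.image β ↔ q ∈ runner 2 β 0 := fun q => by
    simpa using mem_beads_iff (p := 2) hinj h0 0 q
  have hmem1 : ∀ q : ℕ, 2 * (q : ℤ) + 1 ∈ Finset.univ.image β ↔ q ∈ runner 2 β 1 := fun q => by
    simpa [ZMod.val_one] using mem_beads_iff (p := 2) hinj h0 1 q
  have hL := (hmem0 l).2 hl1
  obtain ⟨-, hLn⟩ := hX.1 _ hL
  have hln : l < n := by omega
  have key : ∀ q : ℕ, q < n → (q ∈ runner 2 β 0 ↔ n - q - 1 ∉ runner 2 β 1) := fun q hq => by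
    rw [← hmem0, ← hmem1, hX.2.2 _ (by omega) (by omega)]
    rw [show refl n (2 * (q : ℤ)) = 2 * ((n - q - 1 : ℕ) : ℤ) + 1 by
      simp only [refl]; omega]
  have k0 : n - l - 1 ∉ runner 2 β 1 := (key l hln).1 hl1
  have k1 : n - (l - 1) - 1 ∈ runner 2 β 1 := not_not.1 ((key (l - 1) (by omega)).not.1 hl2)
  rcases h with ⟨hl3, h1⟩ | h1
  · have k2 : n - (l - 2) - 1 ∈ runner 2 β 1 :=
      not_not.1 ((key (l - 2) (by omega)).not.1 hl3)
    rw [h1, rowSet] at k0 k1 k2
    simp only [Finset.mem_insert, Finset.mem_range, not_or, not_lt] at k0 k1 k2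
    omega
  · rw [h1, Finset.mem_range] at k0 k1
    omega

end CfsgLib.SymBlocks
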