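import Cfsg.Agent.Lib.SymBlocks.CoreBlock
import Cfsg.Agent.Lib.SymBlocks.Runners
import Cfsg.Agent.Lib.Blocks.DefectClassUpper
import Mathlib.GroupTheory.Perm.Centralizer

/-!
# Blocks, defects and defect groups of the symmetric group from cores
-/

set_option autoImplicit false

noncomputable section

open scoped Classical ComplexConjugate

namespace CfsgLib.SymBlocks

open Equiv Cfsg CfsgLib.Blocks CfsgLib.Characters CfsgLib.ClassCount

variable {n p : ℕ} {M : Ideal AlgInt}

/-- A character attached to an exponent vector, with its sign. -/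
def Rep (β : Exp n) (ψ : IrrCharacter (Perm (Fin n))) : Prop :=
  chi β = (ψ : Perm (Fin n) → ℂ) ∨ chi β = -(ψ : Perm (Fin n) → ℂ)

theorem Rep.smul {β : Exp n} {ψ : IrrCharacter (Perm (Fin n))} (h : Rep β ψ) :
    ∃ ε : ℂ, ε ≠ 0 ∧ (chi β : Perm (Fin n) → ℂ) = ε • (ψ : Perm (Fin n) → ℂ) := by
  rcases h with h | h
  · exact ⟨1, one_ne_zero, by rw [h, one_smul]⟩
  · exact ⟨-1, by norm_num, by rw [h, neg_one_smul]⟩

theorem Rep.charDegree {β : Exp n} {ψ : IrrCharacter (Perm (Fin n))} (h : Rep β ψ) :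
    Cfsg.charDegree (ψ : Perm (Fin n) → ℂ) = (phi (Multiset.replicate n 1) β).natAbs := by
  have h1 : chi β (1 : Perm (Fin n)) = ((phi (Multiset.replicate n 1) β : ℤ) : ℂ) := by
    rw [chi, orb_one, Fintype.card_fin]
  rcases h with h | h <;> rw [h] at h1
  · rw [(degree_eq ψ).1] at h1
    have : (phi (Multiset.replicate n 1) β : ℤ) = (Cfsg.charDegree (ψ : Perm (Fin n) → ℂ) : ℤ) := by
      exact_mod_cast h1.symm
    omega
  · rw [Pi.neg_apply, (degree_eq ψ).1] at h1
    have : (phi (Multiset.replicate n 1) β : ℤ) =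
        -(Cfsg.charDegree (ψ : Perm (Fin n) → ℂ) : ℤ) := by exact_mod_cast h1.symm
    omega

/-- The core of a sorted exponent vector, and the points it lives on. -/
theorem exists_core_points [Fact p.Prime] {β : Exp n} (hβ : Adm n β) (hβs : KeySorted p β) {w : ℕ}
    (hw : 2 * qSum p β = pairCount (resCount p β) + 2 * (w : ℤ)) :
    ∃ (κ : Exp n) (r : ℕ) (_ : Pts w p r ≃ Fin n), KeySorted p κ ∧ (∀ i, 0 ≤ κ i) ∧
      2 * qSum p κ = pairCount (resCount p κ) ∧ resCount p β = resCount p κ ∧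
      ∑ i, κ i = (r : ℤ) + baseDeg n := by
  obtain ⟨κ, hκ, hκ0, hκc, hκm, hκd⟩ := exists_core w β hβs hβ.nonneg hw
  rw [hβ.deg] at hκd
  have hle : p * w ≤ n := by
    have := baseDeg_le κ hκ.injective hκ0
    zify
    linarith
  obtain ⟨r, hr⟩ := Nat.exists_eq_add_of_le hle
  have hcard : Fintype.card (Pts w p r) = n := by simp [ZMod.card, hr, mul_comm]
  refine ⟨κ, r, Fintype.equivFinOfCardEq hcard, hκ, hκ0, hκm, hκc.symm, ?_⟩
  rw [hκd, hr]
  push_cast
  ring

theorem adm_comp {β : Exp n} (hβ : Adm n β) (τ : Perm (Fin n)) : Adm n (β ∘ τ) :=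
  ⟨hβ.inj.comp τ.injective, fun i => hβ.nonneg _, by rw [← hβ.deg, ← Equiv.sum_comp τ β]; rfl⟩

theorem smul_comp {β : Exp n} {ψ : IrrCharacter (Perm (Fin n))} (h : Rep β ψ) (τ : Perm (Fin n)) :
    ∃ ε : ℂ, (chi (β ∘ τ) : Perm (Fin n) → ℂ) = ε • (ψ : Perm (Fin n) → ℂ) := by
  obtain ⟨ε, -, hε⟩ := h.smul
  exact ⟨((Perm.sign τ : ℤ) : ℂ) * ε, by rw [chi_comp, hε, smul_smul]⟩

/-- Equal residue counts give one block. -/
theorem sameBlock_of_core [Fact p.Prime] (hM : IsPModular p M) {β β' : Exp n} (hβ : Adm n β)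
    (hβ' : Adm n β') {ψ ψ' : IrrCharacter (Perm (Fin n))} (h : Rep β ψ) (h' : Rep β' ψ')
    (hc : resCount p β' = resCount p β) :
    SameBlock M (ψ : Perm (Fin n) → ℂ) (ψ' : Perm (Fin n) → ℂ) := by
  obtain ⟨τ, hτ⟩ := exists_keySorted (p := p) hβ.inj
  obtain ⟨τ', hτ'⟩ := exists_keySorted (p := p) hβ'.inj
  obtain ⟨w, hw⟩ := exists_weight (p := p) hβ.inj hβ.nonneg
  have hw1 : 2 * qSum p (β ∘ ⇑τ) = pairCount (resCount p (β ∘ ⇑τ)) + 2 * (w : ℤ) := by
    rw [qSum_comp, resCount_comp]; exact hw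
  have hq : qSum p β' = qSum p β := qSum_eq_of (by rw [hβ'.deg, hβ.deg]) hc
  have hw2 : 2 * qSum p (β' ∘ ⇑τ') = pairCount (resCount p (β' ∘ ⇑τ')) + 2 * (w : ℤ) := by
    rw [qSum_comp, resCount_comp, hq, hc]; exact hw
  obtain ⟨κ, r, e, hκ, hκ0, hκm, hκc, hκd⟩ := exists_core_points (adm_comp hβ τ) hτ hw1
  obtain ⟨ε, hε⟩ := smul_comp h τ
  obtain ⟨ε', hε'⟩ := smul_comp h' τ'
  refine sameBlock_of_regular hM fun g hg => ?_
  have h1 := centralChar_congr_core hM (adm_comp hβ τ) hτ hε hκ hκ0 hκm hκc hw1 hκd e hg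
  have h2 := centralChar_congr_core hM (adm_comp hβ' τ') hτ' hε' hκ hκ0 hκm
    (by rw [← hκc, resCount_comp, resCount_comp, hc]) hw2 hκd e hg
  simpa using MemLocalIdeal.sub hM h1 h2

/-- The permutation of the fixed points as an extension. -/
theorem fixHom_eq_extendDomain {v r : ℕ} (e : Pts v p r ≃ Fin n) :
    ∃ f : Fin r ≃ {z : Fin n // (e.symm z).isRight}, ∀ s, fixHom e s = s.extendDomain f := by
  let f : Fin r ≃ {z : Fin n // (e.symm z).isRight} :=
    { toFun := fun j => ⟨e (Sum.inr j), by simp⟩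
      invFun := fun z => (e.symm z.1).getRight z.2
      left_inv := fun j => by simp
      right_inv := fun z => Subtype.ext (by simp) }
  refine ⟨f, fun s => Equiv.ext fun z => ?_⟩
  obtain ⟨y, rfl⟩ := e.surjective z
  rw [fixHom_apply, Equiv.permCongr_apply, Equiv.symm_apply_apply]
  rcases y with y | j
  · rw [Perm.extendDomain_apply_not_subtype _ _ (by simp)]
    rfl
  · rw [show e (Sum.inr j) = (f j : Fin n) from rfl, Perm.extendDomain_apply_image]
    rfl

theorem cycleType_fixHom {v r : ℕ} (e : Pts v p r ≃ Fin n) (s : Perm (Fin r)) :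
    (fixHom e s).cycleType = s.cycleType := by
  obtain ⟨f, hf⟩ := fixHom_eq_extendDomain e
  rw [hf, Perm.cycleType_extendDomain]

/-- The moved points commute with the permutations of the fixed points. -/
theorem commute_embPts {v r : ℕ} (e : Pts v p r ≃ Fin n) (ρ : Perm (Fin v × ZMod p))
    (s : Perm (Fin r)) : Commute (e.permCongrHom (embPts v p r ρ)) (fixHom e s) := by
  rw [Commute, SemiconjBy, fixHom_apply, ← permCongrHom_coe, ← map_mul, ← map_mul]
  congr 1
  refine Equiv.ext fun z => ?_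
  rcases z with z | j <;> rfl

/-- A class of defect `(p w)!` with unit central character. -/
theorem exists_unit_class [Fact p.Prime] (hM : IsPModular p M) {β : Exp n} (hβ : Adm n β)
    {ψ : IrrCharacter (Perm (Fin n))} (h : Rep β ψ) {w : ℕ}
    (hw : 2 * qSum p β = pairCount (resCount p β) + 2 * (w : ℤ)) :
    ∃ (r : ℕ) (e : Pts w p r ≃ Fin n) (a : Perm (Fin n)),
      ¬ MemLocalIdeal M (centralChar (ψ : Perm (Fin n) → ℂ) a) ∧
      (Nat.card (Subgroup.centralizer ({a} : Set (Perm (Fin n))))).factorization p =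
        (p * w).factorial.factorization p ∧
      ∀ ρ, Commute (e.permCongrHom (embPts w p r ρ)) a := by
  obtain ⟨τ, hτ⟩ := exists_keySorted (p := p) hβ.inj
  have hw1 : 2 * qSum p (β ∘ ⇑τ) = pairCount (resCount p (β ∘ ⇑τ)) + 2 * (w : ℤ) := by
    rw [qSum_comp, resCount_comp]; exact hw
  obtain ⟨κ, r, e, hκ, hκ0, hκm, hκc, hκd⟩ := exists_core_points (adm_comp hβ τ) hτ hw1
  obtain ⟨ε, hε⟩ := smul_comp h τ
  obtain ⟨θ, δ, hδ, hδc, hθ⟩ : ∃ (θ : IrrCharacter (Perm (Fin r))) (δ : ℂ), δ ≠ 0 ∧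
      conj δ = δ ∧ (chi κ : Perm (Fin r) → ℂ) = δ • (θ : Perm (Fin r) → ℂ) := by
    obtain ⟨θ, h | h⟩ := chi_irr (n := r) ⟨hκ.injective, hκ0, hκd⟩
    · exact ⟨θ, 1, one_ne_zero, map_one _, by rw [h, one_smul]⟩
    · exact ⟨θ, -1, by norm_num, by simp, by rw [h, neg_one_smul]⟩
  have hval : ∀ s, (θ : Perm (Fin r) → ℂ) s = δ⁻¹ * (phi (orb s) κ : ℂ) := fun s => by
    have h1 := congrFun hθ s
    rw [chi, Pi.smul_apply, smul_eq_mul] at h1
    rw [h1, inv_mul_cancel_left₀ hδ]
  have hconj : ∀ s, conj ((θ : Perm (Fin r) → ℂ) s) = (θ : Perm (Fin r) → ℂ) s := fun s => by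
    rw [hval, map_mul, map_inv₀, hδc, map_intCast]
  have hsing : ∀ s : Perm (Fin r), p ∣ orderOf s → (θ : Perm (Fin r) → ℂ) s = 0 := fun s hs => by
    obtain ⟨u, hu, hpu⟩ := exists_orb_dvd (Fact.out : p.Prime) hs
    rw [hval, phi_eq_zero_of_core hκ.injective hκ0 hκm hu hpu (pos_of_mem_orb hu), Int.cast_zero,
      mul_zero]
  have hcof := CfsgLib.RankOrth.not_dvd_cofDegree_of_vanish (p := p) θ hsing
  -- a class with unit value and unit central character
  obtain ⟨s₀, hω, hv⟩ : ∃ s₀ : Perm (Fin r),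
      ¬ MemLocalIdeal M (centralChar (θ : Perm (Fin r) → ℂ) s₀) ∧
      ¬ MemLocalIdeal M ((θ : Perm (Fin r) → ℂ) s₀) := by
    by_contra! hno
    refine hcof ((natCast_mem_iff hM _).1 ((memLocalIdeal_coe_iff hM _).1 ?_))
    have e1 : ((((cofDegree θ : ℕ)) : AlgInt) : ℂ) =
        ∑ c : ConjClasses (Perm (Fin r)),
          centralChar (θ : Perm (Fin r) → ℂ) (crep c) * (θ : Perm (Fin r) → ℂ) (crep c) := by
      push_cast
      rw [← card_div_degree]
      have hnorm := classInner_irr_self θ.2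
      rw [classInner, inv_mul_eq_one₀ (by simp)] at hnorm
      rw [hnorm, ← Finset.sum_fiberwise Finset.univ
        (ConjClasses.mk : Perm (Fin r) → ConjClasses (Perm (Fin r))), Finset.sum_div]
      refine Finset.sum_congr rfl fun c _ => ?_
      have hc : (Finset.univ.filter fun g => ConjClasses.mk g = c) = cls (crep c) := by
        ext g
        rw [mem_cls, Finset.mem_filter]
        simp only [Finset.mem_univ, true_and]
        rw [isConj_comm, ← ConjClasses.mk_eq_mk_iff_isConj, mk_crep]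
      rw [hc, Finset.sum_congr rfl fun g hg =>
        show (θ : Perm (Fin r) → ℂ) g * conj ((θ : Perm (Fin r) → ℂ) g) =
          (θ : Perm (Fin r) → ℂ) (crep c) * (θ : Perm (Fin r) → ℂ) (crep c) by
          obtain ⟨t, ht⟩ := isConj_iff.1 (mem_cls.1 hg)
          rw [hconj, ← ht, irr_isClassFunction θ _ _]]
      rw [Finset.sum_const, card_cls, nsmul_eq_mul, centralChar]
      ring
    rw [e1]
    refine MemLocalIdeal.sum hM _ fun c _ => ?_
    by_cases hm : MemLocalIdeal M (centralChar (θ : Perm (Fin r) → ℂ) (crep c))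
    · exact MemLocalIdeal.mul_right hM hm (memLocalRing_of_isIntegral hM (irr_isIntegral θ _))
    · exact MemLocalIdeal.mul_left hM (centralChar_mem_lRing hM θ _) (hno _ hm)
  have hreg : ¬ p ∣ orderOf s₀ := fun hd => hv (by rw [hsing _ hd]; exact memLocalIdeal_zero hM)
  have hC0 : ¬ p ∣ Nat.card (Subgroup.centralizer ({s₀} : Set (Perm (Fin r)))) := by
    intro hd
    have h1 := CfsgLib.BlockCover.factorization_index_le_of_centralChar hM hω
    have h2 := CfsgLib.BlockCover.factorization_degree_le_of_value hM hv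
    have h3 := CfsgLib.BlockCover.factorization_card_eq (p := p)
      (Subgroup.centralizer ({s₀} : Set (Perm (Fin r))))
    have h4 := (Fact.out : p.Prime).factorization_pos_of_dvd Nat.card_pos.ne' hd
    have h5 : (cofDegree θ).factorization p = 0 := Nat.factorization_eq_zero_of_not_dvd hcof
    have h6 := congrArg (fun m : ℕ => m.factorization p) (degree_mul_cofDegree θ)
    simp only [Nat.factorization_mul (degree_eq θ).2.2.ne'
      (show cofDegree θ ≠ 0 from fun e0 => hcof (by rw [e0]; exact dvd_zero p)), Finsupp.add_apply] at h6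
    omega
  refine ⟨r, e, fixHom e s₀, ?_, ?_, fun ρ => commute_embPts e ρ s₀⟩
  · intro hmem
    have hg : ¬ p ∣ orderOf (fixHom e s₀) := by
      rwa [orderOf_injective _ (fixHom_injective e)]
    have h1 := centralChar_congr_core hM (adm_comp hβ τ) hτ hε hκ hκ0 hκm hκc hw1 hκd e hg
    refine hω ?_
    have h2 : coreSum e κ (fixHom e s₀) = centralChar (θ : Perm (Fin r) → ℂ) s₀ := by
      have hiff : ∀ s, IsConj (fixHom e s₀) (fixHom e s) ↔ s ∈ cls s₀ := fun s => by
        rw [mem_cls, Perm.isConj_iff_cycleType_eq, Perm.isConj_iff_cycleType_eq, cycleType_fixHom,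
          cycleType_fixHom]
      rw [coreSum, ← Finset.sum_filter, Finset.filter_congr fun s _ => hiff s,
        Finset.filter_univ_mem, Finset.sum_congr rfl fun s hs =>
          show (chi κ s : ℂ) / chi κ (1 : Perm (Fin r)) =
            (θ : Perm (Fin r) → ℂ) s₀ / (θ : Perm (Fin r) → ℂ) 1 by
            obtain ⟨t, ht⟩ := isConj_iff.1 (mem_cls.1 hs)
            rw [hθ, Pi.smul_apply, Pi.smul_apply, smul_eq_mul, smul_eq_mul,
              mul_div_mul_left _ _ hδ, ← ht, irr_isClassFunction θ _ _]]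
      rw [Finset.sum_const, card_cls, nsmul_eq_mul, centralChar, mul_div_assoc]
    rw [← h2]
    simpa using MemLocalIdeal.sub hM hmem h1
  · set m := s₀.cycleType with hm
    have hn : n = p * w + r := by
      have := Fintype.card_congr e
      simp [ZMod.card] at this
      rw [← this, mul_comm]
    have hsum : m.sum ≤ r := (Perm.sum_cycleType_le s₀).trans (by simp)
    set K := m.prod * ∏ i ∈ m.toFinset, (m.count i).factorial with hK
    have hcn : Nat.card (Subgroup.centralizer ({fixHom e s₀} : Set (Perm (Fin n)))) =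
        (p * w + (r - m.sum)).factorial * K := by
      rw [Perm.nat_card_centralizer, cycleType_fixHom, ← hm, Fintype.card_fin, hK, ← mul_assoc,
        show n - m.sum = p * w + (r - m.sum) by omega]
    rw [Perm.nat_card_centralizer, ← hm, Fintype.card_fin, mul_assoc, ← hK] at hC0
    have hf : r - m.sum < p := by
      by_contra hge
      exact hC0 (dvd_mul_of_dvd_left (((Fact.out : p.Prime).dvd_factorial).2 (not_lt.1 hge)) _)
    have hK0 : ¬ p ∣ K := fun hd => hC0 (dvd_mul_of_dvd_right hd _)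
    rw [hcn, Nat.factorization_mul (Nat.factorial_ne_zero _) (show K ≠ 0 from fun e0 => hK0 (by rw [e0]; exact dvd_zero p)),
      Finsupp.add_apply, Nat.factorization_eq_zero_of_not_dvd hK0, add_zero,
      factorization_factorial_mul_add hf, fac_mul]

/-- A character of height zero with a given core. -/
theorem exists_height_zero_config [Fact p.Prime] {β₀ : Exp n} (hβ₀ : Adm n β₀) {w : ℕ}
    (hw : 2 * qSum p β₀ = pairCount (resCount p β₀) + 2 * (w : ℤ)) :
    ∃ β : Exp n, Adm n β ∧ resCount p β = resCount p β₀ ∧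
      (phi (Multiset.replicate n 1) β).natAbs.factorization p +
        (p * w).factorial.factorization p = n.factorial.factorization p := by
  rw [fac_mul]
  rcases Nat.eq_zero_or_pos w with rfl | hw0
  · refine ⟨β₀, hβ₀, rfl, ?_⟩
    have h := two_deg_small (p := p) hβ₀ hw (Fact.out : p.Prime).pos
    rw [Nat.factorial_zero, Nat.factorization_one]
    simp only [Finsupp.coe_zero, Pi.zero_apply]
    omega
  have hc : ∀ r, 1 ≤ resCount p β₀ r := fun r => le_trans hw0 (weight_le_resCount hβ₀ hw r)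
  let a : ZMod p → ℕ := fun r => if r = 0 then w else 0
  obtain ⟨β, hβ, hβc, -, -, hdeg⟩ := exists_config hβ₀ hw
    (fun r => rowSet (resCount p β₀ r) (a r)) (fun r => card_rowSet (hc r) _) (by
      rw [Finset.mul_sum, Finset.sum_congr rfl fun r _ => sum_rowSet (hc r) (a r),
        Finset.sum_add_distrib, pairCount, ← Finset.mul_sum]
      simp [a])
  refine ⟨β, hβ, hβc, ?_⟩
  rw [Finset.sum_congr rfl fun r _ => hookTwo_rowSet (p := p) (resCount p β₀ r) (a r),
    Finset.sum_eq_single (0 : ZMod p) (fun r _ hr => by simp [a, hr]) (by simp)] at hdeg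
  simp only [a, if_pos] at hdeg
  omega

/-- A character of height one with a given core, at two not fixed by the sign. -/
theorem exists_height_one_config [Fact p.Prime] {β₀ : Exp n} (hβ₀ : Adm n β₀) {w : ℕ}
    (hw : 2 * qSum p β₀ = pairCount (resCount p β₀) + 2 * (w : ℤ))
    (hlarge : p ≤ w ∧ 3 ≤ w) :
    ∃ β : Exp n, Adm n β ∧ resCount p β = resCount p β₀ ∧
      (phi (Multiset.replicate n 1) β).natAbs.factorization p +
        (p * w).factorial.factorization p = n.factorial.factorization p + 1 ∧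
      (p = 2 → ¬ SelfMirror n (Finset.univ.image β)) := by
  rw [fac_mul]
  have hc : ∀ r, 3 ≤ resCount p β₀ r := fun r => le_trans hlarge.2 (weight_le_resCount hβ₀ hw r)
  by_cases h2 : p = 2
  swap
  · obtain ⟨a, ha, hav⟩ := exists_split_odd (p := p)
      (by have := (Fact.out : p.Prime).two_le; omega) hlarge.1
    obtain ⟨β, hβ, hβc, -, -, hdeg⟩ := exists_config hβ₀ hw
      (fun r => rowSet (resCount p β₀ r) (a r)) (fun r => card_rowSet (by have := hc r; omega) _) (by
        rw [Finset.mul_sum, Finset.sum_congr rfl fun r _ => sum_rowSet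
          (show 1 ≤ resCount p β₀ r by have := hc r; omega) (a r),
          Finset.sum_add_distrib, pairCount, ← Finset.mul_sum, ← ha]
        push_cast
        rfl)
    refine ⟨β, hβ, hβc, ?_, fun e => absurd e h2⟩
    rw [Finset.sum_congr rfl fun r _ => hookTwo_rowSet (p := p) (resCount p β₀ r) (a r),
      ← Finset.mul_sum, ← Nat.cast_sum] at hdeg
    omega
  subst h2
  have hsum2 : ∀ (α : Type) [AddCommMonoid α] (f : ZMod 2 → α), ∑ r, f r = f 0 + f 1 := fun α _ f =>
    Fin.sum_univ_two f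
  have hc0 := hc 0
  have hc1 := hc 1
  by_cases h4 : w % 4 = 3
  · obtain ⟨β, hβ, hβc, hQ, -, hdeg⟩ := exists_config hβ₀ hw
      (fun r => if r = 0 then pairSet (resCount 2 β₀ 0) (w - 1) else Finset.range (resCount 2 β₀ r))
      (fun r => by
        by_cases hr : r = 0
        · rw [if_pos hr, card_pairSet (by omega) (by omega), hr]
        · rw [if_neg hr, Finset.card_range]) (by
        rw [hsum2 ℤ, if_pos rfl, if_neg one_ne_zero, mul_add,
          sum_pairSet (by omega) (by omega), two_sum_range, pairCount, hsum2 ℤ]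
        push_cast [Nat.cast_sub (show 1 ≤ w by omega)]
        ring)
    rw [hsum2 ℤ, if_pos rfl, if_neg one_ne_zero, hookTwo_range,
      hookTwo_pairSet (by omega) (by omega), show w - 1 + 1 = w by omega] at hdeg
    have hv : (w - 1).factorization 2 = 1 := by
      obtain ⟨u, hu⟩ : ∃ u, w - 1 = 2 * (2 * u + 1) := ⟨w / 4, by omega⟩
      rw [hu, Nat.factorization_mul two_ne_zero (by omega), Finsupp.add_apply,
        Nat.prime_two.factorization_self,
        Nat.factorization_eq_zero_of_not_dvd (by omega : ¬ 2 ∣ 2 * u + 1)]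
    refine ⟨β, hβ, hβc, by omega, fun _ => not_selfMirror hβ.inj hβ.nonneg (k := resCount 2 β₀ 1)
      (b := 0) (l := resCount 2 β₀ 0 - 1 + (w - 1)) (by omega) ?_ ?_ (Or.inr ?_)⟩ <;>
      rw [hQ] <;> simp [pairSet, rowSet] <;> omega
  · obtain ⟨a, b, hab, ha, hv⟩ := exists_split_two hlarge.2 h4
    obtain ⟨β, hβ, hβc, hQ, -, hdeg⟩ := exists_config hβ₀ hw
      (fun r => rowSet (resCount 2 β₀ r) (if r = 0 then a else b))
      (fun r => card_rowSet (by have := hc r; omega) _) (by
        rw [hsum2 ℤ, if_pos rfl, if_neg one_ne_zero, mul_add, sum_rowSet (by omega),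
          sum_rowSet (by omega), pairCount, hsum2 ℤ, ← hab]
        push_cast
        ring)
    rw [hsum2 ℤ, hookTwo_rowSet, hookTwo_rowSet, if_pos rfl, if_neg one_ne_zero] at hdeg
    refine ⟨β, hβ, hβc, by omega, fun _ => not_selfMirror hβ.inj hβ.nonneg (k := resCount 2 β₀ 1)
      (b := b) (l := resCount 2 β₀ 0 - 1 + a) (by omega) ?_ ?_ (Or.inl ⟨?_, ?_⟩)⟩ <;>
      rw [hQ] <;> simp [rowSet] <;> omega

/-- The defect of a block of weight `w`. -/
theorem blockDefect_eq_weight [Fact p.Prime] (hM : IsPModular p M)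
    {B : Set (IrrCharacter (Perm (Fin n)))} (hB : IsPBlock M B) {β : Exp n} (hβ : Adm n β)
    {ψ : IrrCharacter (Perm (Fin n))} (hψ : ψ ∈ B) (h : Rep β ψ) {w : ℕ}
    (hw : 2 * qSum p β = pairCount (resCount p β) + 2 * (w : ℤ)) :
    blockDefect p B = (p * w).factorial.factorization p := by
  obtain ⟨r, e, a, hu, hcent, -⟩ := exists_unit_class hM hβ h hw
  refine le_antisymm ?_ ?_
  · rw [← hcent]
    exact CfsgLib.BlockCover.blockDefect_le hM hB fun χ hχ =>
      CfsgLib.BlockCover.centralChar_unit_iff hM hB hψ hχ a hu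
  · obtain ⟨β', hβ', hc', hd'⟩ := exists_height_zero_config hβ hw
    obtain ⟨ψ', hψ'⟩ := chi_irr hβ'
    have hmem : ψ' ∈ B := (IsPBlock.mem_iff hM hB hψ ψ').2 (sameBlock_of_core hM hβ hβ' h hψ' hc')
    have h1 : sInf ((fun χ : IrrCharacter (Perm (Fin n)) =>
        (Cfsg.charDegree (χ : Perm (Fin n) → ℂ)).factorization p) '' B) ≤
        (Cfsg.charDegree (ψ' : Perm (Fin n) → ℂ)).factorization p := Nat.sInf_le ⟨ψ', hmem, rfl⟩
    rw [Rep.charDegree hψ'] at h1
    rw [blockDefect, Nat.card_perm, Nat.card_eq_fintype_card, Fintype.card_fin]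
    omega

/-- The defect groups are images of full `p`-subgroups of the symmetric group of the moved
points. -/
theorem exists_defect_image [Fact p.Prime] (hM : IsPModular p M)
    {B : Set (IrrCharacter (Perm (Fin n)))} (hB : IsPBlock M B) {β : Exp n} (hβ : Adm n β)
    {ψ : IrrCharacter (Perm (Fin n))} (hψ : ψ ∈ B) (h : Rep β ψ) {w : ℕ}
    (hw : 2 * qSum p β = pairCount (resCount p β) + 2 * (w : ℤ))
    {D : Subgroup (Perm (Fin n))} (hD : IsDefectGroup p M B D)
    {P : Subgroup (Perm (Fin w × ZMod p))}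
    (hP : Nat.card P = p ^ (p * w).factorial.factorization p) :
    ∃ φ : Perm (Fin w × ZMod p) →* Perm (Fin n), Function.Injective φ ∧
      (∀ ρ, Perm.sign (φ ρ) = Perm.sign ρ) ∧ P.map φ = D := by
  obtain ⟨r, e, a, hu, hcent, hcomm⟩ := exists_unit_class hM hβ h hw
  set C := Subgroup.centralizer ({a} : Set (Perm (Fin n))) with hC
  let ι : Perm (Fin w × ZMod p) →* Perm (Fin n) :=
    (e.permCongrHom : Perm (Pts w p r) ≃* Perm (Fin n)).toMonoidHom.comp (embPts w p r)
  have hι : Function.Injective ι := fun x y hxy => by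
    have h1 : embPts w p r x = embPts w p r y := e.permCongrHom.injective hxy
    exact Equiv.ext fun z => Sum.inl_injective (congrArg
      (fun f : Perm (Pts w p r) => f (Sum.inl z)) h1)
  have hsign : ∀ ρ, Perm.sign (ι ρ) = Perm.sign ρ := fun ρ => by
    show Perm.sign (e.permCongr (Perm.sumCongr ρ 1)) = _
    rw [Perm.sign_permCongr, Perm.sign_sumCongr, map_one, mul_one]
  have hle : P.map ι ≤ C := by
    rintro _ ⟨ρ, -, rfl⟩
    exact Subgroup.mem_centralizer_singleton_iff.2 (hcomm ρ).eq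
  have hPp : IsPGroup p ((P.map ι).subgroupOf C) :=
    (IsPGroup.of_card (by rw [Subgroup.card_map_of_injective hι, hP])).of_equiv
      (Subgroup.subgroupOfEquivOfLe hle).symm
  obtain ⟨S, hS⟩ := hPp.exists_le_sylow
  set T := (S : Subgroup C).map C.subtype with hT
  have hTP : P.map ι = T := by
    refine Subgroup.eq_of_le_of_card_ge ?_ ?_
    · intro x hx
      exact ⟨⟨x, hle hx⟩, hS (Subgroup.mem_subgroupOf.2 hx), rfl⟩
    · rw [hT, CfsgLib.BlockCover.natCard_sylow_centralizer, hcent,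
        Subgroup.card_map_of_injective hι, hP]
  obtain ⟨t, ht⟩ := DefectUpper.le_conj_of_centralChar hM hB hψ hu S hT hD
  refine ⟨(MulAut.conj t).toMonoidHom.comp ι, (MulAut.conj t).injective.comp hι, fun ρ => ?_, ?_⟩
  · show Perm.sign (t * ι ρ * t⁻¹) = _
    rw [map_mul, map_mul, hsign, map_inv, mul_comm (Perm.sign t), mul_assoc, mul_inv_cancel, mul_one]
  · rw [← Subgroup.map_map, hTP]
    refine (Subgroup.eq_of_le_of_card_ge ht ?_).symm
    rw [Subgroup.card_map_of_injective (MulAut.conj t).injective, ← hTP,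
      Subgroup.card_map_of_injective hι, hP, CfsgLib.BlockCover.natCard_defect hM hB hD,
      blockDefect_eq_weight hM hB hβ hψ h hw]

end CfsgLib.SymBlocks
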