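import Cfsg.Agent.Lib.SymBlocks.Space
import Cfsg.Prelude.Def_BlockRank

/-!
# The rank of a block is bounded by its weight

The combinations of a block of a symmetric group that vanish at the singular elements give
functions on exponent vectors annihilated by the moves.
-/

set_option autoImplicit false
set_option linter.unusedSectionVars false
set_option linter.unusedVariables false
set_option linter.unusedSimpArgs false
set_option linter.style.haveILetI false

noncomputable section

open scoped Classical ComplexConjugate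

namespace CfsgLib.SymBlocks

open Equiv Cfsg CfsgLib.Blocks CfsgLib.Characters

variable {n p : ℕ} {M : Ideal AlgInt}

/-! ## The pairing with the characters of a block -/

theorem isClassFunction_blockPart (B : Set (IrrCharacter (Perm (Fin n))))
    (u : Perm (Fin n) → ℂ) : IsClassFunction (Perm (Fin n)) (blockPart B u) := by
  intro g h
  rw [blockPart_eq_sum, blockPart_eq_sum]
  exact Finset.sum_congr rfl fun χ _ => by rw [irr_isClassFunction χ g h]

theorem blockPart_eq_smul_sum (B : Set (IrrCharacter (Perm (Fin n))))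
    (u : Perm (Fin n) → ℂ) : blockPart B u =
      ∑ χ ∈ Finset.univ.filter (· ∈ B),
        classInner u (χ : Perm (Fin n) → ℂ) • (χ : Perm (Fin n) → ℂ) := by
  funext g
  rw [blockPart_eq_sum, Finset.sum_apply]
  rfl

/-- The coefficients of a function along the characters of a block. -/
def coeffMap (B : Set (IrrCharacter (Perm (Fin n)))) :
    (Perm (Fin n) → ℂ) →ₗ[ℂ] (Exp n → ℂ) where
  toFun u β := classInner (blockPart B u) (chi β)
  map_add' u u' := by
    funext β
    simp only [Pi.add_apply, blockPart_eq_smul_sum, classInner_sum_left, classInner_smul_left,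
      classInner_add_left, ← Finset.sum_add_distrib, add_mul]
  map_smul' z u := by
    funext β
    simp only [Pi.smul_apply, smul_eq_mul, blockPart_eq_smul_sum, classInner_sum_left,
      classInner_smul_left, RingHom.id_apply, Finset.mul_sum, mul_assoc]

theorem coeffMap_apply (B : Set (IrrCharacter (Perm (Fin n)))) (u : Perm (Fin n) → ℂ)
    (β : Exp n) : coeffMap B u β = classInner (blockPart B u) (chi β) := rfl

theorem coeffMap_eq_sum (B : Set (IrrCharacter (Perm (Fin n)))) (u : Perm (Fin n) → ℂ)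
    (β : Exp n) : coeffMap B u β = ∑ χ ∈ Finset.univ.filter (· ∈ B),
      classInner u (χ : Perm (Fin n) → ℂ) * classInner (χ : Perm (Fin n) → ℂ) (chi β) := by
  simp only [coeffMap_apply, blockPart_eq_smul_sum, classInner_sum_left, classInner_smul_left]

/-! ## The functions vanishing at the singular elements -/

theorem moves_sum_eq_zero (hp : 0 < p) {θ : Perm (Fin n) → ℂ}
    (hθ : IsClassFunction (Perm (Fin n)) θ)
    (h0 : ∀ σ : Perm (Fin n), p ∣ orderOf σ → θ σ = 0) (γ : Exp n) (hγ : ∀ i, 0 ≤ γ i) (m : ℕ)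
    (hm : 0 < m) : ∑ j, classInner θ (chi (γ + Pi.single j ((p : ℤ) * m))) = 0 := by
  by_cases hdeg : (∑ i, γ i) + (p : ℤ) * m = n + baseDeg n
  swap
  · refine Finset.sum_eq_zero fun j _ => ?_
    rw [chi_eq_zero, classInner_zero_right]
    intro h
    refine hdeg ?_
    rw [← h.deg]
    simp [Finset.sum_add_distrib]
  by_cases hinj : Function.Injective γ
  swap
  · set F : Exp n → ℂ := fun ζ =>
      ∑ j, classInner θ (chi (ζ + Pi.single j ((p : ℤ) * m))) with hF
    have hanti : AntiSym F := by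
      intro τ ζ
      simp only [hF, Finset.mul_sum]
      refine Fintype.sum_equiv τ _ _ fun j => ?_
      rw [show (ζ ∘ ⇑τ + Pi.single j ((p : ℤ) * m) : Exp n) =
          (ζ + Pi.single (τ j) ((p : ℤ) * m)) ∘ ⇑τ by
        funext x
        simp only [Pi.add_apply, Function.comp_apply, Pi.single_apply, τ.injective.eq_iff],
        chi_comp, classInner_smul_right, map_intCast]
    exact hanti.eq_zero hinj
  have hMn : p * m ≤ n := by
    have := baseDeg_le γ hinj hγ
    zify
    linarith
  choose rep hrep using fun ψ : IrrCharacter (Perm (Fin n)) => exists_rep ψ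
  have hexp : ∀ ψ : IrrCharacter (Perm (Fin n)), ∃ ε : ℂ,
      (ψ : Perm (Fin n) → ℂ) = ε • (chi (rep ψ) : Perm (Fin n) → ℂ) ∧ conj ε = ε := fun ψ => by
    rcases (hrep ψ).2 with h | h
    · exact ⟨1, by rw [h, one_smul], map_one _⟩
    · exact ⟨-1, by rw [h, neg_one_smul, neg_neg], by simp⟩
  choose ε hε hεc using hexp
  set w : IrrCharacter (Perm (Fin n)) → ℂ :=
    fun ψ => classInner θ (ψ : Perm (Fin n) → ℂ) * ε ψ with hw
  have hθsum : θ = ∑ ψ, w ψ • (chi (rep ψ) : Perm (Fin n) → ℂ) := by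
    conv_lhs => rw [classFunction_eq_sum hθ]
    exact Finset.sum_congr rfl fun ψ _ => by rw [hw, ← smul_smul, ← hε]
  have hvan : ∀ σ : Perm (Fin (n - p * m)),
      ∑ ψ, w ψ * (phi ((p * m) ::ₘ orb σ) (rep ψ) : ℂ) = 0 := by
    intro σ
    obtain ⟨τ, hτ⟩ := exists_orb n ((p * m) ::ₘ orb σ)
      (by rw [Multiset.sum_cons, sum_orb, Fintype.card_fin]; omega) fun w hw => by
        rcases Multiset.mem_cons.1 hw with rfl | hw
        · positivity
        · exact pos_of_mem_orb hw
    have hd : p ∣ orderOf τ :=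
      (Dvd.intro _ rfl).trans (dvd_orderOf_of_mem_orb (hτ ▸ Multiset.mem_cons_self _ _))
    have := h0 τ hd
    rw [hθsum, Finset.sum_apply] at this
    simpa [chi, hτ] using this
  have hkey : ∀ ψ : IrrCharacter (Perm (Fin n)),
      perSum (n - p * m) (fun L => phi ((p * m) ::ₘ L) (rep ψ) * phi L γ) =
        ((n - p * m).factorial : ℤ) * ∑ j, sgnDelta (rep ψ) (γ + Pi.single j ((p : ℤ) * m)) := by
    intro ψ
    have hs : ∀ i, ∑ x, (rep ψ - Pi.single i (((p * m : ℕ)) : ℤ) : Exp n) x =
        ((n - p * m : ℕ) : ℤ) + baseDeg n := fun i => by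
      simp only [Pi.sub_apply, Finset.sum_sub_distrib, Finset.sum_pi_single', Finset.mem_univ,
        if_true, (hrep ψ).1.deg]
      push_cast [Nat.cast_sub hMn]
      ring
    have hg : ∑ x, γ x = ((n - p * m : ℕ) : ℤ) + baseDeg n := by
      push_cast [Nat.cast_sub hMn]
      linarith
    have h1 : ∀ i, perSum (n - p * m)
        (fun L => phi L (rep ψ - Pi.single i (((p * m : ℕ)) : ℤ)) * phi L γ) =
        ((n - p * m).factorial : ℤ) *
          sgnDelta (rep ψ - Pi.single i (((p * m : ℕ)) : ℤ)) γ := fun i => by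
      rw [perSum_phi_mul _ _ _ (hs i) hg]
      congr 1
      split_ifs with h
      · rfl
      · refine (sgnDelta_ne fun π hπ => h fun x => ?_).symm
        rw [hπ]
        exact hγ (π x)
    have h2 : ∑ i, sgnDelta (rep ψ - Pi.single i (((p * m : ℕ)) : ℤ)) γ =
        ∑ j, sgnDelta (rep ψ) (γ + Pi.single j ((p : ℤ) * m)) := by
      simp only [sgnDelta]
      rw [Finset.sum_comm]
      conv_rhs => rw [Finset.sum_comm]
      refine Finset.sum_congr rfl fun π _ => ?_
      refine Fintype.sum_equiv π _ _ fun i => ?_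
      congr 1
      refine if_congr ?_ rfl rfl
      rw [sub_eq_iff_eq_add]
      have e : γ ∘ ⇑π + Pi.single i (((p * m : ℕ)) : ℤ) =
          (γ + Pi.single (π i) ((p : ℤ) * m)) ∘ ⇑π := by
        funext x
        simp only [Pi.add_apply, Function.comp_apply, Pi.single_apply, π.injective.eq_iff,
          Nat.cast_mul]
      rw [e]
    simp only [perSum, phi_cons, Finset.sum_mul] at h1 ⊢
    rw [Finset.sum_comm, Finset.sum_congr rfl fun i _ => h1 i, ← Finset.mul_sum, h2]
  have hsgn : ∀ (ψ : IrrCharacter (Perm (Fin n))) (j : Fin n),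
      (sgnDelta (rep ψ) (γ + Pi.single j ((p : ℤ) * m)) : ℂ) =
        classInner (chi (rep ψ) : Perm (Fin n) → ℂ) (chi (γ + Pi.single j ((p : ℤ) * m))) := by
    intro ψ j
    by_cases hζ : Adm n (γ + Pi.single j ((p : ℤ) * m))
    · rw [classInner_chi (hrep ψ).1 hζ]
    · rw [chi_eq_zero hζ, classInner_zero_right, Int.cast_eq_zero]
      refine sgnDelta_ne fun π hπ => hζ ⟨?_, fun i => ?_, ?_⟩
      · intro x y hxy
        have := (hrep ψ).1.inj (show rep ψ (π.symm x) = rep ψ (π.symm y) by
          simpa [hπ, Function.comp] using hxy)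
        exact π.symm.injective this
      · have := (hrep ψ).1.nonneg (π.symm i)
        simpa [hπ] using this
      · rw [← (hrep ψ).1.deg, hπ]
        exact (Equiv.sum_comp π _).symm
  have hfin : ((n - p * m).factorial : ℂ) *
      ∑ j, classInner θ (chi (γ + Pi.single j ((p : ℤ) * m))) = 0 := by
    have e : ∀ j, classInner θ (chi (γ + Pi.single j ((p : ℤ) * m))) =
        ∑ ψ, w ψ * (sgnDelta (rep ψ) (γ + Pi.single j ((p : ℤ) * m)) : ℂ) := fun j => by
      conv_lhs => rw [hθsum]
      simp only [classInner_sum_left, classInner_smul_left, hsgn]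
    simp only [e]
    rw [Finset.sum_comm, Finset.mul_sum]
    calc _ = ∑ ψ, w ψ * ((perSum (n - p * m)
          (fun L => phi ((p * m) ::ₘ L) (rep ψ) * phi L γ) : ℤ) : ℂ) :=
          Finset.sum_congr rfl fun ψ _ => by
            rw [hkey ψ, ← Finset.mul_sum]
            push_cast
            ring
      _ = ∑ σ : Perm (Fin (n - p * m)), (phi (orb σ) γ : ℂ) *
            ∑ ψ, w ψ * (phi ((p * m) ::ₘ orb σ) (rep ψ) : ℂ) := by
          simp only [perSum, Int.cast_sum, Int.cast_mul, Finset.mul_sum]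
          rw [Finset.sum_comm]
          exact Finset.sum_congr rfl fun σ _ => Finset.sum_congr rfl fun ψ _ => by ring
      _ = 0 := Finset.sum_eq_zero fun σ _ => by rw [hvan σ, mul_zero]
  exact (mul_eq_zero.1 hfin).resolve_left (by exact_mod_cast Nat.factorial_ne_zero _)

theorem blockPart_singular (hM : IsPModular p M) {B : Set (IrrCharacter (Perm (Fin n)))}
    (hB : IsPBlock M B) {u : Perm (Fin n) → ℂ}
    (hu : ∀ σ : Perm (Fin n), p ∣ orderOf σ → u σ = 0) {σ : Perm (Fin n)} (hσ : p ∣ orderOf σ) :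
    blockPart B u σ = 0 := by
  obtain ⟨x, hx⟩ := exists_isPPart hM.1 σ
  refine blockPart_eq_zero_of_section hM hB (x := x) (fun v z hvz hxz => hu v ?_) hx (IsConj.refl x)
  obtain ⟨y, hy, hcy, ⟨k, hk⟩, hyp⟩ := hvz
  obtain ⟨y', hy', hcy', ⟨k', hk'⟩, hyp'⟩ := hx
  by_contra hv
  have hz : z = 1 := by
    rcases k with _ | k
    · exact orderOf_eq_one_iff.1 (by rw [hk, pow_zero])
    · refine absurd ?_ hv
      rw [← hy]
      have hcop : (orderOf z).Coprime (orderOf y) := by
        rw [hk]
        exact Nat.Coprime.pow_left _ (hM.1.coprime_iff_not_dvd.2 hyp)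
      rw [hcy.orderOf_mul_eq_mul_orderOf_of_coprime hcop, hk]
      exact Dvd.dvd.mul_right (dvd_pow_self p k.succ_ne_zero) _
  have hx1 : x = 1 := by
    obtain ⟨t, ht⟩ := isConj_iff.1 hxz
    rw [hz, conj_eq_one_iff] at ht
    exact ht
  rw [hx1, one_mul] at hy'
  exact hyp' (hy' ▸ hσ)

theorem qSum_eq_of [NeZero p] {β γ : Exp n} (hs : ∑ i, β i = ∑ i, γ i)
    (hc : resCount p β = resCount p γ) : qSum p β = qSum p γ := by
  have key : ∀ ζ : Exp n, ∑ i, ζ i =
      (p : ℤ) * qSum p ζ + ∑ r : ZMod p, (resCount p ζ r : ℤ) * (r.val : ℤ) := by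
    intro ζ
    have e : ∑ i, ((ζ i : ZMod p).val : ℤ) =
        ∑ r : ZMod p, (resCount p ζ r : ℤ) * (r.val : ℤ) := by
      rw [← Finset.sum_fiberwise Finset.univ (fun i : Fin n => (ζ i : ZMod p))]
      refine Finset.sum_congr rfl fun r _ => ?_
      rw [Finset.sum_congr rfl fun i hi => show ((ζ i : ZMod p).val : ℤ) = (r.val : ℤ) by
        rw [(Finset.mem_filter.1 hi).2], Finset.sum_const, nsmul_eq_mul]
      rfl
    rw [qSum, Finset.mul_sum, ← e, ← Finset.sum_add_distrib]
    exact Finset.sum_congr rfl fun i _ => by rw [ZMod.val_intCast, Int.mul_ediv_add_emod]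
  have h1 := key β
  have h2 := key γ
  rw [hc] at h1
  have hp : (p : ℤ) ≠ 0 := by exact_mod_cast NeZero.ne p
  exact mul_left_cancel₀ hp (by linarith)

theorem exists_weight [NeZero p] {β : Exp n} (hinj : Function.Injective β) (h0 : ∀ i, 0 ≤ β i) :
    ∃ v : ℕ, 2 * qSum p β = pairCount (resCount p β) + 2 * (v : ℤ) := by
  have h1 := two_mul_sum_rankIn (p := p) hinj
  have h2 := pairCount_le (p := p) hinj h0
  rw [← card_samePairs, ← h1] at h2 ⊢
  refine ⟨(qSum p β - ((∑ i, rankIn p β i : ℕ) : ℤ)).toNat, ?_⟩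
  push_cast at h2 ⊢
  omega

theorem coeffMap_mem_space [Fact p.Prime] (hM : IsPModular p M)
    {B : Set (IrrCharacter (Perm (Fin n)))} (hB : IsPBlock M B) {β₀ : Exp n} (hβ₀ : Adm n β₀)
    {ψ₀ : IrrCharacter (Perm (Fin n))} (hψ₀ : ψ₀ ∈ B) {ε₀ : ℂ} (hε₀ : ε₀ ≠ 0)
    (hchi : (chi β₀ : Perm (Fin n) → ℂ) = ε₀ • (ψ₀ : Perm (Fin n) → ℂ))
    {u : Perm (Fin n) → ℂ} (hu : ∀ σ : Perm (Fin n), p ∣ orderOf σ → u σ = 0) :
    coeffMap B u ∈ space n p (resCount p β₀) (qSum p β₀) := by
  refine mem_space.2 ⟨fun τ β => ?_, fun β h => ?_, fun γ m hγ hm => ?_⟩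
  · rw [coeffMap_apply, coeffMap_apply, chi_comp, classInner_smul_right, map_intCast]
  · by_cases hβ : Adm n β
    swap
    · exact absurd (by rw [coeffMap_apply, chi_eq_zero hβ, classInner_zero_right]) h
    rw [coeffMap_eq_sum] at h
    obtain ⟨ψ, hψ, hne⟩ := Finset.exists_ne_zero_of_sum_ne_zero h
    obtain ⟨φ, hφ⟩ := chi_irr hβ
    have heq : φ = ψ := by
      by_contra hφψ
      have h0 : classInner (ψ : Perm (Fin n) → ℂ) (φ : Perm (Fin n) → ℂ) = 0 :=
        classInner_irr_ne ψ.2 φ.2 fun e => hφψ (Subtype.ext e).symm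
      refine right_ne_zero_of_mul hne ?_
      rcases hφ with hφ | hφ <;> rw [hφ]
      · exact h0
      · rw [classInner_neg_right, h0, neg_zero]
    subst heq
    obtain ⟨ε, hε, hεφ⟩ : ∃ ε : ℂ, ε ≠ 0 ∧ (chi β : Perm (Fin n) → ℂ) = ε • (φ : Perm (Fin n) → ℂ) := by
      rcases hφ with hφ | hφ
      · exact ⟨1, one_ne_zero, by rw [hφ, one_smul]⟩
      · exact ⟨-1, by norm_num, by rw [hφ, neg_one_smul]⟩
    have hsame : SameBlock M (φ : Perm (Fin n) → ℂ) (ψ₀ : Perm (Fin n) → ℂ) := by
      have hmem := (Finset.mem_filter.1 hψ).2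
      rw [IsPBlock.eq_blockOf hM hB hψ₀] at hmem
      exact SameBlock.symm hM hmem
    have hc := resCount_eq_of_sameBlock hM hβ hβ₀ hε hε₀ hεφ hchi hsame
    exact ⟨hβ.nonneg, hc, qSum_eq_of (by rw [hβ.deg, hβ₀.deg]) hc⟩
  · simp only [coeffMap_apply]
    exact moves_sum_eq_zero hM.1.pos (isClassFunction_blockPart B u)
      (fun σ hσ => blockPart_singular hM hB hu hσ) γ hγ m hm

/-- The rank of a block of weight `v`. -/
theorem blockRank_le [Fact p.Prime] (hM : IsPModular p M)
    {B : Set (IrrCharacter (Perm (Fin n)))} (hB : IsPBlock M B) {β₀ : Exp n} (hβ₀ : Adm n β₀)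
    {ψ₀ : IrrCharacter (Perm (Fin n))} (hψ₀ : ψ₀ ∈ B) {ε₀ : ℂ} (hε₀ : ε₀ ≠ 0)
    (hchi : (chi β₀ : Perm (Fin n) → ℂ) = ε₀ • (ψ₀ : Perm (Fin n) → ℂ)) {v : ℕ}
    (hv : 2 * qSum p β₀ = pairCount (resCount p β₀) + 2 * (v : ℤ)) :
    blockRank p B ≤ if v = 0 then 1 else p ^ v - 1 := by
  obtain ⟨hfin, hrank⟩ := finrank_space (N := n) v (resCount p β₀) (qSum p β₀) hv
  haveI := hfin
  set S := Submodule.span ℂ
    ((fun χ : IrrCharacter (Perm (Fin n)) => pRegularPart p (χ : Perm (Fin n) → ℂ)) '' B) with hS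
  have hzero : ∀ u ∈ S, ∀ σ : Perm (Fin n), p ∣ orderOf σ → u σ = 0 := by
    intro u hu σ hσ
    induction hu using Submodule.span_induction with
    | mem x hx =>
      obtain ⟨χ, -, rfl⟩ := hx
      simp [pRegularPart, IsPRegular, hσ]
    | zero => rfl
    | add x y _ _ hx hy => simp [hx, hy]
    | smul z x _ hx => simp [hx]
  let F : S →ₗ[ℂ] space n p (resCount p β₀) (qSum p β₀) :=
    LinearMap.codRestrict _ ((coeffMap B).comp S.subtype)
      fun u => coeffMap_mem_space hM hB hβ₀ hψ₀ hε₀ hchi (hzero u.1 u.2)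
  have hF : Function.Injective F := by
    refine (injective_iff_map_eq_zero F).2 fun u hu => Subtype.ext ?_
    have hcoef : ∀ β, coeffMap B (u : Perm (Fin n) → ℂ) β = 0 := fun β =>
      congrFun (congrArg Subtype.val hu) β
    have horth : ∀ ψ ∈ B, classInner (u : Perm (Fin n) → ℂ) (ψ : Perm (Fin n) → ℂ) = 0 := by
      intro ψ hψ
      obtain ⟨β, hβ, hrep⟩ := exists_rep ψ
      have h := hcoef β
      rw [coeffMap_eq_sum, Finset.sum_eq_single ψ] at h
      · rcases hrep with hrep | hrep <;> rw [hrep] at h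
        · rwa [classInner_irr_self ψ.2, mul_one] at h
        · rwa [classInner_neg_right, classInner_irr_self ψ.2, mul_neg, mul_one, neg_eq_zero] at h
      · intro χ _ hχ
        refine mul_eq_zero_of_right _ ?_
        have h0 : classInner (χ : Perm (Fin n) → ℂ) (ψ : Perm (Fin n) → ℂ) = 0 :=
          classInner_irr_ne χ.2 ψ.2 fun e => hχ (Subtype.ext e)
        rcases hrep with hrep | hrep <;> rw [hrep]
        · exact h0
        · rw [classInner_neg_right, h0, neg_zero]
      · exact fun hnot => absurd (Finset.mem_filter.2 ⟨Finset.mem_univ _, hψ⟩) hnot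
    have hall : ∀ y ∈ S, classInner (u : Perm (Fin n) → ℂ) y = 0 := by
      intro y hy
      induction hy using Submodule.span_induction with
      | mem x hx =>
        obtain ⟨χ, hχ, rfl⟩ := hx
        rw [← horth χ hχ]
        refine congrArg ((Nat.card (Perm (Fin n)) : ℂ)⁻¹ * ·) (Finset.sum_congr rfl fun σ _ => ?_)
        by_cases hσ : p ∣ orderOf σ
        · rw [hzero u.1 u.2 σ hσ, zero_mul, zero_mul]
        · simp [pRegularPart, IsPRegular, hσ]
      | zero => exact classInner_zero_right _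
      | add x y _ _ hx hy => rw [classInner_add_right, hx, hy, add_zero]
      | smul z x _ hx => rw [classInner_smul_right, hx, mul_zero]
    have hself := hall u.1 u.2
    rw [classInner, mul_eq_zero] at hself
    rcases hself with h | h
    · simp at h
    · funext σ
      have hnn : ∀ τ : Perm (Fin n), (u : Perm (Fin n) → ℂ) τ * conj ((u : Perm (Fin n) → ℂ) τ) =
          ((Complex.normSq ((u : Perm (Fin n) → ℂ) τ) : ℝ) : ℂ) := fun τ => Complex.mul_conj _
      simp only [hnn, ← Complex.ofReal_sum, Complex.ofReal_eq_zero] at h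
      exact Complex.normSq_eq_zero.1
        ((Finset.sum_eq_zero_iff_of_nonneg fun τ _ => Complex.normSq_nonneg _).1 h σ
          (Finset.mem_univ σ))
  exact (LinearMap.finrank_le_finrank_of_injective hF).trans hrank

end CfsgLib.SymBlocks
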