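import Mathlib.Algebra.BigOperators.Fin
import Mathlib.GroupTheory.Perm.Sign
import Mathlib.Data.Multiset.MapFold
import Mathlib.Data.Fin.Tuple.Basic
import Mathlib.Tactic

/-!
# Alternants and shift operators on exponent vectors

The characters of the symmetric groups are the coefficients of the products of power sums with
the Vandermonde alternant; here only the linear algebra of exponent vectors is developed.
-/

set_option autoImplicit false
set_option linter.unusedSectionVars false
set_option linter.unusedVariables false
set_option linter.unusedSimpArgs false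

noncomputable section

open scoped Classical

namespace CfsgLib.SymBlocks

open Equiv

variable {N : ℕ}

/-- An exponent vector. -/
abbrev Exp (N : ℕ) := Fin N → ℤ

/-- The exponent vector of a permutation of `0, …, N - 1`. -/
def permVec (π : Perm (Fin N)) : Exp N := fun i => ((π i : ℕ) : ℤ)

/-- The total degree of the alternant. -/
def baseDeg (N : ℕ) : ℤ := ∑ i : Fin N, ((i : ℕ) : ℤ)

/-- The coefficient function of the alternant. -/
def altDelta (β : Exp N) : ℤ :=
  ∑ π : Perm (Fin N), (Perm.sign π : ℤ) * if β = permVec π then 1 else 0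

/-- Multiplication by a power sum. -/
def shiftOp (m : ℕ) (f : Exp N → ℤ) : Exp N → ℤ :=
  fun β => ∑ i, f (β - Pi.single i (m : ℤ))

instance : LeftCommutative (shiftOp (N := N)) where
  left_comm m k f := by
    funext β
    simp only [shiftOp]
    rw [Finset.sum_comm]
    exact Finset.sum_congr rfl fun i _ => Finset.sum_congr rfl fun j _ => by rw [sub_right_comm]

/-- The coefficient function of the product of power sums and the alternant. -/
def phi (L : Multiset ℕ) : Exp N → ℤ := L.foldr shiftOp altDelta

/-- The coefficient function of the product of power sums. -/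
def monoE (L : Multiset ℕ) : Exp N → ℤ :=
  L.foldr shiftOp fun a => if a = 0 then 1 else 0

@[simp] theorem phi_zero : phi (0 : Multiset ℕ) = (altDelta : Exp N → ℤ) := Multiset.foldr_zero _ _

theorem phi_cons (m : ℕ) (L : Multiset ℕ) (β : Exp N) :
    phi (m ::ₘ L) β = ∑ i, phi L (β - Pi.single i (m : ℤ)) :=
  congrFun (Multiset.foldr_cons _ _ _ _) β

@[simp] theorem monoE_zero (a : Exp N) : monoE (0 : Multiset ℕ) a = if a = 0 then 1 else 0 :=
  congrFun (Multiset.foldr_zero _ _) a

theorem monoE_cons (m : ℕ) (L : Multiset ℕ) (a : Exp N) :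
    monoE (m ::ₘ L) a = ∑ i, monoE L (a - Pi.single i (m : ℤ)) :=
  congrFun (Multiset.foldr_cons _ _ _ _) a

theorem phi_eq_sum (L : Multiset ℕ) : ∀ β : Exp N,
    phi L β = ∑ π : Perm (Fin N), (Perm.sign π : ℤ) * monoE L (β - permVec π) := by
  induction L using Multiset.induction_on with
  | empty =>
    intro β
    rw [phi_zero, altDelta]
    refine Finset.sum_congr rfl fun π _ => ?_
    rw [monoE_zero]
    simp only [sub_eq_zero]
  | cons m L ih =>
    intro β
    rw [phi_cons]
    simp only [ih, monoE_cons, Finset.mul_sum]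
    rw [Finset.sum_comm]
    exact Finset.sum_congr rfl fun π _ => Finset.sum_congr rfl fun i _ => by rw [sub_right_comm]

theorem monoE_eq_zero_of_neg (L : Multiset ℕ) : ∀ (a : Exp N) {i : Fin N}, a i < 0 →
    monoE L a = 0 := by
  induction L using Multiset.induction_on with
  | empty =>
    intro a i hi
    rw [monoE_zero, if_neg]
    rintro rfl
    simp at hi
  | cons m L ih =>
    intro a i hi
    rw [monoE_cons]
    refine Finset.sum_eq_zero fun j _ => ih _ (i := i) ?_
    rw [Pi.sub_apply, Pi.single_apply]
    split_ifs <;> omega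

theorem phi_eq_zero_of_neg (L : Multiset ℕ) (β : Exp N) {i : Fin N} (hi : β i < 0) :
    phi L β = 0 := by
  rw [phi_eq_sum]
  refine Finset.sum_eq_zero fun π _ => ?_
  rw [monoE_eq_zero_of_neg L _ (i := i), mul_zero]
  simp only [Pi.sub_apply, permVec]
  omega

theorem monoE_degree (L : Multiset ℕ) : ∀ a : Exp N, monoE L a ≠ 0 → ∑ i, a i = (L.sum : ℤ) := by
  induction L using Multiset.induction_on with
  | empty =>
    intro a ha
    rw [monoE_zero] at ha
    simp only [ne_eq, ite_eq_right_iff, one_ne_zero, imp_false, not_not] at ha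
    simp [ha]
  | cons m L ih =>
    intro a ha
    rw [monoE_cons] at ha
    obtain ⟨i, -, hi⟩ := Finset.exists_ne_zero_of_sum_ne_zero ha
    have h := ih _ hi
    simp only [Pi.sub_apply, Finset.sum_sub_distrib, Finset.sum_pi_single', Finset.mem_univ,
      if_true] at h
    rw [Multiset.sum_cons, Nat.cast_add]
    linarith

theorem phi_degree (L : Multiset ℕ) (β : Exp N) (h : phi L β ≠ 0) :
    ∑ i, β i = (L.sum : ℤ) + baseDeg N := by
  rw [phi_eq_sum] at h
  obtain ⟨π, -, hπ⟩ := Finset.exists_ne_zero_of_sum_ne_zero h
  have := monoE_degree L _ (right_ne_zero_of_mul hπ)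
  simp only [Pi.sub_apply, Finset.sum_sub_distrib, permVec] at this
  rw [Equiv.sum_comp π (fun i : Fin N => ((i : ℕ) : ℤ))] at this
  rw [baseDeg]
  linarith

/-! ## Antisymmetry -/

/-- Antisymmetric functions of exponent vectors. -/
def AntiSym {R : Type*} [Ring R] (f : Exp N → R) : Prop :=
  ∀ (τ : Perm (Fin N)) (β : Exp N), f (β ∘ τ) = ((Perm.sign τ : ℤ) : R) * f β

theorem antiSym_altDelta : AntiSym (altDelta : Exp N → ℤ) := by
  intro τ β
  rw [altDelta, altDelta, Finset.mul_sum, ← Equiv.sum_comp (Equiv.mulRight τ)]
  refine Finset.sum_congr rfl fun π _ => ?_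
  simp only [Equiv.coe_mulRight, Perm.sign_mul, Units.val_mul, Int.cast_id]
  have hiff : β ∘ τ = permVec (π * τ) ↔ β = permVec π := by
    constructor
    · intro h
      funext i
      have := congrFun h (τ⁻¹ i)
      simpa [permVec] using this
    · rintro rfl
      rfl
  simp only [hiff]
  ring

theorem AntiSym.shiftOp {f : Exp N → ℤ} (hf : AntiSym f) (m : ℕ) : AntiSym (shiftOp m f) := by
  intro τ β
  simp only [CfsgLib.SymBlocks.shiftOp, Finset.mul_sum]
  conv_rhs => rw [← Equiv.sum_comp τ]
  refine Finset.sum_congr rfl fun i _ => ?_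
  refine Eq.trans ?_ (hf τ (β - Pi.single (τ i) (m : ℤ)))
  congr 1
  funext j
  simp only [Pi.sub_apply, Function.comp_apply, Pi.single_apply, τ.injective.eq_iff]

theorem antiSym_phi (L : Multiset ℕ) : AntiSym (phi L : Exp N → ℤ) := by
  induction L using Multiset.induction_on with
  | empty => rw [phi_zero]; exact antiSym_altDelta
  | cons m L ih =>
    rw [phi, Multiset.foldr_cons]
    exact ih.shiftOp m

theorem AntiSym.eq_zero {R : Type*} [Ring R] [NoZeroDivisors R] [CharZero R] {f : Exp N → R}
    (hf : AntiSym f) {β : Exp N} (hβ : ¬ Function.Injective β) : f β = 0 := by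
  obtain ⟨i, j, hij, hne⟩ := Function.not_injective_iff.1 hβ
  have h := hf (swap i j) β
  have hcomp : β ∘ (swap i j) = β := by
    funext k
    simp only [Function.comp_apply, swap_apply_def]
    split_ifs with h1 h2 <;> simp_all
  rw [hcomp, Perm.sign_swap hne] at h
  push_cast at h
  rw [neg_one_mul] at h
  exact CharZero.eq_neg_self_iff.1 h

/-! ## One more variable -/

/-- One more bead at the bottom. -/
def shiftUp (β : Exp N) : Exp (N + 1) := Fin.cons 0 fun i => β i + 1

theorem altDelta_shiftUp (β : Exp N) : altDelta (shiftUp β) = altDelta β := by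
  rw [altDelta, altDelta, ← Equiv.sum_comp Perm.decomposeFin.symm, Fintype.sum_prod_type,
    Finset.sum_eq_single (0 : Fin (N + 1))]
  · refine Finset.sum_congr rfl fun π _ => ?_
    rw [Perm.decomposeFin.symm_sign, if_pos rfl, one_mul]
    congr 1
    refine if_congr ⟨fun h => funext fun i => ?_, fun h => funext fun i => ?_⟩ rfl rfl
    · have := congrFun h i.succ
      simp [shiftUp, permVec] at this
      exact this
    · subst h
      induction i using Fin.cases <;> simp [shiftUp, permVec]
  · intro q _ hq
    refine Finset.sum_eq_zero fun π _ => ?_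
    rw [if_neg, mul_zero]
    intro h
    have := congrFun h 0
    simp [shiftUp, permVec] at this
    exact hq (Fin.ext (by simpa using this.symm))
  · simp

theorem phi_shiftUp (L : Multiset ℕ) : (∀ m ∈ L, 0 < m) → ∀ β : Exp N,
    phi L (shiftUp β) = phi L β := by
  induction L using Multiset.induction_on with
  | empty => intro _ β; rw [phi_zero, phi_zero, altDelta_shiftUp]
  | cons m L ih =>
    intro hpos β
    have hm := hpos m (Multiset.mem_cons_self _ _)
    rw [phi_cons, phi_cons, Fin.sum_univ_succ,
      phi_eq_zero_of_neg L _ (i := 0) (by simp [shiftUp]; omega), zero_add]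
    refine Finset.sum_congr rfl fun i _ => ?_
    rw [← ih (fun k hk => hpos k (Multiset.mem_cons_of_mem hk))]
    congr 1
    funext j
    induction j using Fin.cases with
    | zero => simp [shiftUp, Pi.single_apply, (Fin.succ_ne_zero i).symm]
    | succ j =>
      simp only [shiftUp, Pi.sub_apply, Fin.cons_succ, Pi.single_apply, Fin.succ_inj]
      ring

/-! ## Moving a bead up and another one down -/

/-- Take `c` from the entry at `i` and add it at `k`. -/
def move (β : Exp N) (i k : Fin N) (c : ℤ) : Exp N := β - Pi.single i c + Pi.single k c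

variable {R : Type*} [CommRing R] [IsDomain R] [CharZero R]

/-- The pairs of distinct positions in the same residue class. -/
def samePairs (d : ℕ) (β : Exp N) : Finset (Fin N × Fin N) :=
  Finset.univ.filter fun z => z.1 ≠ z.2 ∧ (d : ℤ) ∣ β z.2 - β z.1

theorem two_mul_move_sum {f : Exp N → R} (hf : AntiSym f) (d : ℕ) (hd : 0 < d) (β : Exp N)
    (hβ : ∀ i, 0 ≤ β i) :
    2 * ∑ i, ∑ k ∈ Finset.univ.filter (fun k => (d : ℤ) ∣ β k - β i),
        ∑ m ∈ Finset.range ((β i).toNat / d), f (move β i k (((d * (m + 1) : ℕ)) : ℤ)) =
      (((2 * ∑ i, (((β i).toNat / d : ℕ) : ℤ)) - (samePairs d β).card : ℤ) : R) * f β := by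
  set g : Fin N × Fin N → R := fun z => ∑ m ∈ Finset.range ((β z.1).toNat / d),
    f (move β z.1 z.2 (((d * (m + 1) : ℕ)) : ℤ)) with hg
  have hpair : ∀ z ∈ samePairs d β, g z + g z.swap = - f β := by
    rintro ⟨i, k⟩ hz
    obtain ⟨hne, hdvd⟩ := (Finset.mem_filter.1 hz).2
    set a := (β i).toNat / d with ha
    set b := (β k).toNat / d with hb
    set r : ℤ := (((β i).toNat % d : ℕ) : ℤ) with hr
    have hi : β i = r + (d : ℤ) * a := by
      rw [hr, ha, ← Nat.cast_mul, ← Nat.cast_add, Nat.mod_add_div, Int.toNat_of_nonneg (hβ i)]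
    have hk : β k = r + (d : ℤ) * b := by
      have e : (β k).toNat % d = (β i).toNat % d := by
        have h1 : ((β k).toNat : ℤ) % (d : ℤ) = ((β i).toNat : ℤ) % (d : ℤ) := by
          rw [Int.toNat_of_nonneg (hβ i), Int.toNat_of_nonneg (hβ k)]
          exact Int.emod_eq_emod_iff_emod_sub_eq_zero.2 (Int.emod_eq_zero_of_dvd hdvd)
        exact_mod_cast h1
      rw [hr, hb, ← e, ← Nat.cast_mul, ← Nat.cast_add, Nat.mod_add_div, Int.toNat_of_nonneg (hβ k)]
    set F : ℕ → R := fun x => f (Function.update (Function.update β i (r + (d : ℤ) * x)) k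
      (r + (d : ℤ) * (((a + b : ℕ) : ℤ) - x))) with hF
    have hFanti : ∀ x, x ≤ a + b → F (a + b - x) = - F x := by
      intro x hx
      have h := hf (swap i k) (Function.update (Function.update β i (r + (d : ℤ) * x)) k
        (r + (d : ℤ) * (((a + b : ℕ) : ℤ) - x)))
      rw [Perm.sign_swap hne] at h
      push_cast at h
      rw [neg_one_mul] at h
      simp only [hF]
      push_cast
      rw [← h]
      congr 1
      funext j
      simp only [Function.comp_apply, Function.update_apply, swap_apply_def, Nat.cast_sub hx,
        Nat.cast_add]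
      rcases eq_or_ne j i with rfl | hji
      · simp [hne, hne.symm]
      · rcases eq_or_ne j k with rfl | hjk
        · simp [hne, hne.symm]
        · simp [hji, hjk]
    have h1 : g (i, k) = ∑ x ∈ Finset.range a, F x := by
      rw [← Finset.sum_range_reflect]
      refine Finset.sum_congr rfl fun m hm => ?_
      have hm' := Finset.mem_range.1 hm
      simp only [hF]
      congr 1
      funext j
      simp only [move, Pi.sub_apply, Pi.add_apply, Pi.single_apply, Function.update_apply]
      rw [show ((a - 1 - m : ℕ) : ℤ) = (a : ℤ) - 1 - m by omega]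
      push_cast
      split_ifs with h1 h2 <;> subst_vars
      · exact absurd rfl hne
      all_goals first
        | linear_combination hk
        | linear_combination hi
        | ring
    have h2 : g (k, i) = ∑ m ∈ Finset.range b, F (a + 1 + m) := by
      refine Finset.sum_congr rfl fun m hm => ?_
      simp only [hF]
      congr 1
      funext j
      simp only [move, Pi.sub_apply, Pi.add_apply, Pi.single_apply, Function.update_apply]
      push_cast
      split_ifs with h1 h2 <;> subst_vars
      · exact absurd rfl hne
      all_goals first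
        | linear_combination hk
        | linear_combination hi
        | ring
    have h3 : F a = f β := by
      simp only [hF]
      congr 1
      funext j
      simp only [Function.update_apply]
      push_cast
      split_ifs with h1 h2 <;> subst_vars
      · linear_combination -hk
      · linear_combination -hi
      · rfl
    have h4 : ∑ x ∈ Finset.range (a + 1 + b), F x = 0 := by
      have e : ∑ x ∈ Finset.range (a + 1 + b), F x = -∑ x ∈ Finset.range (a + 1 + b), F x := by
        conv_lhs => rw [← Finset.sum_range_reflect]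
        rw [← Finset.sum_neg_distrib]
        refine Finset.sum_congr rfl fun x hx => ?_
        have := Finset.mem_range.1 hx
        rw [show a + 1 + b - 1 - x = a + b - x by omega, hFanti x (by omega)]
      exact CharZero.eq_neg_self_iff.1 e
    rw [Finset.sum_range_add, Finset.sum_range_succ, h3] at h4
    rw [Prod.swap_prod_mk, h1, h2]
    linear_combination h4
  have hsum : 2 * ∑ z ∈ samePairs d β, g z = ((-((samePairs d β).card : ℤ) : ℤ) : R) * f β := by
    have hsw : ∑ z ∈ samePairs d β, g z.swap = ∑ z ∈ samePairs d β, g z := by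
      refine Finset.sum_equiv (Equiv.prodComm _ _) (fun z => ?_) (fun z _ => rfl)
      simp only [samePairs, Finset.mem_filter, Finset.mem_univ, true_and, Equiv.prodComm_apply,
        Prod.fst_swap, Prod.snd_swap]
      rw [← dvd_neg, neg_sub, ne_comm]
    calc 2 * ∑ z ∈ samePairs d β, g z = ∑ z ∈ samePairs d β, (g z + g z.swap) := by
          rw [Finset.sum_add_distrib, hsw, two_mul]
      _ = ∑ z ∈ samePairs d β, -f β := Finset.sum_congr rfl hpair
      _ = _ := by simp [Finset.sum_const]
  have hdiag : ∀ i, g (i, i) = (((β i).toNat / d : ℕ) : R) * f β := by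
    intro i
    simp [hg, move]
  have hsplit : ∀ i, ∑ k ∈ Finset.univ.filter (fun k => (d : ℤ) ∣ β k - β i), g (i, k) =
      g (i, i) + ∑ k ∈ Finset.univ.filter (fun k => i ≠ k ∧ (d : ℤ) ∣ β k - β i), g (i, k) := by
    intro i
    rw [← Finset.add_sum_erase _ _ (a := i) (by simp)]
    congr 1
    refine Finset.sum_congr ?_ fun _ _ => rfl
    ext k
    simp [eq_comm, and_comm]
  have hall : ∑ i, ∑ k ∈ Finset.univ.filter (fun k => i ≠ k ∧ (d : ℤ) ∣ β k - β i), g (i, k) =
      ∑ z ∈ samePairs d β, g z := by
    rw [samePairs, Finset.sum_filter, Fintype.sum_prod_type]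
    refine Finset.sum_congr rfl fun i _ => ?_
    rw [Finset.sum_filter]
  show 2 * ∑ i, ∑ k ∈ Finset.univ.filter (fun k => (d : ℤ) ∣ β k - β i), g (i, k) = _
  simp only [hsplit, hdiag, Finset.sum_add_distrib, hall, mul_add]
  rw [hsum, ← Finset.sum_mul]
  generalize hq : (fun i => (β i).toNat / d) = q
  simp only [funext_iff] at hq
  simp only [hq]
  push_cast
  ring

end CfsgLib.SymBlocks
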