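import Cfsg.Agent.Lib.SymBlocks.Orbits
import Cfsg.Agent.Lib.SymBlocks.Operators
import Cfsg.Agent.Lib.Characters.Generalized
import Cfsg.Agent.Lib.KGV.HasPsi
import Mathlib.Data.Fin.Tuple.Sort
import Mathlib.Data.List.OfFn

/-!
# The irreducible characters of the symmetric groups

The coefficient functions of the alternant are virtual characters; they are orthonormal by the
identity for moving beads, and they exhaust the irreducible characters because the regular
character lies in their span.
-/

set_option autoImplicit false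
set_option linter.unusedSectionVars false
set_option linter.unusedVariables false
set_option linter.unusedSimpArgs false

noncomputable section

open scoped Classical ComplexConjugate

namespace CfsgLib.SymBlocks

open Equiv Cfsg CfsgLib.Characters

variable {N n : ℕ}

/-- The virtual character attached to an exponent vector. -/
def chi (β : Exp N) (σ : Perm (Fin n)) : ℂ := (phi (orb σ) β : ℂ)

/-- The permutation character on colourings with given numbers of each colour. -/
def mono (a : Exp N) (σ : Perm (Fin n)) : ℂ := (monoE (orb σ) a : ℂ)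

/-! ## Colourings -/

theorem monoE_ofFn : ∀ (k : ℕ) (w : Fin k → ℕ) (a : Exp N),
    monoE (↑(List.ofFn w) : Multiset ℕ) a =
      ∑ g : Fin k → Fin N, if ∀ i, (∑ j, if g j = i then (w j : ℤ) else 0) = a i then 1 else 0 := by
  intro k
  induction k with
  | zero =>
    intro w a
    rw [List.ofFn_zero, Multiset.coe_nil, monoE_zero, Fintype.sum_unique]
    refine if_congr ?_ rfl rfl
    simp [funext_iff, eq_comm]
  | succ k ih =>
    intro w a
    rw [List.ofFn_succ, ← Multiset.cons_coe, monoE_cons,
      ← (Fin.consEquiv fun _ : Fin (k + 1) => Fin N).sum_comp, Fintype.sum_prod_type]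
    refine Finset.sum_congr rfl fun c _ => ?_
    rw [ih]
    refine Finset.sum_congr rfl fun g _ => if_congr (forall_congr' fun i => ?_) rfl rfl
    simp only [Fin.consEquiv_apply, Fin.sum_univ_succ, Fin.cons_zero, Fin.cons_succ, Pi.sub_apply,
      Pi.single_apply]
    by_cases hci : c = i
    · subst hci; simp only [if_true]; omega
    · rw [if_neg hci, if_neg (Ne.symm hci)]; omega

/-- The colour classes of a colouring have the prescribed sizes. -/
def HasSizes (a : Exp N) (c : Fin n → Fin N) : Prop :=
  ∀ i, ((Finset.univ.filter fun x => c x = i).card : ℤ) = a i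

theorem monoE_orb (σ : Perm (Fin n)) (a : Exp N) :
    monoE (orb σ) a = Nat.card {c : Fin n → Fin N // HasSizes a c ∧ c ∘ σ = c} := by
  set k := Fintype.card (Orbits σ) with hk
  let e : Fin k ≃ Orbits σ := (Fintype.equivFin (Orbits σ)).symm
  have h1 : orb σ = (↑(List.ofFn fun j : Fin k => (Finset.univ.filter fun x =>
      Quotient.mk (Perm.SameCycle.setoid σ) x = e j).card) : Multiset ℕ) := by
    rw [orb, ← Finset.map_univ_equiv e, Finset.map_val, Multiset.map_map, Fin.univ_val_map]
    rfl
  rw [h1, monoE_ofFn, Finset.sum_boole, Nat.card_eq_fintype_card]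
  refine congrArg (Nat.cast : ℕ → ℤ) ?_
  rw [← Fintype.card_subtype]
  have hsize : ∀ (g : Orbits σ → Fin N) (i : Fin N),
      ((Finset.univ.filter fun x => g (Quotient.mk (Perm.SameCycle.setoid σ) x) = i).card : ℤ) =
      ∑ j : Fin k, if g (e j) = i then ((Finset.univ.filter fun x =>
        Quotient.mk (Perm.SameCycle.setoid σ) x = e j).card : ℤ) else 0 := by
    intro g i
    rw [e.sum_comp (fun o => if g o = i then ((Finset.univ.filter fun x =>
        Quotient.mk (Perm.SameCycle.setoid σ) x = o).card : ℤ) else 0)]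
    rw [Finset.card_eq_sum_card_fiberwise (t := (Finset.univ : Finset (Orbits σ)))
      (f := fun x => Quotient.mk (Perm.SameCycle.setoid σ) x) (fun x _ => Finset.mem_univ _)]
    push_cast
    refine Finset.sum_congr rfl fun o _ => ?_
    split_ifs with h
    · congr 2
      ext x
      simp only [Finset.mem_filter, Finset.mem_univ, true_and]
      exact ⟨fun hx => hx.2, fun hx => ⟨hx ▸ h, hx⟩⟩
    · simp only [Nat.cast_eq_zero, Finset.card_eq_zero]
      ext x
      simp only [Finset.mem_filter, Finset.mem_univ, true_and, Finset.notMem_empty, iff_false,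
        not_and]
      exact fun hx hx' => h (hx' ▸ hx)
  refine Fintype.card_congr
    { toFun := fun g => ⟨fun x => g.1 (e.symm (Quotient.mk (Perm.SameCycle.setoid σ) x)), ?_, ?_⟩
      invFun := fun c => ⟨fun j => Quotient.liftOn (e j) c.1 ?_, fun i => ?_⟩
      left_inv := fun g => ?_
      right_inv := fun c => ?_ }
  · intro i
    rw [hsize (fun o => g.1 (e.symm o)) i]
    simpa using g.2 i
  · funext x
    simp only [Function.comp_apply]
    exact congrArg (fun o => g.1 (e.symm o)) (Quotient.sound (s := Perm.SameCycle.setoid σ)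
      (Perm.sameCycle_apply_left.2 (Perm.SameCycle.refl σ x)))
  · intro x y hxy
    obtain ⟨m, rfl⟩ := Perm.SameCycle.exists_nat_pow_eq hxy
    clear hxy
    induction m with
    | zero => rfl
    | succ m ih =>
      rw [pow_succ', Perm.mul_apply, ih]
      exact (congrFun c.2.2 _).symm
  · set g : Orbits σ → Fin N := fun o => Quotient.liftOn o c.1 (fun x y hxy => by
      obtain ⟨m, rfl⟩ := Perm.SameCycle.exists_nat_pow_eq hxy
      clear hxy
      induction m with
      | zero => rfl
      | succ m ih =>
        rw [pow_succ', Perm.mul_apply, ih]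
        exact (congrFun c.2.2 _).symm) with hg
    exact (hsize g i).symm.trans (c.2.1 i)
  · refine Subtype.ext (funext fun j => ?_)
    show Quotient.liftOn (e j) _ _ = _
    obtain ⟨x, hx⟩ := Quotient.exists_rep (e j)
    simp only [← hx, Quotient.liftOn_mk]
    rw [hx, e.symm_apply_apply]
  · refine Subtype.ext (funext fun x => ?_)
    show Quotient.liftOn (e (e.symm _)) _ _ = _
    simp

theorem isGeneralizedCharacter_mono (a : Exp N) :
    IsGeneralizedCharacter (Perm (Fin n)) (mono a) := by
  let act : Perm (Fin n) → {c : Fin n → Fin N // HasSizes a c} →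
      {c : Fin n → Fin N // HasSizes a c} := fun σ c => ⟨c.1 ∘ ⇑σ⁻¹, fun i => by
    rw [← c.2 i]
    norm_cast
    exact Finset.card_equiv σ⁻¹ (fun x => by simp)⟩
  have h := CfsgLib.KGV.isCharacter_card_fixed act (fun c => rfl) (fun g h c => by
    refine Subtype.ext ?_
    simp [act, mul_inv_rev, Function.comp_assoc])
  refine isGeneralizedCharacter_of_isCharacter ?_
  convert h using 1
  funext σ
  rw [mono, monoE_orb, Int.cast_natCast]
  refine congrArg (Nat.cast : ℕ → ℂ) (Nat.card_congr ?_)
  exact
    { toFun := fun c => ⟨⟨c.1, c.2.1⟩, Subtype.ext (funext fun x => by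
        have := congrFun c.2.2 (σ⁻¹ x)
        simp only [Function.comp_apply, Perm.coe_inv, Equiv.apply_symm_apply] at this
        exact this.symm)⟩
      invFun := fun c => ⟨c.1.1, c.1.2, funext fun x => by
        have := congrFun (congrArg Subtype.val c.2) (σ x)
        simp only [act, Function.comp_apply, Perm.coe_inv, Equiv.symm_apply_apply] at this
        exact this.symm⟩
      left_inv := fun _ => rfl
      right_inv := fun _ => rfl }

theorem chi_eq_sum (β : Exp N) :
    (chi β : Perm (Fin n) → ℂ) =
      ∑ π : Perm (Fin N), ((Perm.sign π : ℤ) : ℂ) • mono (β - permVec π) := by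
  funext σ
  simp only [chi, mono, phi_eq_sum, Finset.sum_apply, Pi.smul_apply, smul_eq_mul, Int.cast_sum,
    Int.cast_mul]

theorem isGeneralizedCharacter_chi (β : Exp N) :
    IsGeneralizedCharacter (Perm (Fin n)) (chi β) := by
  rw [chi_eq_sum]
  exact isGeneralizedCharacter_sum _ fun π _ =>
    isGeneralizedCharacter_intCast_smul (isGeneralizedCharacter_mono _) _

/-! ## Sorting -/

theorem exists_sort (β : Exp N) (hinj : Function.Injective β) (h0 : ∀ i, 0 ≤ β i) :
    ∃ τ : Perm (Fin N), StrictMono (β ∘ τ) ∧ ∀ i : Fin N, ((i : ℕ) : ℤ) ≤ β (τ i) := by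
  refine ⟨Tuple.sort β, (Tuple.monotone_sort β).strictMono_of_injective
    (hinj.comp (Tuple.sort β).injective), fun i => ?_⟩
  have hs : StrictMono (β ∘ Tuple.sort β) :=
    (Tuple.monotone_sort β).strictMono_of_injective (hinj.comp (Tuple.sort β).injective)
  obtain ⟨i, hi⟩ := i
  induction i with
  | zero => exact h0 _
  | succ j ih =>
    have h1 := hs (show (⟨j, by omega⟩ : Fin N) < ⟨j + 1, hi⟩ by simp [Fin.lt_def])
    have h2 := ih (by omega)
    simp only [Function.comp_apply] at h1
    simp only [Fin.val_mk] at h2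
    push_cast
    omega

theorem baseDeg_le (β : Exp N) (hinj : Function.Injective β) (h0 : ∀ i, 0 ≤ β i) :
    baseDeg N ≤ ∑ i, β i := by
  obtain ⟨τ, -, hτ⟩ := exists_sort β hinj h0
  rw [← Equiv.sum_comp τ β]
  exact Finset.sum_le_sum fun i _ => hτ i

theorem exists_permVec (β : Exp N) (hinj : Function.Injective β) (h0 : ∀ i, 0 ≤ β i)
    (hsum : ∑ i, β i = baseDeg N) : ∃ π : Perm (Fin N), β = permVec π := by
  obtain ⟨τ, -, hτ⟩ := exists_sort β hinj h0
  have h := (Finset.sum_eq_sum_iff_of_le fun i _ => hτ i).1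
    (by rw [Equiv.sum_comp τ β, hsum]; rfl)
  refine ⟨τ⁻¹, funext fun i => ?_⟩
  have := h (τ⁻¹ i) (Finset.mem_univ _)
  simp only [Perm.coe_inv, Equiv.apply_symm_apply] at this
  exact this.symm

theorem altDelta_permVec (π : Perm (Fin N)) : altDelta (permVec π) = (Perm.sign π : ℤ) := by
  rw [altDelta, Finset.sum_eq_single π]
  · simp
  · intro π' _ hne
    rw [if_neg, mul_zero]
    intro h
    refine hne (Equiv.ext fun i => Fin.ext ?_)
    have := congrFun h i
    simp only [permVec, Nat.cast_inj] at this
    exact this.symm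
  · simp

/-! ## Orthogonality -/

/-- `±1` when two exponent vectors differ by a permutation. -/
def sgnDelta (β γ : Exp N) : ℤ :=
  ∑ π : Perm (Fin N), (Perm.sign π : ℤ) * if β = γ ∘ π then 1 else 0

theorem antiSym_sgnDelta (γ : Exp N) : AntiSym (fun β => sgnDelta β γ) := by
  intro τ β
  simp only [sgnDelta, Finset.mul_sum]
  rw [← Equiv.sum_comp (Equiv.mulRight τ)]
  refine Finset.sum_congr rfl fun π _ => ?_
  simp only [Equiv.coe_mulRight, Perm.sign_mul, Units.val_mul, Int.cast_id]
  have hiff : β ∘ τ = γ ∘ ⇑(π * τ) ↔ β = γ ∘ π := by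
    constructor
    · intro h
      funext i
      have := congrFun h (τ⁻¹ i)
      simpa using this
    · rintro rfl
      rfl
  simp only [hiff]
  ring

theorem sgnDelta_self {β : Exp N} (hinj : Function.Injective β) : sgnDelta β β = 1 := by
  rw [sgnDelta, Finset.sum_eq_single 1]
  · simp
  · intro π _ hne
    rw [if_neg, mul_zero]
    intro h
    exact hne (Equiv.ext fun i => (hinj (congrFun h i)).symm)
  · simp

theorem sgnDelta_ne {β γ : Exp N} (h : ∀ π : Perm (Fin N), β ≠ γ ∘ π) : sgnDelta β γ = 0 :=
  Finset.sum_eq_zero fun π _ => by rw [if_neg (h π), mul_zero]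

theorem perSum_phi_mul (n : ℕ) : ∀ β γ : Exp N, (∑ i, β i = n + baseDeg N) →
    (∑ i, γ i = n + baseDeg N) →
    perSum n (fun L => phi L β * phi L γ) =
      (n.factorial : ℤ) * if ∀ i, 0 ≤ β i then sgnDelta β γ else 0 := by
  induction n using Nat.strong_induction_on with
  | _ n ih =>
  intro β γ hβ hγ
  cases n with
  | zero =>
    rw [perSum_zero, phi_zero]
    simp only [Nat.factorial_zero, Nat.cast_one, one_mul]
    by_cases h0 : ∀ i, 0 ≤ β i
    swap
    · rw [if_neg h0]
      push Not at h0
      obtain ⟨i, hi⟩ := h0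
      have := phi_eq_zero_of_neg 0 β hi
      rw [phi_zero] at this
      rw [this, zero_mul]
    rw [if_pos h0]
    by_cases hinj : Function.Injective β
    swap
    · rw [antiSym_altDelta.eq_zero hinj, zero_mul]
      exact ((antiSym_sgnDelta γ).eq_zero hinj).symm
    obtain ⟨π₀, rfl⟩ := exists_permVec β hinj h0 (by simpa using hβ)
    rw [altDelta_permVec, altDelta, Finset.mul_sum, sgnDelta,
      ← Equiv.sum_comp ((Equiv.inv (Perm (Fin N))).trans (Equiv.mulRight π₀))
        (fun π => (Perm.sign π : ℤ) * if permVec π₀ = γ ∘ π then 1 else 0)]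
    refine Finset.sum_congr rfl fun π₁ _ => ?_
    simp only [Equiv.trans_apply, Equiv.inv_apply, Equiv.coe_mulRight, Perm.sign_mul,
      Perm.sign_inv, Units.val_mul]
    have hiff : permVec π₀ = γ ∘ ⇑(π₁⁻¹ * π₀) ↔ γ = permVec π₁ := by
      constructor
      · intro h
        funext i
        have := congrFun h (π₀⁻¹ (π₁ i))
        simp [permVec] at this
        simpa [permVec] using this.symm
      · rintro rfl
        funext i
        simp [permVec]
    simp only [hiff]
    ring
  | succ n =>
    rw [perSum_recursion]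
    have hIH : ∀ m ∈ Finset.range (n + 1), (n.descFactorial m : ℤ) *
        perSum (n - m) (fun L => phi ((m + 1) ::ₘ L) β * phi ((m + 1) ::ₘ L) γ) =
        (n.factorial : ℤ) * ∑ i, ∑ j, if ∀ x, 0 ≤ (β - Pi.single i (((m + 1 : ℕ)) : ℤ) : Exp N) x
          then sgnDelta (β - Pi.single i (((m + 1 : ℕ)) : ℤ)) (γ - Pi.single j (((m + 1 : ℕ)) : ℤ))
          else 0 := by
      intro m hm
      have hm' : m ≤ n := Nat.lt_succ_iff.1 (Finset.mem_range.1 hm)
      simp only [phi_cons, Finset.sum_mul_sum, perSum]
      rw [Finset.sum_comm]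
      simp only [Finset.sum_comm (s := (Finset.univ : Finset (Perm (Fin (n - m)))))]
      simp only [Finset.mul_sum]
      refine Finset.sum_congr rfl fun i _ => Finset.sum_congr rfl fun j _ => ?_
      rw [← Finset.mul_sum]
      have hs : ∀ (ζ : Exp N) (x : Fin N), (∑ y, ζ y = ((n + 1 : ℕ) : ℤ) + baseDeg N) →
          ∑ y, (ζ - Pi.single x (((m + 1 : ℕ)) : ℤ) : Exp N) y = ((n - m : ℕ) : ℤ) + baseDeg N := by
        intro ζ x hζ
        simp only [Pi.sub_apply, Finset.sum_sub_distrib, Finset.sum_pi_single', Finset.mem_univ,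
          if_true, hζ]
        push_cast [Nat.cast_sub hm']
        ring
      have := ih (n - m) (by omega) _ _ (hs β i hβ) (hs γ j hγ)
      rw [perSum] at this
      rw [this, ← mul_assoc, ← Nat.cast_mul, mul_comm (n.descFactorial m),
        Nat.factorial_mul_descFactorial hm']
    rw [Finset.sum_congr rfl hIH, ← Finset.mul_sum]
    by_cases h0 : ∀ i, 0 ≤ β i
    swap
    · rw [if_neg h0, mul_zero]
      push Not at h0
      obtain ⟨x, hx⟩ := h0
      refine mul_eq_zero_of_right _ (Finset.sum_eq_zero fun m _ => Finset.sum_eq_zero fun i _ =>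
        Finset.sum_eq_zero fun j _ => if_neg fun h => ?_)
      have := h x
      simp only [Pi.sub_apply, Pi.single_apply] at this
      split_ifs at this <;> omega
    rw [if_pos h0]
    set F : Exp N → ℤ := fun x => sgnDelta x γ with hF
    have hterm : ∀ (m : ℕ) (i : Fin N), m < (β i).toNat →
        ∑ j, sgnDelta (β - Pi.single i (((m + 1 : ℕ)) : ℤ)) (γ - Pi.single j (((m + 1 : ℕ)) : ℤ)) =
          ∑ k, F (move β i k (((m + 1 : ℕ)) : ℤ)) := by
      intro m i _
      simp only [sgnDelta, hF]
      rw [Finset.sum_comm]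
      conv_rhs => rw [Finset.sum_comm]
      refine Finset.sum_congr rfl fun π _ => ?_
      rw [← Equiv.sum_comp π]
      refine Finset.sum_congr rfl fun k _ => ?_
      congr 1
      refine if_congr ?_ rfl rfl
      constructor
      · intro h
        funext x
        have := congrFun h x
        simp only [move, Function.comp_apply, Pi.sub_apply, Pi.add_apply, Pi.single_apply,
          π.injective.eq_iff] at this ⊢
        omega
      · intro h
        funext x
        have := congrFun h x
        simp only [move, Function.comp_apply, Pi.sub_apply, Pi.add_apply, Pi.single_apply,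
          π.injective.eq_iff] at this ⊢
        omega
    have hhigh : ∀ (m : ℕ) (i : Fin N), m < (β i).toNat → n + 1 ≤ m →
        ∑ k, F (move β i k (((m + 1 : ℕ)) : ℤ)) = 0 := by
      intro m i hm hnm
      rw [← hterm m i hm]
      refine Finset.sum_eq_zero fun j _ => (antiSym_sgnDelta _).eq_zero fun hinj => ?_
      have := baseDeg_le _ hinj fun x => by
        simp only [Pi.sub_apply, Pi.single_apply]
        have := h0 x
        split_ifs with h <;> subst_vars <;> omega
      simp only [Pi.sub_apply, Finset.sum_sub_distrib, Finset.sum_pi_single', Finset.mem_univ,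
        if_true, hβ] at this
      push_cast at this
      omega
    have hlhs : ∑ m ∈ Finset.range (n + 1), ∑ i, ∑ j,
        (if ∀ x, 0 ≤ (β - Pi.single i (((m + 1 : ℕ)) : ℤ) : Exp N) x
          then sgnDelta (β - Pi.single i (((m + 1 : ℕ)) : ℤ)) (γ - Pi.single j (((m + 1 : ℕ)) : ℤ))
          else 0) =
        ∑ i, ∑ m ∈ Finset.range (β i).toNat, ∑ k, F (move β i k (((m + 1 : ℕ)) : ℤ)) := by
      rw [Finset.sum_comm]
      refine Finset.sum_congr rfl fun i _ => ?_
      have hcond : ∀ m, (∀ x, 0 ≤ (β - Pi.single i (((m + 1 : ℕ)) : ℤ) : Exp N) x) ↔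
          m < (β i).toNat := by
        intro m
        constructor
        · intro h
          have := h i
          simp only [Pi.sub_apply, Pi.single_eq_same] at this
          omega
        · intro hm x
          simp only [Pi.sub_apply, Pi.single_apply]
          have := h0 x
          split_ifs with h <;> subst_vars <;> omega
      rw [Finset.sum_congr rfl fun m _ => show _ = if m < (β i).toNat then
          ∑ k, F (move β i k (((m + 1 : ℕ)) : ℤ)) else 0 by
        simp only [hcond m]
        split_ifs with h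
        · exact hterm m i h
        · simp]
      rw [← Finset.sum_filter]
      refine Finset.sum_subset_zero_on_sdiff (fun m hm => ?_) (fun m hm => ?_) fun _ _ => rfl
      · exact Finset.mem_range.2 (Finset.mem_filter.1 hm).2
      · simp only [Finset.mem_sdiff, Finset.mem_range, Finset.mem_filter, not_and] at hm
        exact hhigh m i hm.1 (not_lt.1 fun h => hm.2 h hm.1)
    rw [hlhs]
    have hK := two_mul_move_sum (antiSym_sgnDelta γ) 1 one_pos β h0
    simp only [Nat.div_one, one_mul, Nat.cast_one, one_dvd, Finset.filter_true_of_mem,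
      implies_true, Int.cast_id] at hK
    have hS : ∑ i, ∑ k, ∑ m ∈ Finset.range (β i).toNat, F (move β i k (((m + 1 : ℕ)) : ℤ)) =
        ∑ i, ∑ m ∈ Finset.range (β i).toNat, ∑ k, F (move β i k (((m + 1 : ℕ)) : ℤ)) :=
      Finset.sum_congr rfl fun i _ => Finset.sum_comm
    rw [← hS]
    have hsum : ∑ i, (((β i).toNat : ℕ) : ℤ) = ((n + 1 : ℕ) : ℤ) + baseDeg N := by
      rw [← hβ]
      exact Finset.sum_congr rfl fun i _ => Int.toNat_of_nonneg (h0 i)
    have hpairs : ((samePairs 1 β).card : ℤ) = 2 * baseDeg N := by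
      have e1 : samePairs 1 β = (Finset.univ : Finset (Fin N)).offDiag := by
        ext z
        simp [samePairs]
      have e2 : 2 * baseDeg N = (N : ℤ) * N - N := by
        rw [baseDeg, Fin.sum_univ_eq_sum_range (fun i => (i : ℤ))]
        clear * -
        induction N with
        | zero => simp
        | succ N ih => rw [Finset.sum_range_succ, mul_add, ih]; push_cast; ring
      rw [e1, Finset.offDiag_card, e2, Finset.card_univ, Fintype.card_fin,
        Nat.cast_sub (Nat.le_mul_self N)]
      push_cast
      ring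
    rw [hsum, hpairs] at hK
    rw [Nat.factorial_succ]
    push_cast at hK ⊢
    linear_combination ((n.factorial : ℤ)) * (Int.eq_of_mul_eq_mul_left two_ne_zero
      (show (2 : ℤ) * _ = 2 * (((n : ℤ) + 1) * sgnDelta β γ) by rw [hK]; ring))

/-- Admissible exponent vectors. -/
structure Adm (n : ℕ) (β : Exp N) : Prop where
  inj : Function.Injective β
  nonneg : ∀ i, 0 ≤ β i
  deg : ∑ i, β i = n + baseDeg N

theorem classInner_chi {β γ : Exp N} (hβ : Adm n β) (hγ : Adm n γ) :
    classInner (chi β : Perm (Fin n) → ℂ) (chi γ) = (sgnDelta β γ : ℂ) := by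
  have h := perSum_phi_mul n β γ hβ.deg hγ.deg
  rw [if_pos hβ.nonneg, perSum] at h
  rw [classInner, Nat.card_eq_fintype_card, Fintype.card_perm, Fintype.card_fin]
  have e : ∑ σ : Perm (Fin n), chi β σ * conj (chi γ σ) =
      ((∑ σ : Perm (Fin n), phi (orb σ) β * phi (orb σ) γ : ℤ) : ℂ) := by
    push_cast
    exact Finset.sum_congr rfl fun σ _ => by simp [chi]
  rw [e, h]
  push_cast
  rw [← mul_assoc, inv_mul_cancel₀ (by exact_mod_cast n.factorial_ne_zero), one_mul]

theorem chi_eq_zero {β : Exp N} (h : ¬ Adm n β) : (chi β : Perm (Fin n) → ℂ) = 0 := by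
  funext σ
  simp only [chi, Pi.zero_apply, Int.cast_eq_zero]
  by_contra hne
  refine h ⟨by_contra fun hinj => hne ((antiSym_phi _).eq_zero hinj), fun i => ?_, ?_⟩
  · by_contra hi
    exact hne (phi_eq_zero_of_neg _ _ (not_le.1 hi))
  · rw [phi_degree _ _ hne, sum_orb, Fintype.card_fin]

theorem chi_comp (β : Exp N) (τ : Perm (Fin N)) :
    (chi (β ∘ τ) : Perm (Fin n) → ℂ) = ((Perm.sign τ : ℤ) : ℂ) • chi β := by
  funext σ
  simp only [chi, antiSym_phi _ τ β, Pi.smul_apply, smul_eq_mul, Int.cast_mul, Int.cast_id]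

theorem chi_irr {β : Exp N} (hβ : Adm n β) :
    ∃ ψ : IrrCharacter (Perm (Fin n)), chi β = (ψ : Perm (Fin n) → ℂ) ∨ chi β = -(ψ : Perm (Fin n) → ℂ) :=
  eq_irr_or_neg_of_classInner_self_eq_one (isGeneralizedCharacter_chi β)
    (by rw [classInner_chi hβ hβ, sgnDelta_self hβ.inj]; simp)

/-- Every irreducible character is attached to an exponent vector in `n` variables. -/
theorem exists_chi (ψ : IrrCharacter (Perm (Fin n))) :
    ∃ β : Exp n, Adm n β ∧ classInner (chi β) (ψ : Perm (Fin n) → ℂ) ≠ 0 := by
  by_contra! hcon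
  have hall : ∀ β : Exp n, classInner (chi β) (ψ : Perm (Fin n) → ℂ) = 0 := by
    intro β
    by_cases h : Adm n β
    · exact hcon β h
    · rw [chi_eq_zero h, classInner]; simp
  have hzero : ∀ a : Exp n, (∃ i, a i < 0) → (mono a : Perm (Fin n) → ℂ) = 0 := by
    rintro a ⟨i, hi⟩
    funext σ
    simp [mono, monoE_eq_zero_of_neg _ _ hi]
  have key : ∀ (K : ℕ) (a : Exp n), ((n : ℤ) * n - ∑ i : Fin n, ((i : ℕ) : ℤ) * a i).toNat ≤ K →
      classInner (mono a : Perm (Fin n) → ℂ) (ψ : Perm (Fin n) → ℂ) = 0 := by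
    intro K
    induction K using Nat.strong_induction_on with
    | _ K ih =>
    intro a hK
    by_cases hdeg : ∑ i, a i = n
    swap
    · have : (mono a : Perm (Fin n) → ℂ) = 0 := by
        funext σ
        simp only [mono, Pi.zero_apply, Int.cast_eq_zero]
        by_contra h
        exact hdeg (by rw [monoE_degree _ _ h, sum_orb, Fintype.card_fin])
      rw [this, classInner]; simp
    by_cases hneg : ∃ i, a i < 0
    · rw [hzero a hneg, classInner]; simp
    push Not at hneg
    have h := hall (a + permVec 1)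
    rw [chi_eq_sum, classInner_sum_left, Finset.sum_eq_single 1] at h
    · simpa using h
    · intro π _ hπ
      rw [classInner_smul_left]
      refine mul_eq_zero_of_right _ ?_
      set a' : Exp n := a + permVec 1 - permVec π with ha'
      by_cases hn' : ∃ i, a' i < 0
      · rw [hzero a' hn', classInner]; simp
      push Not at hn'
      have hsum' : ∑ i, a' i = n := by
        simp only [ha', Pi.sub_apply, Pi.add_apply, Finset.sum_sub_distrib, Finset.sum_add_distrib,
          permVec, Perm.one_apply, hdeg]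
        rw [Equiv.sum_comp π (fun i : Fin n => ((i : ℕ) : ℤ))]
        ring
      have hle : ∑ i : Fin n, ((i : ℕ) : ℤ) * a' i ≤ (n : ℤ) * n := by
        calc ∑ i : Fin n, ((i : ℕ) : ℤ) * a' i ≤ ∑ i : Fin n, (n : ℤ) * a' i :=
              Finset.sum_le_sum fun i _ => mul_le_mul_of_nonneg_right (by omega) (hn' i)
          _ = (n : ℤ) * n := by rw [← Finset.mul_sum, hsum']
      have hgt : ∑ i : Fin n, ((i : ℕ) : ℤ) * a i < ∑ i : Fin n, ((i : ℕ) : ℤ) * a' i := by
        obtain ⟨i₀, hi₀⟩ : ∃ i, π i ≠ i := by
          by_contra! hh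
          exact hπ (Equiv.ext hh)
        have h1 : 0 < ∑ i : Fin n, (((i : ℕ) : ℤ) - ((π i : ℕ) : ℤ)) ^ 2 := by
          refine Finset.sum_pos' (fun i _ => sq_nonneg _) ⟨i₀, Finset.mem_univ _, ?_⟩
          have : ((i₀ : ℕ) : ℤ) - ((π i₀ : ℕ) : ℤ) ≠ 0 := by
            intro e
            exact hi₀ (Fin.ext (by omega))
          positivity
        have h2 := Equiv.sum_comp π (fun i : Fin n => ((i : ℕ) : ℤ) ^ 2)
        simp only [sub_sq, Finset.sum_add_distrib, Finset.sum_sub_distrib, h2] at h1
        simp only [ha', Pi.sub_apply, Pi.add_apply, permVec, Perm.one_apply, mul_sub, mul_add,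
          Finset.sum_sub_distrib, Finset.sum_add_distrib]
        simp only [mul_assoc, ← Finset.mul_sum] at h1
        have h3 : ∑ i : Fin n, ((i : ℕ) : ℤ) ^ 2 = ∑ i : Fin n, ((i : ℕ) : ℤ) * ((i : ℕ) : ℤ) :=
          Finset.sum_congr rfl fun i _ => sq _
        linarith
      refine ih _ ?_ a' le_rfl
      omega
    · simp
  have h1 := key _ (fun _ => 1) le_rfl
  have h2 : ∀ σ : Perm (Fin n), σ ≠ 1 → mono (fun _ : Fin n => (1 : ℤ)) σ = 0 := by
    intro σ hσ
    rw [mono, monoE_orb, Int.cast_natCast, Nat.cast_eq_zero]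
    refine @Nat.card_of_isEmpty _ ⟨fun c => hσ (Equiv.ext fun x => ?_)⟩
    have hc : (Finset.univ.filter fun z => c.1 z = c.1 x).card = 1 := by
      have := c.2.1 (c.1 x)
      simp only [] at this
      exact_mod_cast this
    obtain ⟨y, hy⟩ := Finset.card_eq_one.1 hc
    have e1 : σ x ∈ ({y} : Finset (Fin n)) := by
      rw [← hy]
      simp only [Finset.mem_filter, Finset.mem_univ, true_and]
      exact congrFun c.2.2 x
    have e2 : x ∈ ({y} : Finset (Fin n)) := by rw [← hy]; simp
    rw [Finset.mem_singleton] at e1 e2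
    rw [Perm.one_apply, e1, e2]
  have h3 : mono (fun _ : Fin n => (1 : ℤ)) (1 : Perm (Fin n)) ≠ 0 := by
    rw [mono, monoE_orb, Int.cast_natCast, Nat.cast_ne_zero, Nat.card_ne_zero]
    exact ⟨⟨⟨id, fun i => by simp [Finset.filter_eq'], rfl⟩⟩, inferInstance⟩
  rw [classInner, Finset.sum_eq_single 1 (fun σ _ hσ => by rw [h2 σ hσ, zero_mul])
    (fun h => absurd (Finset.mem_univ _) h), mul_eq_zero, mul_eq_zero] at h1
  rcases h1 with h | h | h
  · simp at h
  · exact h3 h
  · exact irr_one_ne_zero ψ ((map_eq_zero _).1 h)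

theorem exists_rep (ψ : IrrCharacter (Perm (Fin n))) : ∃ β : Exp n, Adm n β ∧
    (chi β = (ψ : Perm (Fin n) → ℂ) ∨ chi β = -(ψ : Perm (Fin n) → ℂ)) := by
  obtain ⟨β, hβ, h⟩ := exists_chi ψ
  obtain ⟨φ, hφ⟩ := chi_irr hβ
  by_cases e : φ = ψ
  · exact ⟨β, hβ, e ▸ hφ⟩
  · refine absurd ?_ h
    have h0 : classInner (φ : Perm (Fin n) → ℂ) (ψ : Perm (Fin n) → ℂ) = 0 :=
      classInner_irr_ne φ.2 ψ.2 fun e' => e (Subtype.ext e')
    rcases hφ with hφ | hφ <;> rw [hφ]
    · exact h0
    · rw [show (-(φ : Perm (Fin n) → ℂ)) = (-1 : ℂ) • (φ : Perm (Fin n) → ℂ) by simp,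
        classInner_smul_left, h0, mul_zero]

end CfsgLib.SymBlocks
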