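import Cfsg.Agent.Lib.SymBlocks.Chars
import Mathlib.LinearAlgebra.Vandermonde
import Mathlib.RingTheory.Polynomial.Pochhammer
import Mathlib.Algebra.Polynomial.BigOperators

/-!
# The content polynomial

The generating function of a character of a symmetric group by the number of cycles is the degree
times the product of `t + content` over the cells.
-/

set_option autoImplicit false
set_option linter.unusedSectionVars false
set_option linter.unusedVariables false
set_option linter.unusedSimpArgs false

noncomputable section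

open scoped Classical

namespace CfsgLib.SymBlocks

open Equiv Polynomial

variable {N n : ℕ}

/-! ## The Vandermonde product -/

/-- The Vandermonde determinant of natural numbers. -/
def vand (b : Fin N → ℕ) : ℚ := (Matrix.vandermonde fun i => (b i : ℚ)).det

theorem descPochhammer_eq_prod (k : ℕ) :
    descPochhammer ℚ k = ∏ x ∈ Finset.range k, (X - C (x : ℚ)) := by
  induction k with
  | zero => simp
  | succ k ih => rw [descPochhammer_succ_right, Finset.prod_range_succ, ih, map_natCast]

theorem mul_sum_range_descFactorial (j b : ℕ) :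
    (j + 1) * ∑ x ∈ Finset.range b, x.descFactorial j = b.descFactorial (j + 1) := by
  induction b with
  | zero => simp
  | succ b ih =>
    rw [Finset.sum_range_succ, mul_add, ih, Nat.succ_descFactorial_succ, Nat.descFactorial_succ,
      ← add_mul]
    rcases le_or_gt j b with h | h
    · rw [show b - j + (j + 1) = b + 1 by omega]
    · rw [Nat.descFactorial_eq_zero_iff_lt.2 h, mul_zero, mul_zero]

theorem sum_vand_update (b : Fin N → ℕ) :
    (N : ℚ) * ∑ i, ∑ x ∈ Finset.range (b i), vand (Function.update b i x) =
      (∑ i, (b i : ℚ) - (baseDeg N : ℚ)) * vand b := by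
  cases N with
  | zero => simp [baseDeg]
  | succ K =>
  set A : (Fin (K + 1) → ℕ) → Matrix (Fin (K + 1)) (Fin (K + 1)) ℚ :=
    fun c => Matrix.of fun i j => (descPochhammer ℚ (j : ℕ)).eval (c i : ℚ) with hA
  have hvand : ∀ c, vand c = (A c).det := fun c =>
    Matrix.det_eval_matrixOfPolynomials_eq_det_vandermonde _ _
      (fun j => descPochhammer_natDegree (R := ℚ) _) (fun j => monic_descPochhammer ℚ _)
  have hupd : ∀ i x, A (Function.update b i x) =
      (A b).updateRow i fun j => (x.descFactorial (j : ℕ) : ℚ) := by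
    intro i x
    ext r j
    simp only [hA, Matrix.of_apply, Matrix.updateRow_apply, Function.update_apply]
    split_ifs with h
    · exact descPochhammer_eval_eq_descFactorial ℚ x _
    · rfl
  have hrow : ∀ (i : Fin (K + 1)) s, ((A b).updateRow i s).det =
      ∑ j, (A b).adjugate j i * s j := by
    intro i s
    rw [← Matrix.cramer_transpose_apply, Matrix.cramer_eq_adjugate_mulVec,
      ← Matrix.adjugate_transpose]
    rfl
  have hcol : ∀ (j : Fin (K + 1)) c, ((A b).updateCol j c).det =
      ∑ i, (A b).adjugate j i * c i := by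
    intro j c
    rw [← Matrix.cramer_apply, Matrix.cramer_eq_adjugate_mulVec]
    rfl
  have h1 : ∑ i, ∑ x ∈ Finset.range (b i), vand (Function.update b i x) =
      ∑ j : Fin (K + 1), (((j : ℕ) + 1 : ℕ) : ℚ)⁻¹ *
        ((A b).updateCol j fun i => ((b i).descFactorial ((j : ℕ) + 1) : ℚ)).det := by
    simp only [hvand, hupd, hrow, hcol, Finset.mul_sum]
    rw [Finset.sum_congr rfl fun i _ => Finset.sum_comm, Finset.sum_comm]
    refine Finset.sum_congr rfl fun j _ => Finset.sum_congr rfl fun i _ => ?_
    rw [← Finset.mul_sum, ← mul_sum_range_descFactorial]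
    push_cast
    field_simp
  have h2 : ∀ j : Fin (K + 1), j ≠ Fin.last K →
      ((A b).updateCol j fun i => ((b i).descFactorial ((j : ℕ) + 1) : ℚ)).det = 0 := by
    intro j hj
    have hlt : (j : ℕ) + 1 < K + 1 := by
      have := Fin.val_lt_last hj
      omega
    have hne : j ≠ (⟨(j : ℕ) + 1, hlt⟩ : Fin (K + 1)) := fun h => by
      have := congrArg Fin.val h
      simp at this
    refine Matrix.det_zero_of_column_eq hne fun i => ?_
    rw [Matrix.updateCol_self, Matrix.updateCol_ne hne.symm]
    exact (descPochhammer_eval_eq_descFactorial ℚ (b i) _).symm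
  rw [h1, Finset.sum_eq_single (Fin.last K) (fun j _ hj => by rw [h2 j hj, mul_zero]) (by simp)]
  set c : ℚ := ∑ i, (b i : ℚ) - (baseDeg (K + 1) : ℚ) with hc
  set Q : ℚ[X] := descPochhammer ℚ (K + 1) - ∏ i, (X - C (b i : ℚ)) +
    C (1 - c) * descPochhammer ℚ K with hQ
  have hd1 : ∀ k, (descPochhammer ℚ k).natDegree = k := fun k => descPochhammer_natDegree (R := ℚ) k
  have hm1 : ∀ k, (descPochhammer ℚ k).Monic := fun k => monic_descPochhammer ℚ k
  have hd2 : (∏ i, (X - C (b i : ℚ))).natDegree = K + 1 := by
    rw [natDegree_prod_of_monic _ _ fun i _ => monic_X_sub_C _]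
    simp only [natDegree_X_sub_C]
    simp
  have hm2 : (∏ i, (X - C (b i : ℚ))).Monic := monic_prod_of_monic _ _ fun i _ => monic_X_sub_C _
  have hdeg : Q.natDegree ≤ K := by
    rw [natDegree_le_iff_coeff_eq_zero]
    intro m hm
    have e0 : (descPochhammer ℚ K).coeff m = 0 :=
      coeff_eq_zero_of_natDegree_lt (by rw [hd1]; omega)
    rw [hQ, coeff_add, coeff_sub, coeff_C_mul, e0, mul_zero, add_zero]
    rcases eq_or_lt_of_le (show K + 1 ≤ m by omega) with h | h
    · subst h
      have e1 : (descPochhammer ℚ (K + 1)).coeff (K + 1) = 1 := by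
        have := (hm1 (K + 1)).coeff_natDegree
        rwa [hd1] at this
      have e2 := hm2.coeff_natDegree
      rw [hd2] at e2
      rw [e1, e2, sub_self]
    · rw [coeff_eq_zero_of_natDegree_lt (by rw [hd1]; omega),
        coeff_eq_zero_of_natDegree_lt (by rw [hd2]; omega), sub_self]
  have hcK : Q.coeff K = 1 := by
    have e1 : (descPochhammer ℚ (K + 1)).coeff K = - (baseDeg (K + 1) : ℚ) := by
      rw [descPochhammer_eq_prod]
      have := prod_X_sub_C_coeff_card_pred (Finset.range (K + 1)) (fun x : ℕ => (x : ℚ)) (by simp)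
      rw [Finset.card_range, Nat.add_sub_cancel] at this
      rw [this, baseDeg, Int.cast_sum, ← Fin.sum_univ_eq_sum_range (fun x => (x : ℚ))]
      simp
    have e2 : (∏ i, (X - C (b i : ℚ))).coeff K = - ∑ i, (b i : ℚ) := by
      have := prod_X_sub_C_coeff_card_pred (Finset.univ : Finset (Fin (K + 1)))
        (fun i => (b i : ℚ)) (by simp)
      rwa [Finset.card_univ, Fintype.card_fin, Nat.add_sub_cancel] at this
    have e3 : (descPochhammer ℚ K).coeff K = 1 := by
      have := (hm1 K).coeff_natDegree
      rwa [hd1] at this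
    rw [hQ, coeff_add, coeff_sub, coeff_C_mul, e1, e2, e3, hc]
    ring
  have hdet : ((A b).updateCol (Fin.last K) fun i => Q.eval (b i : ℚ)).det = vand b := by
    rw [vand, Matrix.det_eval_matrixOfPolynomials_eq_det_vandermonde (fun i => (b i : ℚ))
      (fun j : Fin (K + 1) => if j = Fin.last K then Q else descPochhammer ℚ (j : ℕ))]
    · congr 1
      ext i j
      simp only [Matrix.updateCol_apply, Matrix.of_apply]
      split_ifs <;> rfl
    · intro j
      split_ifs with h
      · subst h
        rw [Fin.val_last]
        exact natDegree_eq_of_le_of_coeff_ne_zero hdeg (by rw [hcK]; exact one_ne_zero)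
      · exact hd1 _
    · intro j
      split_ifs with h
      · exact monic_of_natDegree_le_of_coeff_eq_one K hdeg hcK
      · exact hm1 _
  have hQev : (fun i => Q.eval (b i : ℚ)) =
      (fun i => ((b i).descFactorial (K + 1) : ℚ)) +
        (1 - c) • fun i => (A b) i (Fin.last K) := by
    funext i
    simp only [hQ, hA, eval_add, eval_sub, eval_mul, eval_C, eval_prod, eval_X, Pi.add_apply,
      Pi.smul_apply, smul_eq_mul, Matrix.of_apply, Fin.val_last,
      descPochhammer_eval_eq_descFactorial]
    rw [Finset.prod_eq_zero (Finset.mem_univ i) (sub_self _), sub_zero]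
  rw [hQev, Matrix.det_updateCol_add, Matrix.det_updateCol_smul,
    Matrix.updateCol_eq_self, ← hvand] at hdet
  simp only [Fin.val_last]
  rw [← mul_assoc, mul_inv_cancel₀ (by positivity), one_mul]
  linarith

/-- The natural numbers as integer exponents. -/
def castExp (b : Fin N → ℕ) : Exp N := fun i => (b i : ℤ)

theorem vand_eq_zero {b : Fin N → ℕ} (h : ¬ Function.Injective b) : vand b = 0 := by
  by_contra hne
  exact h fun i j hij => Matrix.det_vandermonde_ne_zero_iff.1 hne (congrArg (Nat.cast : ℕ → ℚ) hij)

theorem perSum_phi_pow (n : ℕ) : ∀ b : Fin N → ℕ, (∑ i, (b i : ℤ) = n + baseDeg N) →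
    ((perSum n (fun L => phi L (castExp b) * (N : ℤ) ^ Multiset.card L) : ℤ) : ℚ) *
      vand (fun i : Fin N => (i : ℕ)) = (n.factorial : ℚ) * vand b := by
  induction n using Nat.strong_induction_on with
  | _ n ih =>
  intro b hb
  cases n with
  | zero =>
    rw [perSum_zero, phi_zero, Multiset.card_zero, pow_zero, mul_one, Nat.factorial_zero,
      Nat.cast_one, one_mul]
    by_cases hinj : Function.Injective b
    · obtain ⟨π, hπ⟩ := exists_permVec (castExp b)
        (fun i j h => hinj (Int.ofNat.inj h)) (fun i => Int.natCast_nonneg _)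
        (by simpa [castExp] using hb)
      rw [hπ, altDelta_permVec]
      have hbπ : b = fun i => ((π i : Fin N) : ℕ) := funext fun i => by
        have := congrFun hπ i
        simp only [castExp, permVec, Nat.cast_inj] at this
        exact this
      rw [hbπ, vand, vand]
      exact (Matrix.det_permute π (Matrix.vandermonde fun i : Fin N => ((i : ℕ) : ℚ))).symm
    · have e0 : altDelta (castExp b) = 0 := antiSym_altDelta.eq_zero fun h =>
        hinj fun i j hij => h (congrArg (Nat.cast : ℕ → ℤ) hij)
      rw [vand_eq_zero hinj, e0]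
      simp
  | succ n =>
    have hterm : ∀ m ∈ Finset.range (n + 1),
        (((n.descFactorial m : ℤ) * perSum (n - m) (fun L => phi ((m + 1) ::ₘ L) (castExp b) *
          (N : ℤ) ^ Multiset.card ((m + 1) ::ₘ L)) : ℤ) : ℚ) *
          vand (fun i : Fin N => (i : ℕ)) =
        (n.factorial : ℚ) * N * ∑ i, if m < b i then vand (Function.update b i (b i - (m + 1)))
          else 0 := by
      intro m hm
      have hm' : m ≤ n := Nat.lt_succ_iff.1 (Finset.mem_range.1 hm)
      simp only [perSum, phi_cons, Multiset.card_cons, pow_succ, Finset.sum_mul]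
      rw [Finset.sum_comm]
      push_cast
      simp only [Finset.mul_sum, Finset.sum_mul]
      refine Finset.sum_congr rfl fun i _ => ?_
      by_cases hi : m < b i
      · rw [if_pos hi]
        have e : castExp b - Pi.single i (((m + 1 : ℕ)) : ℤ) =
            castExp (Function.update b i (b i - (m + 1))) := by
          funext x
          simp only [castExp, Pi.sub_apply, Pi.single_apply, Function.update_apply]
          split_ifs with h <;> subst_vars <;> omega
        have hs : ∑ x, ((Function.update b i (b i - (m + 1)) x : ℕ) : ℤ) =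
            ((n - m : ℕ) : ℤ) + baseDeg N := by
          have h := congrArg (fun f : Exp N => ∑ x, f x) e
          simp only [castExp, Pi.sub_apply, Finset.sum_sub_distrib, Finset.sum_pi_single',
            Finset.mem_univ, if_true, hb] at h
          rw [← h]
          push_cast [Nat.cast_sub hm']
          ring
        have := ih (n - m) (by omega) _ hs
        rw [perSum, ← e] at this
        push_cast at this
        rw [Finset.sum_mul] at this
        have hfac : ((n - m).factorial : ℚ) * n.descFactorial m = n.factorial := by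
          exact_mod_cast Nat.factorial_mul_descFactorial hm'
        rw [← hfac]
        calc _ = (n.descFactorial m : ℚ) * N *
              ∑ σ : Perm (Fin (n - m)), (phi (orb σ) (castExp b - Pi.single i ((m : ℤ) + 1)) : ℚ) *
                (N : ℚ) ^ Multiset.card (orb σ) * vand (fun i : Fin N => (i : ℕ)) := by
              rw [Finset.mul_sum]
              exact Finset.sum_congr rfl fun σ _ => by ring
          _ = _ := by rw [this]; ring
      · rw [if_neg hi, mul_zero]
        refine Finset.sum_eq_zero fun σ _ => ?_
        rw [phi_eq_zero_of_neg _ _ (i := i)]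
        · simp
        · simp [castExp]
          omega
    rw [perSum_recursion, Int.cast_sum, Finset.sum_mul, Finset.sum_congr rfl hterm,
      ← Finset.mul_sum]
    have hswap : ∑ m ∈ Finset.range (n + 1), ∑ i : Fin N,
        (if m < b i then vand (Function.update b i (b i - (m + 1))) else 0) =
        ∑ i, ∑ x ∈ Finset.range (b i), vand (Function.update b i x) := by
      rw [Finset.sum_comm]
      refine Finset.sum_congr rfl fun i _ => ?_
      rw [← Finset.sum_range_reflect (fun x => vand (Function.update b i x)), ← Finset.sum_filter]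
      refine Finset.sum_subset_zero_on_sdiff (fun m hm => ?_) (fun m hm => ?_) fun m _ => ?_
      · exact Finset.mem_range.2 (Finset.mem_filter.1 hm).2
      · simp only [Finset.mem_sdiff, Finset.mem_range, Finset.mem_filter, not_and] at hm
        refine vand_eq_zero fun hinj => ?_
        have hle := baseDeg_le (castExp (Function.update b i (b i - 1 - m)))
          (fun x y h => hinj (Int.ofNat.inj h)) (fun x => Int.natCast_nonneg _)
        have hu : castExp (Function.update b i (b i - 1 - m)) =
            castExp b - Pi.single i (((m + 1 : ℕ)) : ℤ) := by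
          funext x
          simp only [castExp, Pi.sub_apply, Pi.single_apply, Function.update_apply]
          split_ifs with h <;> subst_vars <;> omega
        rw [hu] at hle
        simp only [castExp, Pi.sub_apply, Finset.sum_sub_distrib, Finset.sum_pi_single',
          Finset.mem_univ, if_true, hb] at hle
        have : ¬ m < n + 1 := fun h => hm.2 h hm.1
        push_cast at hle
        omega
      · rw [Nat.sub_sub, Nat.add_comm 1 m]
    rw [hswap, mul_assoc, sum_vand_update, Nat.factorial_succ]
    have hbQ : ∑ i, (b i : ℚ) = ((n + 1 : ℕ) : ℚ) + (baseDeg N : ℚ) := by exact_mod_cast hb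
    rw [hbQ]
    push_cast
    ring

/-! ## The normalised Vandermonde product -/

/-- One more bead at the bottom. -/
def shiftNat (b : Fin N → ℕ) : Fin (N + 1) → ℕ := Fin.cons 0 fun i => b i + 1

theorem castExp_shiftNat (b : Fin N → ℕ) : castExp (shiftNat b) = shiftUp (castExp b) := by
  funext i
  induction i using Fin.cases <;> simp [castExp, shiftNat, shiftUp]

theorem vand_shiftNat (b : Fin N → ℕ) : vand (shiftNat b) = vand b * ∏ i, ((b i : ℚ) + 1) := by
  rw [vand, vand, Matrix.det_vandermonde, Matrix.det_vandermonde, Fin.prod_univ_succ,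
    Fin.prod_Ioi_zero, mul_comm]
  congr 1
  · refine Finset.prod_congr rfl fun i _ => ?_
    rw [Fin.prod_Ioi_succ]
    refine Finset.prod_congr rfl fun j _ => ?_
    simp [shiftNat]
  · simp [shiftNat]

/-- The Vandermonde product divided by the product of the factorials. -/
def hookQuot (b : Fin N → ℕ) : ℚ := vand b / ∏ i, ((b i).factorial : ℚ)

theorem hookQuot_shiftNat (b : Fin N → ℕ) : hookQuot (shiftNat b) = hookQuot b := by
  rw [hookQuot, hookQuot, vand_shiftNat, Fin.prod_univ_succ (fun i => ((shiftNat b i).factorial : ℚ))]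
  simp only [shiftNat, Fin.cons_zero, Fin.cons_succ, Nat.factorial_zero, Nat.cast_one, one_mul,
    Nat.factorial_succ, Nat.cast_mul, Finset.prod_mul_distrib]
  push_cast
  rw [mul_comm (∏ i, ((b i : ℚ) + 1)),
    mul_div_mul_right _ _ (Finset.prod_ne_zero_iff.2 fun i _ => by positivity)]

theorem vand_id : ∀ N : ℕ,
    vand (fun i : Fin N => (i : ℕ)) = ∏ i : Fin N, ((i : ℕ).factorial : ℚ)
  | 0 => by simp [vand]
  | N + 1 => by
    have e : (fun i : Fin (N + 1) => (i : ℕ)) = shiftNat (fun i : Fin N => (i : ℕ)) := by
      funext i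
      induction i using Fin.cases <;> simp [shiftNat]
    rw [e, vand_shiftNat, vand_id N,
      Fin.prod_univ_succ (fun i : Fin (N + 1) => ((i : ℕ).factorial : ℚ)), Fin.val_zero,
      Nat.factorial_zero, Nat.cast_one, one_mul, ← Finset.prod_mul_distrib]
    refine Finset.prod_congr rfl fun i _ => ?_
    rw [Fin.val_succ, Nat.factorial_succ]
    push_cast
    ring

theorem prod_Ioc_cast {i b : ℕ} (h : i ≤ b) :
    (∏ x ∈ Finset.Ioc (i : ℤ) (b : ℤ), (x : ℚ)) * (i.factorial : ℚ) = (b.factorial : ℚ) := by
  induction b, h using Nat.le_induction with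
  | base => simp
  | succ b hb ih =>
    have e : Finset.Ioc (i : ℤ) ((b + 1 : ℕ) : ℤ) =
        insert ((b + 1 : ℕ) : ℤ) (Finset.Ioc (i : ℤ) (b : ℤ)) := by
      ext x
      simp only [Finset.mem_Ioc, Finset.mem_insert]
      omega
    rw [e, Finset.prod_insert (by simp), mul_assoc, ih, Nat.factorial_succ]
    push_cast
    ring

/-! ## The identity -/

/-- The generating function of a character by the number of cycles. -/
def contentPoly (n : ℕ) (β : Exp N) : ℤ[X] :=
  ∑ σ : Perm (Fin n), C (phi (orb σ) β) * X ^ Multiset.card (orb σ)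

/-- The product of `X + content` over the cells. -/
def rootPoly (β : Exp N) : ℤ[X] :=
  ∏ i : Fin N, ∏ x ∈ Finset.Ioc ((i : ℕ) : ℤ) (β i), (X + C (x - (N : ℤ)))

theorem contentPoly_shiftUp (β : Exp N) : contentPoly n (shiftUp β) = contentPoly n β := by
  refine Finset.sum_congr rfl fun σ _ => ?_
  rw [phi_shiftUp _ (fun m hm => pos_of_mem_orb hm)]

theorem rootPoly_shiftUp (β : Exp N) : rootPoly (shiftUp β) = rootPoly β := by
  rw [rootPoly, Fin.prod_univ_succ]
  have h0 : Finset.Ioc (((0 : Fin (N + 1)) : ℕ) : ℤ) (shiftUp β 0) = ∅ := by simp [shiftUp]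
  rw [h0, Finset.prod_empty, one_mul]
  refine Finset.prod_congr rfl fun i _ => ?_
  refine Finset.prod_nbij' (fun x => x - 1) (fun x => x + 1) ?_ ?_ ?_ ?_ ?_
  · intro x hx
    simp [shiftUp] at hx ⊢
    omega
  · intro x hx
    simp [shiftUp] at hx ⊢
    omega
  · intro x _
    simp
  · intro x _
    simp
  · intro x _
    congr 2
    push_cast
    ring

theorem eval_contentPoly_aux : ∀ (k N : ℕ) (b : Fin N → ℕ),
    (∑ i, (b i : ℤ) = n + baseDeg N) → (∀ i : Fin N, (i : ℕ) ≤ b i) →
    (((contentPoly n (castExp b)).eval (((N + k : ℕ)) : ℤ) : ℤ) : ℚ) =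
      (n.factorial : ℚ) * hookQuot b *
        (((rootPoly (castExp b)).eval (((N + k : ℕ)) : ℤ) : ℤ) : ℚ) := by
  intro k
  induction k with
  | zero =>
    intro N b hdeg hle
    have h := perSum_phi_pow n b hdeg
    rw [vand_id] at h
    have e1 : (contentPoly n (castExp b)).eval (((N + 0 : ℕ)) : ℤ) =
        perSum n (fun L => phi L (castExp b) * (N : ℤ) ^ Multiset.card L) := by
      simp [contentPoly, perSum, eval_finsetSum]
    have e2 : (((rootPoly (castExp b)).eval (((N + 0 : ℕ)) : ℤ) : ℤ) : ℚ) *
        (∏ i : Fin N, ((i : ℕ).factorial : ℚ)) = ∏ i, ((b i).factorial : ℚ) := by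
      simp only [rootPoly, eval_prod, eval_add, eval_X, eval_C, add_zero, Int.cast_prod,
        add_sub_cancel, castExp]
      rw [← Finset.prod_mul_distrib]
      exact Finset.prod_congr rfl fun i _ => prod_Ioc_cast (hle i)
    have h0 : (∏ i : Fin N, ((i : ℕ).factorial : ℚ)) ≠ 0 :=
      Finset.prod_ne_zero_iff.2 fun i _ => by positivity
    have h1 : (∏ i, ((b i).factorial : ℚ)) ≠ 0 :=
      Finset.prod_ne_zero_iff.2 fun i _ => by positivity
    rw [e1]
    refine mul_right_cancel₀ h0 ?_
    rw [h, mul_assoc, e2, hookQuot, mul_assoc, div_mul_cancel₀ _ h1]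
  | succ k ih =>
    intro N b hdeg hle
    have hdeg' : ∑ i, (shiftNat b i : ℤ) = (n : ℤ) + baseDeg (N + 1) := by
      simp only [baseDeg, Fin.sum_univ_succ, shiftNat, Fin.cons_zero, Fin.cons_succ, Fin.val_zero,
        Fin.val_succ, Nat.cast_add, Finset.sum_add_distrib] at hdeg ⊢
      push_cast
      linarith
    have hle' : ∀ i : Fin (N + 1), (i : ℕ) ≤ shiftNat b i := by
      intro i
      induction i using Fin.cases with
      | zero => simp
      | succ i => simp [shiftNat, hle i]
    have := ih (N + 1) (shiftNat b) hdeg' hle'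
    rw [castExp_shiftNat, contentPoly_shiftUp, rootPoly_shiftUp, hookQuot_shiftNat,
      show N + 1 + k = N + (k + 1) by omega] at this
    exact this

theorem monic_rootPoly (β : Exp N) : (rootPoly β).Monic :=
  monic_prod_of_monic _ _ fun i _ => monic_prod_of_monic _ _ fun x _ => monic_X_add_C _

theorem natDegree_rootPoly {β : Exp N} (hle : ∀ i : Fin N, ((i : ℕ) : ℤ) ≤ β i)
    (hdeg : ∑ i, β i = n + baseDeg N) : (rootPoly β).natDegree = n := by
  rw [rootPoly, natDegree_prod_of_monic _ _
    fun i _ => monic_prod_of_monic _ _ fun x _ => monic_X_add_C _]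
  have e : ∀ i : Fin N, ((∏ x ∈ Finset.Ioc ((i : ℕ) : ℤ) (β i),
      (X + C (x - (N : ℤ)))).natDegree : ℤ) = β i - (i : ℕ) := by
    intro i
    rw [natDegree_prod_of_monic _ _ fun x _ => monic_X_add_C _]
    have := hle i
    simp only [natDegree_X_add_C]
    simp
    omega
  have h2 : ((∑ i : Fin N, (∏ x ∈ Finset.Ioc ((i : ℕ) : ℤ) (β i),
      (X + C (x - (N : ℤ)))).natDegree : ℕ) : ℤ) = (n : ℤ) := by
    push_cast
    rw [Finset.sum_congr rfl fun i _ => e i, Finset.sum_sub_distrib, hdeg, baseDeg]
    ring
  exact_mod_cast h2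

/-- The content formula. -/
theorem contentPoly_eq {β : Exp N} (hle : ∀ i : Fin N, ((i : ℕ) : ℤ) ≤ β i)
    (hdeg : ∑ i, β i = n + baseDeg N) :
    contentPoly n β = C (phi (orb (1 : Perm (Fin n))) β) * rootPoly β := by
  obtain ⟨b, rfl⟩ : ∃ b : Fin N → ℕ, β = castExp b :=
    ⟨fun i => (β i).toNat, funext fun i => (Int.toNat_of_nonneg
      ((Int.natCast_nonneg _).trans (hle i))).symm⟩
  set K : ℚ := (n.factorial : ℚ) * hookQuot b with hK
  have hQ : (contentPoly n (castExp b)).map (Int.castRingHom ℚ) =
      C K * (rootPoly (castExp b)).map (Int.castRingHom ℚ) := by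
    refine eq_of_infinite_eval_eq _ _ ((Set.infinite_range_of_injective
      (f := fun k : ℕ => (((N + k : ℕ) : ℤ) : ℚ)) fun x y h => by simpa using h).mono ?_)
    rintro _ ⟨k, rfl⟩
    have := eval_contentPoly_aux (n := n) k N b hdeg fun i => by
      have := hle i
      simpa [castExp] using this
    rw [Set.mem_ofPred_eq, eval_mul, eval_C, Polynomial.eval_intCast_map,
      Polynomial.eval_intCast_map, eq_intCast, eq_intCast]
    exact this
  have hK' : K = ((phi (orb (1 : Perm (Fin n))) (castExp b) : ℤ) : ℚ) := by
    have h := congrArg (fun P : ℚ[X] => P.coeff n) hQ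
    simp only [coeff_map, coeff_C_mul, eq_intCast] at h
    have hc := (monic_rootPoly (castExp b)).coeff_natDegree
    rw [natDegree_rootPoly hle hdeg] at hc
    have e : (contentPoly n (castExp b)).coeff n = phi (orb (1 : Perm (Fin n))) (castExp b) := by
      simp only [contentPoly, finsetSum_coeff, coeff_C_mul, coeff_X_pow, mul_ite, mul_one,
        mul_zero]
      rw [Finset.sum_eq_single 1]
      · rw [if_pos]
        rw [(card_orb_eq_iff (1 : Perm (Fin n))).2 rfl, Fintype.card_fin]
      · intro σ _ hσ
        rw [if_neg]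
        intro h'
        exact hσ ((card_orb_eq_iff σ).1 (by rw [← h', Fintype.card_fin]))
      · simp
    rw [e, hc] at h
    simpa using h.symm
  refine Polynomial.map_injective (Int.castRingHom ℚ) Int.cast_injective ?_
  rw [hQ, hK', Polynomial.map_mul, Polynomial.map_C, eq_intCast]

end CfsgLib.SymBlocks
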