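import Cfsg.Agent.Lib.SymBlocks.Witness
import Cfsg.Agent.Lib.SymBlocks.AltMain
import Cfsg.Agent.Lib.Blocks.InflateBlocks
import Cfsg.Agent.Lib.CharCorr.Basic

/-!
# The block of a core

The central characters of a character of weight `v` are congruent, at regular elements, to those
of its core on the points fixed by the product of `v` cycles.  In particular the residue counts
determine the block.
-/

set_option autoImplicit false

noncomputable section

open scoped Classical ComplexConjugate

namespace CfsgLib.SymBlocks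

open Equiv Cfsg CfsgLib.Blocks CfsgLib.Characters CfsgLib.CharCorr

variable {n p : ℕ} {M : Ideal AlgInt}

/-- The orbits of a sum of two permutations. -/
theorem orb_sumCongr {α β : Type*} [Fintype α] [Fintype β] (a : Perm α) (b : Perm β) :
    orb (Perm.sumCongr a b) = orb a + orb b := by
  have hpow : ∀ (k : ℤ) (z : α ⊕ β),
      ((Perm.sumCongr a b) ^ k) z = Sum.map (a ^ k) (b ^ k) z := by
    intro k z
    have h := map_zpow (Perm.sumCongrHom α β) (a, b) k
    simp only [Perm.sumCongrHom_apply, Prod.pow_fst, Prod.pow_snd] at h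
    rw [← h]
    rfl
  rw [orb_of_label (Perm.sumCongr a b)
    (Sum.map (Quotient.mk (Perm.SameCycle.setoid a)) (Quotient.mk (Perm.SameCycle.setoid b)))
    (fun q => by
      rcases q with q | q <;> induction q using Quotient.inductionOn with
      | h x => first | exact ⟨Sum.inl x, rfl⟩ | exact ⟨Sum.inr x, rfl⟩)
    fun x y => ?_]
  · rw [show (Finset.univ : Finset (Orbits a ⊕ Orbits b)).val =
        (Finset.univ : Finset (Orbits a)).val.disjSum (Finset.univ : Finset (Orbits b)).val from rfl,
      Multiset.disjSum, Multiset.map_add, Multiset.map_map, Multiset.map_map, orb, orb]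
    congr 1 <;> refine Multiset.map_congr rfl fun o _ => ?_
    · refine Finset.card_bij' (fun z h => z.elim id fun _ => o.out) (fun x _ => Sum.inl x)
        ?_ ?_ ?_ ?_
      all_goals intro z hz
      all_goals first
        | (rcases z with z | z <;> simp_all)
        | simp_all
    · refine Finset.card_bij' (fun z h => z.elim (fun _ => o.out) id) (fun x _ => Sum.inr x)
        ?_ ?_ ?_ ?_
      all_goals intro z hz
      all_goals first
        | (rcases z with z | z <;> simp_all)
        | simp_all
  · constructor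
    · intro h
      rcases x with x | x <;> rcases y with y | y
      · obtain ⟨k, hk⟩ := Quotient.exact (Sum.inl.inj h)
        exact ⟨k, by rw [hpow]; simp [hk]⟩
      · simp at h
      · simp at h
      · obtain ⟨k, hk⟩ := Quotient.exact (Sum.inr.inj h)
        exact ⟨k, by rw [hpow]; simp [hk]⟩
    · rintro ⟨k, hk⟩
      rw [hpow] at hk
      subst hk
      rcases x with x | x
      · exact congrArg Sum.inl (Quotient.sound ⟨k, rfl⟩)
      · exact congrArg Sum.inr (Quotient.sound ⟨k, rfl⟩)

/-- A permutation of the fixed points. -/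
def fixHom {v r : ℕ} (e : Pts v p r ≃ Fin n) : Perm (Fin r) →* Perm (Fin n) :=
  ((e.permCongrHom : Perm (Pts v p r) ≃* Perm (Fin n)).toMonoidHom.comp
    (Perm.sumCongrHom (Fin v × ZMod p) (Fin r))).comp (MonoidHom.inr _ _)

theorem fixHom_apply {v r : ℕ} (e : Pts v p r ≃ Fin n) (s : Perm (Fin r)) :
    fixHom e s = e.permCongr (Perm.sumCongr 1 s) := rfl

theorem fixHom_injective {v r : ℕ} (e : Pts v p r ≃ Fin n) : Function.Injective (fixHom e) :=
  fun a b h => by
    have h1 : Perm.sumCongrHom (Fin v × ZMod p) (Fin r) (1, a) =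
        Perm.sumCongrHom (Fin v × ZMod p) (Fin r) (1, b) := e.permCongr.injective h
    exact congrArg Prod.snd (Perm.sumCongrHom_injective h1)

theorem orb_cyc_mul_fixHom [Fact p.Prime] {v r : ℕ} (e : Pts v p r ≃ Fin n) (s : Perm (Fin r)) :
    orb (e.permCongr (baseCyc v p r) * fixHom e s) = Multiset.replicate v p + orb s := by
  let c : Perm (Fin v × ZMod p) :=
    { toFun := fun z => (z.1, z.2 + 1)
      invFun := fun z => (z.1, z.2 - 1)
      left_inv := fun z => by simp
      right_inv := fun z => by simp }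
  have hc : baseCyc v p r = Perm.sumCongr c 1 := Equiv.ext fun z => by
    rcases z with ⟨i, a⟩ | j
    · rw [baseCyc, transHom_inl]; rfl
    · rw [baseCyc, transHom_inr]; rfl
  have h := orb_baseCyc (p := p) v r
  rw [hc, orb_sumCongr, orb_one, Fintype.card_fin] at h
  rw [fixHom_apply, hc, ← permCongrHom_coe, ← map_mul, permCongrHom_coe, orb_permCongr,
    Perm.sumCongr_mul, one_mul, mul_one, orb_sumCongr, add_right_cancel h]

/-- Commuting with all the translations. -/
theorem eq_of_commute_trans [Fact p.Prime] {v r : ℕ} {σ : Perm (Pts v p r)}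
    (h : ∀ t, Commute σ (transHom v p r t)) :
    ∃ t s, σ = transHom v p r t * Perm.sumCongr 1 s := by
  haveI : Fact (1 < p) := ⟨(Fact.out : p.Prime).one_lt⟩
  let u : Fin v → Multiplicative (Fin v → ZMod p) := fun i =>
    Multiplicative.ofAdd (Pi.single i 1)
  have hmove : ∀ i a, transHom v p r (u i) (Sum.inl (i, a)) = Sum.inl (i, a + 1) := fun i a => by
    rw [transHom_inl]; simp [u]
  have hcomm : ∀ t z, σ (transHom v p r t z) = transHom v p r t (σ z) := fun t z => by
    rw [← Perm.mul_apply, (h t).eq, Perm.mul_apply]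
  have hne : ∀ i a, (Sum.inl (i, a + 1) : Pts v p r) ≠ Sum.inl (i, a) := fun i a => by simp
  have hinl : ∀ i a, ∃ b, σ (Sum.inl (i, a)) = Sum.inl (i, b) := by
    intro i a
    rcases hz : σ (Sum.inl (i, a)) with ⟨i', b⟩ | j
    · by_cases hii : i' = i
      · exact ⟨b, by rw [hii]⟩
      refine absurd (σ.injective ?_) (hne i a)
      rw [← hmove, hcomm, hz, transHom_inl]
      simp [u, hii]
    · refine absurd (σ.injective ?_) (hne i a)
      rw [← hmove, hcomm, hz, transHom_inr]
  choose f hf using hinl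
  have hinr : ∀ j, ∃ j', σ (Sum.inr j) = Sum.inr j' := by
    intro j
    rcases hz : σ (Sum.inr j) with ⟨i, b⟩ | j'
    · exfalso
      have h1 := hcomm (u i) (Sum.inr j)
      rw [transHom_inr, hz, hmove] at h1
      exact hne i b h1.symm
    · exact ⟨j', rfl⟩
  choose g hg using hinr
  have hgb : Function.Bijective g := Finite.injective_iff_bijective.1 fun a b hab =>
    Sum.inr_injective (σ.injective (by rw [hg, hg, hab]))
  refine ⟨Multiplicative.ofAdd fun i => f i 0, Equiv.ofBijective g hgb, Equiv.ext fun z => ?_⟩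
  rcases z with ⟨i, a⟩ | j
  · have h1 := hcomm (Multiplicative.ofAdd fun _ => a) (Sum.inl (i, 0))
    rw [transHom_inl, hf, hf, transHom_inl] at h1
    simp only [toAdd_ofAdd, zero_add] at h1
    rw [hf, h1]
    show _ = transHom v p r _ (Sum.inl (i, a))
    rw [transHom_inl]
    simp [add_comm]
  · rw [hg, Perm.mul_apply, Perm.sumCongr_apply, Sum.map_inr, transHom_inr]
    rfl

/-- A regular element commuting with all the translations only moves the fixed points. -/
theorem eq_fix_of_regular [Fact p.Prime] {v r : ℕ} {σ : Perm (Pts v p r)}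
    (h : ∀ t, Commute σ (transHom v p r t)) (hreg : ¬ p ∣ orderOf σ) :
    ∃ s, σ = Perm.sumCongr 1 s := by
  obtain ⟨t, s, rfl⟩ := eq_of_commute_trans h
  refine ⟨s, ?_⟩
  set m := orderOf (transHom v p r t * Perm.sumCongr 1 s)
  have hc : Commute (transHom v p r t) (Perm.sumCongr 1 s) := Equiv.ext fun z => by
    rcases z with ⟨i, a⟩ | j
    · show transHom v p r t (Sum.inl (i, a)) = Perm.sumCongr 1 s (transHom v p r t (Sum.inl (i, a)))
      rw [transHom_inl]; rfl
    · show transHom v p r t (Sum.inr (s j)) = Perm.sumCongr 1 s (transHom v p r t (Sum.inr j))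
      rw [transHom_inr, transHom_inr]; rfl
  have h1 := pow_orderOf_eq_one (transHom v p r t * Perm.sumCongr 1 s)
  rw [hc.mul_pow] at h1
  have ht : t = 1 := by
    refine Multiplicative.toAdd.injective (funext fun i => ?_)
    have hs : (Perm.sumCongr (1 : Perm (Fin v × ZMod p)) s) ^ m = Perm.sumCongr 1 (s ^ m) := by
      have := map_pow (Perm.sumCongrHom (Fin v × ZMod p) (Fin r)) (1, s) m
      simp only [Prod.pow_mk, one_pow] at this
      exact this.symm
    have h2 := congrArg (fun f : Perm (Pts v p r) => f (Sum.inl (i, 0))) h1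
    rw [hs, ← map_pow] at h2
    simp only [Perm.mul_apply, Perm.sumCongr_apply, Sum.map_inl, Perm.one_apply, transHom_inl,
      toAdd_pow, Pi.smul_apply, zero_add, Sum.inl.injEq, Prod.mk.injEq, true_and,
      nsmul_eq_mul] at h2
    exact (mul_eq_zero.1 h2).resolve_left (by rwa [ZMod.natCast_eq_zero_iff])
  rw [ht, map_one, one_mul]

theorem conj_fixHom [Fact p.Prime] {v r : ℕ} (e : Pts v p r ≃ Fin n) {c : Perm (Fin n)}
    (hc : Commute c (e.permCongr (baseCyc v p r))) (s : Perm (Fin r)) :
    ∃ s', c * fixHom e s * c⁻¹ = fixHom e s' := by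
  obtain ⟨s', hs'⟩ := conj_fixed (c := e.permCongrHom.symm c) (by
    have h := hc.map (e.permCongrHom.symm : Perm (Fin n) ≃* Perm (Pts v p r))
    rwa [show e.permCongrHom.symm (e.permCongr (baseCyc v p r)) = baseCyc v p r from
      (e.permCongrHom).symm_apply_apply _] at h) s
  refine ⟨s', ?_⟩
  have h := congrArg e.permCongrHom hs'
  rwa [map_mul, map_mul, map_inv, MulEquiv.apply_symm_apply] at h

/-- Removing the hooks of length `p` in the presence of other cycles. -/
theorem exists_hook_value [NeZero p] {N : ℕ} {κ : Exp N} (hκ : KeySorted p κ)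
    (hκ0 : ∀ i, 0 ≤ κ i) (hκm : 2 * qSum p κ = pairCount (resCount p κ)) :
    ∀ (v : ℕ) (β : Exp N), KeySorted p β → (∀ i, 0 ≤ β i) → resCount p β = resCount p κ →
      2 * qSum p β = pairCount (resCount p β) + 2 * (v : ℤ) →
      ∃ c : ℤ, ∀ L : Multiset ℕ, phi (Multiset.replicate v p + L) β = c * phi L κ := by
  intro v
  induction v with
  | zero =>
    intro β hs h0 hc hv
    refine ⟨1, fun L => ?_⟩
    rw [core_unique hs hκ h0 hκ0 hc (by simpa using hv) hκm]
    simp
  | succ v ih =>
    intro β hs h0 hc hv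
    have hex : ∀ i, ∃ c : ℤ, ∀ L : Multiset ℕ,
        phi (Multiset.replicate v p + L) (β - Pi.single i (p : ℤ)) = c * phi L κ := by
      intro i
      by_cases hi0 : ∀ x, 0 ≤ (β - Pi.single i (p : ℤ) : Exp N) x
      · by_cases hii : Function.Injective (β - Pi.single i (p : ℤ))
        · exact ih _ (hs.lower i hii) hi0 ((resCount_sub_single β i).trans hc)
            (by rw [qSum_sub_single, resCount_sub_single]; push_cast at hv ⊢; linarith)
        · exact ⟨0, fun L => by rw [(antiSym_phi _).eq_zero hii, zero_mul]⟩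
      · push Not at hi0
        obtain ⟨x, hx⟩ := hi0
        exact ⟨0, fun L => by rw [phi_eq_zero_of_neg _ _ hx, zero_mul]⟩
    choose c hc' using hex
    refine ⟨∑ i, c i, fun L => ?_⟩
    rw [Multiset.replicate_succ, Multiset.cons_add, phi_cons, Finset.sum_mul]
    exact Finset.sum_congr rfl fun i _ => hc' i L

/-- The central character of the core at an element. -/
def coreSum {N v r : ℕ} (e : Pts v p r ≃ Fin n) (κ : Exp N) (g : Perm (Fin n)) : ℂ :=
  ∑ s : Perm (Fin r), if IsConj g (fixHom e s) then
    (chi κ s : ℂ) / chi κ (1 : Perm (Fin r)) else 0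

/-- The central characters of a character of weight `v` at regular elements. -/
theorem centralChar_congr_core [Fact p.Prime] (hM : IsPModular p M) {β : Exp n} (hβ : Adm n β)
    (hβs : KeySorted p β) {ψ : IrrCharacter (Perm (Fin n))} {ε : ℂ}
    (hchi : (chi β : Perm (Fin n) → ℂ) = ε • (ψ : Perm (Fin n) → ℂ)) {κ : Exp n}
    (hκ : KeySorted p κ) (hκ0 : ∀ i, 0 ≤ κ i)
    (hκm : 2 * qSum p κ = pairCount (resCount p κ)) (hc : resCount p β = resCount p κ) {v : ℕ}
    (hv : 2 * qSum p β = pairCount (resCount p β) + 2 * (v : ℤ)) {r : ℕ}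
    (hκd : ∑ i, κ i = (r : ℤ) + baseDeg n) (e : Pts v p r ≃ Fin n) {g : Perm (Fin n)}
    (hg : ¬ p ∣ orderOf g) :
    MemLocalIdeal M (centralChar (ψ : Perm (Fin n) → ℂ) g - coreSum e κ g) := by
  obtain ⟨c, hcv⟩ := exists_hook_value hκ hκ0 hκm v β hβs hβ.nonneg hc hv
  have hκA : Adm r κ := ⟨hκ.injective, hκ0, hκd⟩
  obtain ⟨θ, δ, hδ, hθ⟩ : ∃ (θ : IrrCharacter (Perm (Fin r))) (δ : ℂ), δ ≠ 0 ∧
      (chi κ : Perm (Fin r) → ℂ) = δ • (θ : Perm (Fin r) → ℂ) := by
    obtain ⟨θ, h | h⟩ := chi_irr hκA
    · exact ⟨θ, 1, one_ne_zero, by rw [h, one_smul]⟩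
    · exact ⟨θ, -1, by norm_num, by rw [h, neg_one_smul]⟩
  have hc0 : c ≠ 0 := by
    intro h0
    have h1 := hook_value_pos r hκ hκ0 hκm hκd v β hβs hβ.nonneg hc hv
    rw [hcv, h0, zero_mul, zero_mul] at h1
    exact lt_irrefl _ h1
  have hp2 : Fact (1 < p) := ⟨(Fact.out : p.Prime).one_lt⟩
  set x : Perm (Fin n) := e.permCongr (baseCyc v p r) with hxdef
  have hxp : ∃ k : ℕ, orderOf x = p ^ k := by
    obtain ⟨k, -, hk⟩ := (Nat.dvd_prime_pow (m := 1) (Fact.out : p.Prime)).1
      (show orderOf x ∣ p ^ 1 by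
        refine orderOf_dvd_of_pow_eq_one ?_
        rw [pow_one, hxdef, ← permCongrHom_coe, ← map_pow, baseCyc_pow]
        convert map_one e.permCongrHom
        convert map_one (transHom v p r)
        refine Multiplicative.toAdd.injective (funext fun i => ?_)
        simp)
    exact ⟨k, hk⟩
  set C := Subgroup.centralizer ({x} : Set (Perm (Fin n))) with hC
  letI := Fintype.ofFinite C
  let Φ : Multiplicative (Fin v → ZMod p) →* Perm (Fin n) :=
    (e.permCongrHom : Perm (Pts v p r) ≃* Perm (Fin n)).toMonoidHom.comp (transHom v p r)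
  have hxΦ : x = Φ (Multiplicative.ofAdd fun _ => 1) := rfl
  -- the normal subgroup of the translations
  have hΦC : Φ.range ≤ C := fun a ha => by
    obtain ⟨t, rfl⟩ := ha
    rw [hC, Subgroup.mem_centralizer_singleton_iff, hxΦ, ← map_mul, ← map_mul, mul_comm]
  haveI hPn : (Φ.range.subgroupOf C).Normal := ⟨fun a ha c' => Subgroup.mem_subgroupOf.2 (by
    simp only [Subgroup.coe_mul, Subgroup.coe_inv]
    exact conj_mem_transRange e (Subgroup.mem_centralizer_singleton_iff.1 c'.2)
      (Subgroup.mem_subgroupOf.1 ha))⟩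
  have hPp : IsPGroup p (Φ.range.subgroupOf C) := by
    refine IsPGroup.of_equiv ?_ (Subgroup.subgroupOfEquivOfLe hΦC).symm
    refine fun a => ⟨1, ?_⟩
    obtain ⟨t, ht⟩ := a.2
    refine Subtype.ext ?_
    rw [pow_one, Subgroup.coe_pow, ← ht, ← map_pow, Subgroup.coe_one]
    convert map_one Φ
    refine Multiplicative.toAdd.injective (funext fun i => ?_)
    simp
  -- the normal subgroup of the permutations of the fixed points
  have hfixC : ∀ s, fixHom e s ∈ C := fun s => by
    rw [hC, Subgroup.mem_centralizer_singleton_iff, hxdef, fixHom_apply]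
    rw [← permCongrHom_coe, ← map_mul, ← map_mul]
    congr 1
    refine Equiv.ext fun z => ?_
    rcases z with ⟨i, a⟩ | j
    · simp [baseCyc, transHom_inl, Perm.mul_apply]
    · simp [baseCyc, transHom_inr, Perm.mul_apply]
  let ι : Perm (Fin r) →* C := (fixHom e).codRestrict C hfixC
  have hι : Function.Injective ι := fun a b h =>
    fixHom_injective e (congrArg Subtype.val h)
  set N : Subgroup C := ι.range with hN
  haveI hNn : N.Normal := ⟨fun a ha c' => by
    obtain ⟨s, rfl⟩ := ha
    obtain ⟨s', hs'⟩ := conj_fixHom e (Subgroup.mem_centralizer_singleton_iff.1 c'.2) s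
    exact ⟨s', Subtype.ext (by simpa [ι] using hs'.symm)⟩⟩
  let E : Perm (Fin r) ≃* N := MonoidHom.ofInjective hι
  letI := Fintype.ofFinite N
  let θN : IrrCharacter N := twistIrr E.symm θ
  have hθN : ∀ s, (θN : N → ℂ) (E s) = (θ : Perm (Fin r) → ℂ) s := fun s => by
    rw [twistIrr_apply, E.symm_apply_apply]
  have hθsing : ∀ h : N, p ∣ orderOf h → (θN : N → ℂ) h = 0 := by
    intro h hh
    obtain ⟨s, rfl⟩ := E.surjective h
    rw [MulEquiv.orderOf_eq] at hh
    obtain ⟨w, hw, hpw⟩ := exists_orb_dvd (Fact.out : p.Prime) hh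
    rw [hθN]
    have h0 : chi κ s = 0 := by
      rw [chi, phi_eq_zero_of_core hκ.injective hκ0 hκm hw hpw (pos_of_mem_orb hw), Int.cast_zero]
    rw [hθ] at h0
    exact (mul_eq_zero.1 h0).resolve_left hδ
  -- a character of the centraliser over the core, in a block inducing the block of `ψ`
  set F := sectionFun x (ψ : Perm (Fin n) → ℂ) with hF
  have hFι : ∀ s, ε * F (E s) = (c : ℂ) * δ * (θN : N → ℂ) (E s) := by
    intro s
    have h1 := congrFun hchi (x * fixHom e s)
    rw [chi, hxdef, orb_cyc_mul_fixHom, hcv, Int.cast_mul, Pi.smul_apply, smul_eq_mul] at h1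
    have h2 : (phi (orb s) κ : ℂ) = δ * (θ : Perm (Fin r) → ℂ) s := congrFun hθ s
    rw [h2] at h1
    rw [hθN, mul_assoc, h1]
    rfl
  have hinner : ε * classInner (fun h : N => F h) (θN : N → ℂ) = (c : ℂ) * δ := by
    rw [← classInner_smul_left]
    have e1 : (ε • fun h : N => F h) = ((c : ℂ) * δ) • (θN : N → ℂ) := funext fun h => by
      obtain ⟨s, rfl⟩ := E.surjective h
      exact hFι s
    rw [e1, classInner_smul_left, classInner_irr_self θN.2, mul_one]
  obtain ⟨ξ, hξind, hξθ⟩ : ∃ ξ : IrrCharacter C,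
      IsInducedBlock M C (blockOf M (ξ : C → ℂ)) (blockOf M (ψ : Perm (Fin n) → ℂ)) ∧
      classInner (fun h : N => (ξ : C → ℂ) h) (θN : N → ℂ) ≠ 0 := by
    by_contra! hnone
    refine mul_ne_zero (Int.cast_ne_zero.2 hc0) hδ ?_
    rw [← hinner]
    refine mul_eq_zero_of_right _ ?_
    have hFsum := classFunction_eq_sum (isClassFunction_sectionFun (x := x) (irr_isClassFunction ψ))
    rw [← hF] at hFsum
    set S : Set (IrrCharacter C) := {ξ | IsInducedBlock M C (blockOf M (ξ : C → ℂ))
      (blockOf M (ψ : Perm (Fin n) → ℂ))} with hS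
    have hreg : ∀ h : N, ¬ p ∣ orderOf h → F h = ∑ ξ ∈ Finset.univ.filter (· ∈ S),
        classInner F (ξ : C → ℂ) * (ξ : C → ℂ) h := by
      intro h hh
      have hzero : blockPart Sᶜ F (h : C) = 0 := by
        refine blockPart_union_eq_zero hM (A := Sᶜ) (fun χ φ hχ hsame hφ => hχ ?_) fun χ hχ => ?_
        · show IsInducedBlock M C (blockOf M (χ : C → ℂ)) _
          rw [blockOf_eq_of_sameBlock hM hsame]
          exact hφ
        · exact blockPart_sectionFun_eq_zero hM hxp (isPBlock_blockOf χ) hχ
            (by rwa [Subgroup.orderOf_coe])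
      rw [blockPart_eq_sum] at hzero
      conv_lhs => rw [hFsum]
      simp only [Finset.sum_apply, Pi.smul_apply, smul_eq_mul]
      rw [← Finset.sum_filter_add_sum_filter_not Finset.univ (· ∈ S)]
      simp only [Set.mem_compl_iff] at hzero
      rw [hzero, add_zero]
    have e2 : classInner (fun h : N => F h) (θN : N → ℂ) =
        classInner (∑ ξ ∈ Finset.univ.filter (· ∈ S), classInner F (ξ : C → ℂ) •
          fun h : N => (ξ : C → ℂ) h) (θN : N → ℂ) := by
      refine congrArg (_ * ·) (Finset.sum_congr rfl fun h _ => ?_)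
      by_cases hh : p ∣ orderOf h
      · rw [hθsing h hh, map_zero, mul_zero, mul_zero]
      · simp only [hreg h hh, Finset.sum_apply, Pi.smul_apply, smul_eq_mul]
    rw [e2, classInner_sum_left]
    refine Finset.sum_eq_zero fun ξ hξ => ?_
    rw [classInner_smul_left, hnone ξ (Finset.mem_filter.1 hξ).2, mul_zero]
  -- compare the central characters
  have hcc := (constituent_iff_centralChar N ξ θN).1 hξθ
  have h1 := hξind.2.2 ξ (mem_blockOf_self hM ξ) ψ (mem_blockOf_self hM ψ) g
  have h2 : MemLocalIdeal M (inducedCentralChar C (ξ : C → ℂ) g - coreSum e κ g) := by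
    have hco : coreSum e κ g = ∑ s : Perm (Fin r),
        if IsConj g (fixHom e s) then (θN : N → ℂ) (E s) / (θN : N → ℂ) 1 else 0 := by
      refine Finset.sum_congr rfl fun s _ => ?_
      rw [← map_one E, hθN, hθN, hθ]
      simp only [Pi.smul_apply, smul_eq_mul, mul_div_mul_left _ _ hδ]
    rw [← omega_classPart, omega_eq_sum_classes ξ (classPart_mem_center ℂ C g), hco,
      ← Finset.sum_fiberwise Finset.univ (fun s : Perm (Fin r) => ConjClasses.mk (ι s)),
      show ∀ (a b : Finset (ConjClasses C)) (f g : ConjClasses C → ℂ), a = b →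
        ∑ d ∈ a, f d - ∑ d ∈ b, g d = ∑ d ∈ b, (f d - g d) from fun a b f g hab => by
          rw [hab, Finset.sum_sub_distrib]]
    swap
    · ext d; simp
    refine MemLocalIdeal.sum hM _ fun d _ => ?_
    simp only [classPart, Blocks.coeff_ofFun]
    have hmem : ∀ s : Perm (Fin r), s ∈ Finset.univ.filter (fun s => ConjClasses.mk (ι s) = d) →
        IsConj (d.out) (ι s) := by
      intro s hs
      exact (ConjClasses.mk_eq_mk_iff_isConj.1 ((Finset.mem_filter.1 hs).2.trans
        (Quotient.out_eq d).symm)).symm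
    by_cases hgd : IsConj g ((d.out : C) : Perm (Fin n))
    swap
    · rw [if_neg hgd, zero_mul, zero_sub, Finset.sum_eq_zero fun s hs => if_neg fun hc' => hgd
        (hc'.trans (show IsConj (fixHom e s) ((d.out : C) : Perm (Fin n)) from
          C.subtype.map_isConj (hmem s hs).symm)), neg_zero]
      exact memLocalIdeal_zero hM
    rw [if_pos hgd, one_mul]
    by_cases hdN : d.out ∈ N
    · have h3 := hcc ⟨d.out, hdN⟩
      simp only at h3
      rw [h3, inducedCentralChar, finsum_mem_eq_sum_of_inter_support_eq _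
        (t := Finset.univ.filter fun h : N => IsConj d.out (h : C)) (by simp)]
      convert memLocalIdeal_zero hM using 1
      rw [sub_eq_zero]
      refine (Finset.sum_equiv E.toEquiv (fun s => ?_) fun s hs => ?_).symm
      · simp only [Finset.mem_filter, Finset.mem_univ, true_and]
        exact ⟨fun h => hmem s (by simpa using h), fun h => (ConjClasses.mk_eq_mk_iff_isConj.2
          h.symm).trans (Quotient.out_eq d)⟩
      · rw [if_pos (show IsConj g (fixHom e s) from hgd.trans (C.subtype.map_isConj (hmem s hs)))]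
        rfl
    · rw [Finset.sum_eq_zero fun s hs => absurd (by
        obtain ⟨u, hu⟩ := isConj_iff.1 (hmem s hs).symm
        rw [← hu]
        exact hNn.conj_mem _ ⟨s, rfl⟩ u) hdN, sub_zero]
      refine centralChar_mem_ideal_of_normal hM hPp ξ d.out fun hcen => hdN ?_
      obtain ⟨u, hu⟩ := isConj_iff.1 hgd
      have hord : ¬ p ∣ orderOf ((d.out : C) : Perm (Fin n)) := by
        rw [← hu, show u * g * u⁻¹ = MulAut.conj u g from rfl, MulEquiv.orderOf_eq]
        exact hg
      set σ : Perm (Pts v p r) := e.permCongrHom.symm ((d.out : C) : Perm (Fin n)) with hσdef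
      have hσe : ((d.out : C) : Perm (Fin n)) = e.permCongrHom σ :=
        (e.permCongrHom.apply_symm_apply _).symm
      obtain ⟨s, hs⟩ := eq_fix_of_regular (σ := σ) (fun t => by
        refine Commute.of_map e.permCongrHom.injective ?_
        rw [← hσe]
        exact (congrArg Subtype.val (Subgroup.mem_centralizer_iff.1 hcen ⟨Φ t, hΦC ⟨t, rfl⟩⟩
          (Subgroup.mem_subgroupOf.2 ⟨t, rfl⟩))).symm) (by rwa [hσdef, MulEquiv.orderOf_eq])
      exact ⟨s, Subtype.ext (by simp [ι, hσe, hs, fixHom_apply])⟩
  have h4 := MemLocalIdeal.sub hM h2 h1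
  convert h4 using 1
  ring

end CfsgLib.SymBlocks
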