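import Cfsg.Agent.Lib.SymBlocks.Hook

/-!
# The exponent of `p` in the degree

The exponent of `p` in the degree attached to an exponent vector, in terms of the level sets
of the runners, and the construction of exponent vectors from level sets.
-/

set_option autoImplicit false

noncomputable section

open scoped Classical
open Polynomial

namespace CfsgLib.SymBlocks

open Equiv

variable {N n p : ℕ}

/-- The degree formula for sorted exponents. -/
theorem phi_one_mul_factorials {b : Fin N → ℕ} (hle : ∀ i : Fin N, (i : ℕ) ≤ b i)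
    (hdeg : ∑ i, (b i : ℤ) = n + baseDeg N) :
    ((phi (Multiset.replicate n 1) (castExp b) : ℤ) : ℚ) * ∏ i, ((b i).factorial : ℚ) =
      (n.factorial : ℚ) * vand b := by
  have hle' : ∀ i : Fin N, ((i : ℕ) : ℤ) ≤ castExp b i := fun i => by
    simpa [castExp] using hle i
  have h := eval_contentPoly_aux (n := n) 0 N b hdeg hle
  rw [contentPoly_eq hle' hdeg, orb_one, Fintype.card_fin, eval_mul, eval_C, Int.cast_mul] at h
  have hne : (((rootPoly (castExp b)).eval (((N + 0 : ℕ)) : ℤ) : ℤ) : ℚ) ≠ 0 := by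
    simp only [rootPoly, eval_prod, eval_add, eval_X, eval_C, add_zero, Int.cast_prod,
      add_sub_cancel]
    refine Finset.prod_ne_zero_iff.2 fun i _ => Finset.prod_ne_zero_iff.2 fun x hx => ?_
    rw [Int.cast_ne_zero]
    have h1 := (Finset.mem_Ioc.1 hx).1
    have h2 : (0 : ℤ) ≤ ((i : ℕ) : ℤ) := Int.natCast_nonneg _
    omega
  rw [mul_right_cancel₀ hne h, hookQuot, mul_assoc,
    div_mul_cancel₀ _ (Finset.prod_ne_zero_iff.2 fun i _ => by positivity)]

/-- A symmetric double sum vanishing on the diagonal. -/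
theorem two_mul_sum_Ioi (f : Fin N → Fin N → ℕ) (hs : ∀ i j, f i j = f j i) (h0 : ∀ i, f i i = 0) :
    2 * ∑ i, ∑ j ∈ Finset.Ioi i, f i j = ∑ i, ∑ j, f i j := by
  have h1 : ∀ i, ∑ j, f i j = (∑ j ∈ Finset.Ioi i, f i j) + ∑ j ∈ Finset.Iio i, f i j := by
    intro i
    rw [← Finset.sum_union (Finset.disjoint_left.2 fun x hx hx' => by
      simp only [Finset.mem_Ioi, Finset.mem_Iio] at hx hx'
      exact lt_asymm hx hx')]
    refine (Finset.sum_subset (Finset.subset_univ _) fun x _ hx => ?_).symm
    simp only [Finset.mem_union, Finset.mem_Ioi, Finset.mem_Iio, not_or, not_lt] at hx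
    rw [le_antisymm hx.1 hx.2, h0]
  rw [Finset.sum_congr rfl fun i _ => h1 i, Finset.sum_add_distrib,
    Finset.sum_comm' (s := Finset.univ) (t := fun i => Finset.Iio i) (t' := Finset.univ)
      (s' := fun j => Finset.Ioi j) (by intro i j; simp)]
  rw [two_mul]
  congr 1
  exact Finset.sum_congr rfl fun i _ => Finset.sum_congr rfl fun j _ => hs i j

/-- The absolute value as a monoid homomorphism. -/
def natAbsMonoid : ℤ →* ℕ := ⟨⟨Int.natAbs, Int.natAbs_one⟩, Int.natAbs_mul⟩

/-- The exponent of `p` in the degree, all pairs counted. -/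
theorem two_deg_factorization {β : Exp N} (hinj : Function.Injective β) (h0 : ∀ i, 0 ≤ β i)
    (hdeg : ∑ i, β i = n + baseDeg N) :
    phi (Multiset.replicate n 1) β ≠ 0 ∧
      2 * (phi (Multiset.replicate n 1) β).natAbs.factorization p +
        2 * ∑ i, ((β i).toNat.factorial).factorization p =
      2 * n.factorial.factorization p + ∑ i, ∑ k, (β i - β k).natAbs.factorization p := by
  obtain ⟨τ, -, hτ⟩ := exists_sort β hinj h0
  set b : Fin N → ℕ := fun i => (β (τ i)).toNat with hb
  have hbc : castExp b = β ∘ τ := funext fun i => Int.toNat_of_nonneg (h0 _)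
  have hle : ∀ i : Fin N, (i : ℕ) ≤ b i := fun i => by
    have := hτ i
    simp only [hb, Function.comp_apply] at this ⊢
    omega
  have hdeg' : ∑ i, (b i : ℤ) = n + baseDeg N := by
    rw [← hdeg, ← Equiv.sum_comp τ β]
    exact Finset.sum_congr rfl fun i _ => congrFun hbc i
  have h := phi_one_mul_factorials hle hdeg'
  rw [hbc, antiSym_phi _ τ β] at h
  set D := phi (Multiset.replicate n 1) β with hD
  set V : ℤ := ∏ i : Fin N, ∏ j ∈ Finset.Ioi i, ((b j : ℤ) - b i) with hV
  have hvand : vand b = (V : ℚ) := by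
    rw [vand, Matrix.det_vandermonde, hV]
    push_cast
    rfl
  have hint : (Perm.sign τ : ℤ) * D * ∏ i, ((b i).factorial : ℤ) = (n.factorial : ℤ) * V := by
    have h' : ((((Perm.sign τ : ℤ) * D * ∏ i, ((b i).factorial : ℤ)) : ℤ) : ℚ) =
        (((n.factorial : ℤ) * V : ℤ) : ℚ) := by
      push_cast
      rw [← hvand]
      push_cast at h
      exact h
    exact_mod_cast h'
  have hdiff : ∀ i, ∀ j ∈ Finset.Ioi i, ((b j : ℤ) - b i) ≠ 0 := fun i j hj e => by
    have h1 : β (τ j) = β (τ i) := by
      rw [← Int.toNat_of_nonneg (h0 (τ j)), ← Int.toNat_of_nonneg (h0 (τ i))]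
      exact sub_eq_zero.1 e
    exact (Finset.mem_Ioi.1 hj).ne' (τ.injective (hinj h1))
  have hVne : V ≠ 0 :=
    Finset.prod_ne_zero_iff.2 fun i _ => Finset.prod_ne_zero_iff.2 fun j hj => hdiff i j hj
  have hD0 : D ≠ 0 := by
    intro e
    rw [e, mul_zero, zero_mul] at hint
    exact mul_ne_zero (Int.natCast_ne_zero.2 n.factorial_ne_zero) hVne hint.symm
  refine ⟨hD0, ?_⟩
  have habs := congrArg Int.natAbs hint
  rw [Int.natAbs_mul, Int.natAbs_mul, Int.natAbs_mul, hV, Int.units_natAbs, one_mul,
    Int.natAbs_natCast,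
    show (∏ i, ((b i).factorial : ℤ)) = ((∏ i, (b i).factorial : ℕ) : ℤ) by push_cast; rfl,
    Int.natAbs_natCast] at habs
  have hprod : (∏ i : Fin N, ∏ j ∈ Finset.Ioi i, ((b j : ℤ) - b i)).natAbs =
      ∏ i : Fin N, ∏ j ∈ Finset.Ioi i, ((b j : ℤ) - b i).natAbs := by
    rw [show ∀ (t : Finset (Fin N)) (F : Fin N → ℤ), (∏ i ∈ t, F i).natAbs = ∏ i ∈ t, (F i).natAbs
      from fun t F => map_prod natAbsMonoid F t]
    exact Finset.prod_congr rfl fun i _ => map_prod natAbsMonoid _ _
  rw [hprod] at habs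
  have hfac := congrArg (fun m : ℕ => m.factorization p) habs
  have hne1 : (∏ i, (b i).factorial) ≠ 0 :=
    Finset.prod_ne_zero_iff.2 fun i _ => Nat.factorial_ne_zero _
  have hne2 : ∀ i, ∏ j ∈ Finset.Ioi i, ((b j : ℤ) - b i).natAbs ≠ 0 := fun i =>
    Finset.prod_ne_zero_iff.2 fun j hj => Int.natAbs_ne_zero.2 (hdiff i j hj)
  simp only [Nat.factorization_mul (Int.natAbs_ne_zero.2 hD0) hne1,
    Nat.factorization_mul n.factorial_ne_zero (Finset.prod_ne_zero_iff.2 fun i _ => hne2 i),
    Finsupp.coe_add, Pi.add_apply, Nat.factorization_prod_apply fun i _ => hne2 i,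
    Nat.factorization_prod_apply fun i _ => Nat.factorial_ne_zero (b i)] at hfac
  rw [Finset.sum_congr rfl fun i _ =>
    Nat.factorization_prod_apply fun j hj => Int.natAbs_ne_zero.2 (hdiff i j hj)] at hfac
  have e1 : ∑ i, ((β i).toNat.factorial).factorization p = ∑ i, (b i).factorial.factorization p :=
    (Equiv.sum_comp τ fun i => ((β i).toNat.factorial).factorization p).symm
  have e2 : ∑ i, ∑ k, (β i - β k).natAbs.factorization p =
      2 * ∑ i : Fin N, ∑ j ∈ Finset.Ioi i, ((b j : ℤ) - b i).natAbs.factorization p := by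
    rw [two_mul_sum_Ioi _ (fun i j => by rw [← Int.natAbs_neg, neg_sub]) (fun i => by simp),
      ← Equiv.sum_comp τ fun i => ∑ k, (β i - β k).natAbs.factorization p]
    refine Finset.sum_congr rfl fun i _ => ?_
    rw [← Equiv.sum_comp τ fun k => (β (τ i) - β k).natAbs.factorization p]
    refine Finset.sum_congr rfl fun j _ => ?_
    rw [← Int.natAbs_neg, neg_sub,
      show β (τ i) = (b i : ℤ) from (congrFun hbc i).symm,
      show β (τ j) = (b j : ℤ) from (congrFun hbc j).symm]
  omega

/-! ## Runners -/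

section Runner

variable [hp : Fact p.Prime]

theorem factorization_factorial_mul_add {q r : ℕ} (hr : r < p) :
    ((p * q + r).factorial).factorization p = q + q.factorial.factorization p := by
  rw [Nat.factorization_def _ hp.out, Nat.factorization_def _ hp.out,
    padicValNat_factorial_mul_add (p := p) q hr, padicValNat_factorial_mul, add_comm]

theorem factorization_natAbs_sub {x y : ℤ} (hne : x ≠ y) :
    (x - y).natAbs.factorization p =
      if (p : ℤ) ∣ x - y then 1 + (x / (p : ℤ) - y / (p : ℤ)).natAbs.factorization p else 0 := by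
  split_ifs with h
  · have h1 : x % (p : ℤ) = y % (p : ℤ) := (Int.emod_eq_emod_iff_emod_sub_eq_zero).2
      (Int.emod_eq_zero_of_dvd h)
    have h2 : x - y = (p : ℤ) * (x / (p : ℤ) - y / (p : ℤ)) := by
      have := Int.mul_ediv_add_emod x p
      have := Int.mul_ediv_add_emod y p
      linarith
    have hne' : x / (p : ℤ) - y / (p : ℤ) ≠ 0 := fun e => hne (sub_eq_zero.1 (by rw [h2, e, mul_zero]))
    rw [h2, Int.natAbs_mul, Int.natAbs_natCast, Nat.factorization_mul hp.out.ne_zero
      (Int.natAbs_ne_zero.2 hne'), Finsupp.add_apply, hp.out.factorization_self]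
  · exact Nat.factorization_eq_zero_of_not_dvd fun h' => h (Int.natCast_dvd.2 h')

/-- The levels on one runner. -/
def runner (p : ℕ) (β : Exp N) (r : ZMod p) : Finset ℕ :=
  (Finset.univ.filter fun i => (β i : ZMod p) = r).image fun i => (β i / (p : ℤ)).toNat

theorem injOn_runner {β : Exp N} (hinj : Function.Injective β) (h0 : ∀ i, 0 ≤ β i) (r : ZMod p) :
    Set.InjOn (fun i => (β i / (p : ℤ)).toNat)
      ↑(Finset.univ.filter fun i => (β i : ZMod p) = r) := by
  intro i hi k hk h
  simp only [Finset.coe_filter, Finset.mem_univ, true_and, Set.mem_ofPred_eq] at hi hk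
  have hi0 := Int.ediv_nonneg (h0 i) (Int.natCast_nonneg p)
  have hk0 := Int.ediv_nonneg (h0 k) (Int.natCast_nonneg p)
  simp only at h
  exact hinj (eq_of_res_of_div (hi.trans hk.symm) (by omega))

theorem card_runner {β : Exp N} (hinj : Function.Injective β) (h0 : ∀ i, 0 ≤ β i) (r : ZMod p) :
    (runner p β r).card = resCount p β r :=
  Finset.card_image_of_injOn (injOn_runner hinj h0 r)

theorem sum_runner {β : Exp N} (hinj : Function.Injective β) (h0 : ∀ i, 0 ≤ β i) :
    ∑ r : ZMod p, ∑ q ∈ runner p β r, (q : ℤ) = qSum p β := by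
  rw [qSum, ← Finset.sum_fiberwise Finset.univ (fun i => (β i : ZMod p))]
  refine Finset.sum_congr rfl fun r _ => ?_
  rw [runner, Finset.sum_image (injOn_runner hinj h0 r)]
  exact Finset.sum_congr rfl fun i _ =>
    Int.toNat_of_nonneg (Int.ediv_nonneg (h0 i) (Int.natCast_nonneg p))

theorem sum_eq_of_qSum (β : Exp N) :
    ∑ i, β i = (p : ℤ) * qSum p β + ∑ r : ZMod p, (r.val : ℤ) * resCount p β r := by
  have e : ∀ i, β i = (p : ℤ) * (β i / (p : ℤ)) + ((β i : ZMod p).val : ℤ) := fun i => by
    rw [ZMod.val_intCast, Int.mul_ediv_add_emod]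
  rw [Finset.sum_congr rfl fun i _ => e i, Finset.sum_add_distrib, qSum, Finset.mul_sum]
  congr 1
  rw [← Finset.sum_fiberwise Finset.univ (fun i => (β i : ZMod p))]
  refine Finset.sum_congr rfl fun r _ => ?_
  rw [Finset.sum_congr rfl fun i hi => show ((β i : ZMod p).val : ℤ) = (r.val : ℤ) by
    rw [(Finset.mem_filter.1 hi).2], Finset.sum_const, nsmul_eq_mul, mul_comm]
  rfl

/-- Twice the exponent of `p` in the product of the hook lengths of a runner. -/
def hookTwo (p : ℕ) (Q : Finset ℕ) : ℤ :=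
  2 * ∑ q ∈ Q, (q.factorial.factorization p : ℤ) -
    ∑ q ∈ Q, ∑ q' ∈ Q, (((q : ℤ) - q').natAbs.factorization p : ℤ)

/-- The exponent of `p` in the degree. -/
theorem two_deg_eq {β : Exp N} (hinj : Function.Injective β) (h0 : ∀ i, 0 ≤ β i)
    (hdeg : ∑ i, β i = n + baseDeg N) {w : ℕ}
    (hw : 2 * qSum p β = pairCount (resCount p β) + 2 * (w : ℤ)) :
    2 * ((phi (Multiset.replicate n 1) β).natAbs.factorization p : ℤ) =
      2 * (n.factorial.factorization p : ℤ) - 2 * (w : ℤ) -
        ∑ r : ZMod p, hookTwo p (runner p β r) := by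
  have h := (two_deg_factorization (p := p) hinj h0 hdeg).2
  have hfib : ∀ f : ℕ → ℤ, ∑ r : ZMod p, ∑ q ∈ runner p β r, f q =
      ∑ i, f (β i / (p : ℤ)).toNat := by
    intro f
    rw [← Finset.sum_fiberwise Finset.univ (fun i => (β i : ZMod p))]
    exact Finset.sum_congr rfl fun r _ => Finset.sum_image (injOn_runner hinj h0 r)
  have hq : ∀ i, ((β i / (p : ℤ)).toNat : ℤ) = β i / (p : ℤ) := fun i =>
    Int.toNat_of_nonneg (Int.ediv_nonneg (h0 i) (Int.natCast_nonneg p))
  have hfac : ∀ i, (((β i).toNat.factorial).factorization p : ℤ) =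
      β i / (p : ℤ) + ((β i / (p : ℤ)).toNat.factorial.factorization p : ℤ) := by
    intro i
    have hdm : (β i).toNat = p * (β i / (p : ℤ)).toNat + (β i % (p : ℤ)).toNat := by
      have := Int.mul_ediv_add_emod (β i) p
      have := hq i
      have := Int.emod_nonneg (β i) (show (p : ℤ) ≠ 0 by exact_mod_cast hp.out.ne_zero)
      have := h0 i
      zify
      rw [Int.toNat_of_nonneg (h0 i), hq i, Int.toNat_of_nonneg (by assumption)]
      linarith
    have hlt : (β i % (p : ℤ)).toNat < p := by
      have := Int.emod_lt_of_pos (β i) (show (0 : ℤ) < p by exact_mod_cast hp.out.pos)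
      have := Int.emod_nonneg (β i) (show (p : ℤ) ≠ 0 by exact_mod_cast hp.out.ne_zero)
      omega
    rw [hdm, factorization_factorial_mul_add hlt, Nat.cast_add, hq]
  have hpair : ∀ i k, ((β i - β k).natAbs.factorization p : ℤ) =
      (if (i, k) ∈ samePairs p β then 1 else 0) +
        if (β k : ZMod p) = (β i : ZMod p) then
          (((β i / (p : ℤ)).toNat : ℤ) - (β k / (p : ℤ)).toNat).natAbs.factorization p else 0 := by
    intro i k
    by_cases hik : i = k
    · subst hik
      simp [samePairs]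
    rw [factorization_natAbs_sub fun e => hik (hinj e), hq, hq]
    have hd : (p : ℤ) ∣ β i - β k ↔ (β k : ZMod p) = (β i : ZMod p) := by
      rw [ZMod.intCast_eq_intCast_iff_dvd_sub]
    have hs : (i, k) ∈ samePairs p β ↔ (β k : ZMod p) = (β i : ZMod p) := by
      simp only [samePairs, Finset.mem_filter, Finset.mem_univ, true_and]
      rw [eq_comm, ZMod.intCast_eq_intCast_iff_dvd_sub]
      exact and_iff_right hik
    by_cases hc : (β k : ZMod p) = (β i : ZMod p)
    · rw [if_pos (hd.2 hc), if_pos (hs.2 hc), if_pos hc]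
      push_cast
      rfl
    · rw [if_neg (mt hd.1 hc), if_neg (mt hs.1 hc), if_neg hc]
      simp
  have hsum2 : ∑ i, ∑ k, (if (β k : ZMod p) = (β i : ZMod p) then
      ((((β i / (p : ℤ)).toNat : ℤ) - (β k / (p : ℤ)).toNat).natAbs.factorization p : ℤ) else 0) =
      ∑ r : ZMod p, ∑ q ∈ runner p β r, ∑ q' ∈ runner p β r,
        (((q : ℤ) - q').natAbs.factorization p : ℤ) := by
    rw [← Finset.sum_fiberwise Finset.univ (fun i => (β i : ZMod p))]
    refine Finset.sum_congr rfl fun r _ => ?_
    rw [runner, Finset.sum_image (injOn_runner hinj h0 r)]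
    refine Finset.sum_congr rfl fun i hi => ?_
    rw [Finset.sum_image (injOn_runner hinj h0 r), ← Finset.sum_filter, (Finset.mem_filter.1 hi).2]
  have hpc : ∑ i, ∑ k, (if (i, k) ∈ samePairs p β then (1 : ℤ) else 0) =
      pairCount (resCount p β) := by
    rw [← card_samePairs, ← Fintype.sum_prod_type' fun i k => if (i, k) ∈ samePairs p β then (1 : ℤ) else 0,
      Finset.sum_boole]
    simp
  have hz : 2 * ((phi (Multiset.replicate n 1) β).natAbs.factorization p : ℤ) +
      2 * ∑ i, (((β i).toNat.factorial).factorization p : ℤ) =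
      2 * (n.factorial.factorization p : ℤ) +
        ∑ i, ∑ k, ((β i - β k).natAbs.factorization p : ℤ) := by exact_mod_cast h
  rw [Finset.sum_congr rfl fun i _ => hfac i, Finset.sum_add_distrib,
    Finset.sum_congr rfl fun i _ => Finset.sum_congr rfl fun k _ => hpair i k] at hz
  simp only [Finset.sum_add_distrib] at hz
  push_cast at hz
  rw [hpc, hsum2, ← qSum] at hz
  simp only [hookTwo, Finset.sum_sub_distrib, ← Finset.mul_sum]
  rw [hfib fun q => (q.factorial.factorization p : ℤ)]
  linarith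

/-- Exponent vectors from level sets. -/
theorem exists_of_runners (Q : ZMod p → Finset ℕ) (h : ∑ r, (Q r).card = N) :
    ∃ β : Exp N, Function.Injective β ∧ (∀ i, 0 ≤ β i) ∧
      (resCount p β = fun r => (Q r).card) ∧ runner p β = Q := by
  let f : (Σ r : ZMod p, Q r) → ℤ := fun z => (p : ℤ) * (z.2 : ℕ) + (z.1.val : ℤ)
  have hres : ∀ z, ((f z : ℤ) : ZMod p) = z.1 := fun z => by simp [f]
  have hdiv : ∀ z, f z / (p : ℤ) = (z.2 : ℕ) := fun z => by
    have := z.1.val_lt
    simp only [f]
    rw [Int.add_comm, Int.add_mul_ediv_left _ _ (by exact_mod_cast hp.out.ne_zero),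
      Int.ediv_eq_zero_of_lt (Int.natCast_nonneg _) (by exact_mod_cast this), zero_add]
  have hfinj : Function.Injective f := by
    rintro ⟨r, q, hq⟩ ⟨r', q', hq'⟩ e
    have h1 := hres ⟨r, q, hq⟩
    rw [e, hres] at h1
    simp only at h1
    subst h1
    have h2 := hdiv ⟨r', q, hq⟩
    rw [e, hdiv] at h2
    simp only [Nat.cast_inj] at h2
    subst h2
    rfl
  let e : Fin N ≃ Σ r : ZMod p, Q r :=
    (Fintype.equivFinOfCardEq (by simp [Fintype.card_sigma, h])).symm
  refine ⟨f ∘ e, hfinj.comp e.injective, fun i => by simp only [Function.comp_apply, f]; positivity,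
    ?_, ?_⟩
  · funext r
    rw [resCount, ← Fintype.card_coe (Q r), ← Fintype.card_subtype]
    refine Fintype.card_congr ((e.subtypeEquiv (q := fun z => z.1 = r) fun i => by
      simp [hres]).trans
      { toFun := fun z => z.2 ▸ z.1.2
        invFun := fun q => ⟨⟨r, q⟩, rfl⟩
        left_inv := fun z => by obtain ⟨⟨r0, q⟩, rfl⟩ := z; rfl
        right_inv := fun q => rfl })
  · funext r
    ext q
    simp only [runner, Finset.mem_image, Finset.mem_filter, Finset.mem_univ, true_and,
      Function.comp_apply, hres, hdiv, Int.toNat_natCast]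
    constructor
    · rintro ⟨i, hi, rfl⟩
      exact hi ▸ (e i).2.2
    · intro hq
      refine ⟨e.symm ⟨r, q, hq⟩, by simp, ?_⟩
      rw [e.apply_symm_apply]

end Runner

end CfsgLib.SymBlocks
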