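import Mathlib.GroupTheory.Perm.Cycle.Basic
import Mathlib.GroupTheory.Perm.Option
import Mathlib.GroupTheory.GroupAction.Quotient
import Mathlib.Data.Nat.Factorial.Basic
import Mathlib.Tactic

/-!
# Orbit sizes of permutations, and sums over symmetric groups

Removing one point from a permutation gives a recursion for sums over the symmetric group of
functions of the multiset of orbit sizes.
-/

set_option autoImplicit false
set_option linter.unusedSectionVars false
set_option linter.unusedFintypeInType false

noncomputable section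

open scoped Classical

namespace CfsgLib.SymBlocks

open Equiv

variable {Ω : Type*} [Fintype Ω]

/-- The orbit of a point. -/
abbrev Orbits (σ : Perm Ω) := Quotient (Perm.SameCycle.setoid σ)

/-- The multiset of orbit sizes. -/
def orb (σ : Perm Ω) : Multiset ℕ :=
  (Finset.univ : Finset (Orbits σ)).val.map fun o =>
    (Finset.univ.filter fun x => Quotient.mk (Perm.SameCycle.setoid σ) x = o).card

/-- Orbit sizes from a labelling of the orbits. -/
theorem orb_of_label (σ : Perm Ω) {Q : Type*} [Fintype Q] (L : Ω → Q) (hs : Function.Surjective L)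
    (h : ∀ x y, L x = L y ↔ σ.SameCycle x y) :
    orb σ = (Finset.univ : Finset Q).val.map fun q => (Finset.univ.filter fun x => L x = q).card := by
  let e : Orbits σ ≃ Q := Equiv.ofBijective
    (Quotient.lift L fun x y hxy => (h x y).2 hxy)
    ⟨fun a b => Quotient.inductionOn₂ a b fun x y hxy => Quotient.sound ((h x y).1 hxy),
      fun q => by obtain ⟨x, rfl⟩ := hs q; exact ⟨Quotient.mk _ x, rfl⟩⟩
  have hu : (Finset.univ : Finset Q).val = (Finset.univ : Finset (Orbits σ)).val.map e :=
    (Finset.map_univ_equiv e) ▸ rfl
  rw [orb, hu, Multiset.map_map]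
  refine Multiset.map_congr rfl fun o _ => ?_
  simp only [Function.comp_apply]
  congr 1
  ext x
  simp only [Finset.mem_filter, Finset.mem_univ, true_and]
  exact ⟨fun hx => hx ▸ rfl, fun hx => e.injective hx⟩

theorem sum_orb (σ : Perm Ω) : (orb σ).sum = Fintype.card Ω := by
  rw [orb, Finset.sum_map_val, ← Finset.card_univ]
  exact (Finset.card_eq_sum_card_fiberwise fun x _ => Finset.mem_univ _).symm

theorem pos_of_mem_orb {σ : Perm Ω} {w : ℕ} (h : w ∈ orb σ) : 0 < w := by
  obtain ⟨o, -, rfl⟩ := Multiset.mem_map.1 h
  induction o using Quotient.inductionOn with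
  | h x => exact Finset.card_pos.2 ⟨x, by simp⟩

theorem card_orb_le (σ : Perm Ω) : Multiset.card (orb σ) ≤ Fintype.card Ω := by
  rw [orb, Multiset.card_map, Finset.card_val, Finset.card_univ]
  exact Fintype.card_le_of_surjective _ (Quotient.mk_surjective)

theorem card_orb_eq_iff (σ : Perm Ω) : Multiset.card (orb σ) = Fintype.card Ω ↔ σ = 1 := by
  rw [orb, Multiset.card_map, Finset.card_val, Finset.card_univ]
  constructor
  · intro h
    ext x
    have hinj : Function.Injective (Quotient.mk (Perm.SameCycle.setoid σ)) :=
      ((Fintype.bijective_iff_surjective_and_card _).2 ⟨Quotient.mk_surjective, h.symm⟩).1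
    exact hinj (Quotient.sound ((Perm.sameCycle_apply_left).2 (Perm.SameCycle.refl σ x)))
  · rintro rfl
    refine (Fintype.card_of_bijective (f := Quotient.mk (Perm.SameCycle.setoid (1 : Perm Ω)))
      ⟨fun x y h => ?_, Quotient.mk_surjective⟩).symm
    exact Perm.sameCycle_one.1 (Quotient.exact h)

theorem orb_one : orb (1 : Perm Ω) = Multiset.replicate (Fintype.card Ω) 1 := by
  rw [orb_of_label (1 : Perm Ω) id Function.surjective_id fun x y => (Perm.sameCycle_one).symm]
  refine Multiset.eq_replicate.2 ⟨by simp, fun b hb => ?_⟩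
  obtain ⟨q, -, rfl⟩ := Multiset.mem_map.1 hb
  exact Finset.card_eq_one.2 ⟨q, by ext; simp⟩

/-- The orbit sizes are invariant under relabelling. -/
theorem orb_permCongr {Ω' : Type*} [Fintype Ω'] (e : Ω ≃ Ω') (σ : Perm Ω) :
    orb (e.permCongr σ) = orb σ := by
  have hpow : ∀ (k : ℕ) (x : Ω), ((e.permCongr σ) ^ k) (e x) = e ((σ ^ k) x) := by
    intro k
    induction k with
    | zero => intro x; rfl
    | succ k ih =>
      intro x
      rw [pow_succ', pow_succ', Perm.mul_apply, Perm.mul_apply, ih]
      simp [Equiv.permCongr_apply]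
  rw [orb_of_label (e.permCongr σ)
    (fun y => Quotient.mk (Perm.SameCycle.setoid σ) (e.symm y))
    (fun q => by
      induction q using Quotient.inductionOn with
      | h x => exact ⟨e x, by simp⟩)
    fun y y' => ?_]
  · rw [orb]
    refine Multiset.map_congr rfl fun o _ => ?_
    exact Finset.card_equiv e.symm (fun y => by simp)
  · constructor
    · intro h
      obtain ⟨k, hk⟩ := Perm.SameCycle.exists_nat_pow_eq (Quotient.exact h)
      exact ⟨k, by rw [zpow_natCast, ← e.apply_symm_apply y, hpow, hk, e.apply_symm_apply]⟩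
    · intro h
      obtain ⟨k, hk⟩ := Perm.SameCycle.exists_nat_pow_eq h
      refine Quotient.sound ⟨k, ?_⟩
      rw [zpow_natCast]
      apply e.injective
      rw [← hpow, e.apply_symm_apply, e.apply_symm_apply, hk]

/-- A size of an orbit divides the order. -/
theorem dvd_orderOf_of_mem_orb {σ : Perm Ω} {w : ℕ} (h : w ∈ orb σ) : w ∣ orderOf σ := by
  obtain ⟨o, -, rfl⟩ := Multiset.mem_map.1 h
  induction o using Quotient.inductionOn with
  | h x =>
    have h1 : (MulAction.orbit (Subgroup.zpowers σ) x).ncard ∣ Nat.card (Subgroup.zpowers σ) := by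
      rw [← MulAction.index_stabilizer]; exact Subgroup.index_dvd_card _
    rw [Nat.card_zpowers] at h1
    convert h1 using 1
    rw [← Set.ncard_coe_finset]
    congr 1
    ext y
    simp only [Finset.coe_filter, Finset.mem_univ, true_and, Set.mem_ofPred_eq, Quotient.eq]
    constructor
    · intro hy
      obtain ⟨k, hk⟩ := (Perm.SameCycle.symm hy : σ.SameCycle x y)
      exact ⟨⟨σ ^ k, ⟨k, rfl⟩⟩, hk⟩
    · rintro ⟨⟨_, k, rfl⟩, rfl⟩
      exact Perm.SameCycle.symm ⟨k, rfl⟩

/-! ## Adding a point -/

section Step

variable {α : Type*} [Fintype α] [DecidableEq α]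

/-- Put the new point in front of `a`, or alone. -/
def ins (π : Perm α) (x : Option α) : Perm (Option α) := Perm.decomposeOption.symm (x, π)

theorem ins_apply (π : Perm α) (x y : Option α) : ins π x y = swap none x (y.map π) := by
  simp [ins, Perm.decomposeOption, Equiv.optionCongr_apply]

theorem orb_ins_none (π : Perm α) : orb (ins π none) = 1 ::ₘ orb π := by
  let L : Option α → Option (Orbits π) := Option.map (Quotient.mk _)
  have hins : ∀ y, ins π none y = y.map π := fun y => by simp [ins_apply]
  have hpow : ∀ (k : ℕ) (y : Option α), ((ins π none) ^ k) y = y.map (π ^ k) := by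
    intro k
    induction k with
    | zero => intro y; cases y <;> rfl
    | succ k ih => intro y; rw [pow_succ', Perm.mul_apply, ih, hins]; cases y <;> simp [pow_succ']
  rw [orb_of_label (ins π none) L ?_ ?_, orb]
  · rw [show (Finset.univ : Finset (Option (Orbits π))).val =
      none ::ₘ (Finset.univ : Finset (Orbits π)).val.map some from rfl, Multiset.map_cons,
      Multiset.map_map]
    congr 1
    · exact Finset.card_eq_one.2 ⟨none, by ext y; cases y <;> simp [L]⟩
    · refine Multiset.map_congr rfl fun o _ => ?_
      simp only [Function.comp_apply]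
      rw [← Finset.card_map ⟨some, Option.some_injective α⟩]
      congr 1
      ext y
      cases y <;> simp [L]
  · rintro (_ | q)
    · exact ⟨none, rfl⟩
    · induction q using Quotient.inductionOn with
      | h x => exact ⟨some x, rfl⟩
  · intro y y'
    constructor
    · intro h
      match y, y' with
      | none, none => exact Perm.SameCycle.refl _ _
      | none, some b => simp [L] at h
      | some a, none => simp [L] at h
      | some a, some b =>
        obtain ⟨k, hk⟩ := Perm.SameCycle.exists_nat_pow_eq (Quotient.exact (Option.some.inj h))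
        exact ⟨k, by rw [zpow_natCast, hpow]; simp [hk]⟩
    · intro h
      obtain ⟨k, hk⟩ := Perm.SameCycle.exists_nat_pow_eq h
      rw [hpow] at hk
      subst hk
      cases y with
      | none => rfl
      | some a => exact congrArg some (Quotient.sound ⟨k, by simp⟩)

theorem orb_ins_some (π : Perm α) (a : α) :
    orb (ins π (some a)) =
      (Nat.card {z // π.SameCycle z a} + 1) ::ₘ
        (orb π).erase (Nat.card {z // π.SameCycle z a}) := by
  let σ := ins π (some a)
  let L : Option α → Orbits π := fun y => Quotient.mk _ (y.getD a)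
  have hnone : σ none = some a := by simp [σ, ins_apply]
  have hsome : ∀ z, σ (some z) = if π z = a then none else some (π z) := fun z => by
    simp only [σ, ins_apply, Option.map_some]
    by_cases h : π z = a
    · rw [if_pos h, h, Equiv.swap_apply_right]
    · rw [if_neg h, Equiv.swap_apply_of_ne_of_ne (by simp) (by simpa using h)]
  have hL : ∀ y, L (σ y) = L y := by
    rintro (_ | z)
    · rw [hnone]; rfl
    · rw [hsome]
      split_ifs with h
      · show Quotient.mk _ a = Quotient.mk _ z
        exact Quotient.sound (show π.SameCycle a z from h ▸ (Perm.sameCycle_apply_left).2 (Perm.SameCycle.refl π z))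
      · exact Quotient.sound ((Perm.sameCycle_apply_left).2 (Perm.SameCycle.refl π z))
  have hstep : ∀ z, σ.SameCycle (some z) (some (π z)) := by
    intro z
    by_cases h : π z = a
    · refine ⟨(2 : ℕ), ?_⟩
      rw [zpow_natCast, pow_two, Perm.mul_apply, hsome, if_pos h, hnone, h]
    · refine ⟨1, ?_⟩
      rw [zpow_one, hsome, if_neg h]
  have hrest : ∀ z z', π.SameCycle z z' → σ.SameCycle (some z) (some z') := by
    intro z z' h
    obtain ⟨k, rfl⟩ := Perm.SameCycle.exists_nat_pow_eq h
    clear h
    induction k with
    | zero => exact Perm.SameCycle.refl σ _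
    | succ k ih => rw [pow_succ', Perm.mul_apply]; exact ih.trans (hstep _)
  have hn : σ.SameCycle none (some a) := ⟨1, by rw [zpow_one, hnone]⟩
  have hget : ∀ y : Option α, σ.SameCycle y (some (y.getD a)) := by
    rintro (_ | z)
    · exact hn
    · exact Perm.SameCycle.refl σ _
  rw [orb_of_label σ L ?_ ?_]
  · set o₀ : Orbits π := Quotient.mk _ a with ho₀
    have hc : ∀ o, (Finset.univ.filter fun y => L y = o).card =
        (Finset.univ.filter fun z => Quotient.mk (Perm.SameCycle.setoid π) z = o).card +
          if o₀ = o then 1 else 0 := by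
      intro o
      rw [Finset.card_filter, Finset.card_filter, Fintype.sum_option]
      simp only [L, Option.getD_none, Option.getD_some, ← ho₀]
      ring
    have hw : Nat.card {z // π.SameCycle z a} =
        (Finset.univ.filter fun z => Quotient.mk (Perm.SameCycle.setoid π) z = o₀).card := by
      rw [← Fintype.card_subtype, ← Nat.card_eq_fintype_card]
      exact Nat.card_congr (Equiv.subtypeEquivRight fun z => by rw [ho₀, Quotient.eq]; rfl)
    have hu : (Finset.univ : Finset (Orbits π)).val = o₀ ::ₘ (Finset.univ.erase o₀).val :=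
      (Multiset.cons_erase (Finset.mem_univ o₀)).symm
    simp only [orb, hu, Multiset.map_cons, hw, Multiset.erase_cons_head]
    have hc0 := hc o₀
    rw [if_pos rfl] at hc0
    refine Eq.trans ?_ (congrArg₂ _ hc0 rfl)
    refine congrArg₂ _ (by congr 1; ext; simp) ?_
    refine Multiset.map_congr rfl fun o ho => ?_
    have hc1 := hc o
    rw [if_neg (Ne.symm (Finset.ne_of_mem_erase (Finset.mem_def.2 ho))), add_zero] at hc1
    exact Eq.trans (by congr 1; ext; simp) hc1
  · intro q
    induction q using Quotient.inductionOn with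
    | h x => exact ⟨some x, rfl⟩
  · intro y y'
    constructor
    · intro h
      exact ((hget y).trans (hrest _ _ (Quotient.exact h))).trans (hget y').symm
    · intro h
      obtain ⟨k, rfl⟩ := Perm.SameCycle.exists_nat_pow_eq h
      clear h
      induction k with
      | zero => rfl
      | succ k ih => rw [pow_succ', Perm.mul_apply, hL]; exact ih

end Step

/-! ## The recursion -/

/-- Sum of `g` over the symmetric group of degree `n`. -/
def perSum (n : ℕ) (g : Multiset ℕ → ℤ) : ℤ := ∑ σ : Perm (Fin n), g (orb σ)

/-- The effect of adding a point. -/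
def addPoint (g : Multiset ℕ → ℤ) (L : Multiset ℕ) : ℤ :=
  g (1 ::ₘ L) + (L.map fun w : ℕ => (w : ℤ) * g ((w + 1) ::ₘ L.erase w)).sum

theorem perSum_zero (g : Multiset ℕ → ℤ) : perSum 0 g = g 0 := by
  rw [perSum, Fintype.sum_unique]
  refine congrArg g ?_
  exact Multiset.card_eq_zero.1 (Nat.le_zero.1 (card_orb_le (Ω := Fin 0) _))

theorem perSum_succ (n : ℕ) (g : Multiset ℕ → ℤ) : perSum (n + 1) g = perSum n (addPoint g) := by
  rw [perSum, ← ((finSuccEquiv n).permCongr).symm.sum_comp]
  have h1 : ∀ τ : Perm (Option (Fin n)), orb ((finSuccEquiv n).permCongr.symm τ) = orb τ :=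
    fun τ => by rw [← orb_permCongr (finSuccEquiv n) _, Equiv.apply_symm_apply]
  simp only [h1]
  rw [← (Perm.decomposeOption (α := Fin n)).symm.sum_comp, Fintype.sum_prod_type, Finset.sum_comm,
    perSum]
  refine Finset.sum_congr rfl fun π _ => ?_
  rw [Fintype.sum_option]
  show g (orb (ins π none)) + ∑ a : Fin n, g (orb (ins π (some a))) = addPoint g (orb π)
  rw [orb_ins_none, addPoint]
  congr 1
  set H : ℕ → ℤ := fun w => g ((w + 1) ::ₘ (orb π).erase w) with hH
  have h2 : ∀ a : Fin n, g (orb (ins π (some a))) = H (Finset.univ.filter fun z =>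
      Quotient.mk (Perm.SameCycle.setoid π) z = Quotient.mk (Perm.SameCycle.setoid π) a).card := by
    intro a
    rw [orb_ins_some, hH]
    have : Nat.card {z // π.SameCycle z a} = (Finset.univ.filter fun z =>
        Quotient.mk (Perm.SameCycle.setoid π) z = Quotient.mk (Perm.SameCycle.setoid π) a).card := by
      rw [← Fintype.card_subtype, ← Nat.card_eq_fintype_card]
      exact Nat.card_congr (Equiv.subtypeEquivRight fun z => by rw [Quotient.eq]; rfl)
    rw [this]
  simp only [h2]
  rw [← Finset.sum_fiberwise (Finset.univ : Finset (Fin n))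
    (fun a => Quotient.mk (Perm.SameCycle.setoid π) a)]
  conv_rhs => rw [orb, Multiset.map_map]
  refine Finset.sum_congr rfl fun o _ => ?_
  simp only [Function.comp_apply]
  rw [Finset.sum_congr rfl (fun a ha => by rw [(Finset.mem_filter.1 ha).2]), Finset.sum_const,
    nsmul_eq_mul]
  rfl

/-- The orbit through a distinguished point. -/
theorem perSum_recursion (n : ℕ) : ∀ g : Multiset ℕ → ℤ, perSum (n + 1) g =
    ∑ m ∈ Finset.range (n + 1), (n.descFactorial m : ℤ) *
      perSum (n - m) (fun L => g ((m + 1) ::ₘ L)) := by
  induction n with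
  | zero =>
    intro g
    rw [perSum_succ, perSum_zero]
    simp [addPoint, perSum_zero]
  | succ n ih =>
    intro g
    rw [perSum_succ, ih]
    have hsplit : ∀ m, m ≤ n → perSum (n - m) (fun L => addPoint g ((m + 1) ::ₘ L)) =
        ((m : ℤ) + 1) * perSum (n - m) (fun L => g ((m + 2) ::ₘ L)) +
          perSum (n + 1 - m) (fun L => g ((m + 1) ::ₘ L)) := by
      intro m hm
      rw [show n + 1 - m = (n - m) + 1 by omega, perSum_succ (n - m)]
      rw [perSum, perSum, perSum, Finset.mul_sum, ← Finset.sum_add_distrib]
      refine Finset.sum_congr rfl fun π _ => ?_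
      simp only [addPoint, Multiset.map_cons, Multiset.sum_cons, Multiset.erase_cons_head,
        Multiset.cons_swap 1 (m + 1)]
      have : ((orb π).map fun w : ℕ => (w : ℤ) * g ((w + 1) ::ₘ ((m + 1) ::ₘ orb π).erase w)) =
          (orb π).map fun w : ℕ => (w : ℤ) * g ((m + 1) ::ₘ (w + 1) ::ₘ (orb π).erase w) :=
        Multiset.map_congr rfl fun w hw => by
          rw [Multiset.erase_cons_tail_of_mem hw, Multiset.cons_swap]
      rw [this]
      push_cast
      ring
    rw [Finset.sum_congr rfl fun m hm => by
      rw [hsplit m (Nat.lt_succ_iff.1 (Finset.mem_range.1 hm)), mul_add]]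
    rw [Finset.sum_add_distrib]
    have hB : ∑ m ∈ Finset.range (n + 1), (n.descFactorial m : ℤ) *
        perSum (n + 1 - m) (fun L => g ((m + 1) ::ₘ L)) =
      ∑ m ∈ Finset.range (n + 2), (n.descFactorial m : ℤ) *
        perSum (n + 1 - m) (fun L => g ((m + 1) ::ₘ L)) := by
      rw [Finset.sum_range_succ _ (n + 1), Nat.descFactorial_eq_zero_iff_lt.2 (Nat.lt_succ_self n)]
      simp
    rw [hB, Finset.sum_range_succ' _ (n + 1), Finset.sum_range_succ' _ (n + 1)]
    rw [← add_assoc, ← Finset.sum_add_distrib]
    congr 1
    refine Finset.sum_congr rfl fun m hm => ?_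
    have hm' : m ≤ n := Nat.lt_succ_iff.1 (Finset.mem_range.1 hm)
    rw [show n + 1 - (m + 1) = n - m by omega, show m + 1 + 1 = m + 2 by omega]
    have hd : (n + 1).descFactorial (m + 1) = n.descFactorial (m + 1) + (m + 1) * n.descFactorial m := by
      rw [Nat.succ_descFactorial_succ, Nat.descFactorial_succ, ← add_mul]
      congr 1
      omega
    rw [hd]
    push_cast
    ring

/-- Every multiset of positive numbers occurs. -/
theorem exists_orb : ∀ (n : ℕ) (L : Multiset ℕ), L.sum = n → (∀ w ∈ L, 0 < w) →
    ∃ σ : Perm (Fin n), orb σ = L := by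
  intro n
  induction n with
  | zero =>
    intro L hL hpos
    refine ⟨1, (Multiset.card_eq_zero.1 (Nat.le_zero.1 (card_orb_le (Ω := Fin 0) _))).trans ?_⟩
    refine (Multiset.eq_zero_of_forall_notMem fun w hw => ?_).symm
    have := Multiset.le_sum_of_mem hw
    have := hpos w hw
    omega
  | succ n ih =>
    intro L hL hpos
    obtain ⟨w, hw⟩ : ∃ w, w ∈ L := Multiset.exists_mem_of_ne_zero (by rintro rfl; simp at hL)
    have hsum : L.sum = w + (L.erase w).sum := by
      conv_lhs => rw [← Multiset.cons_erase hw, Multiset.sum_cons]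
    have hpos' : ∀ v ∈ L.erase w, 0 < v := fun v hv => hpos v (Multiset.mem_of_mem_erase hv)
    by_cases h1 : w = 1
    · subst h1
      obtain ⟨π, hπ⟩ := ih (L.erase 1) (by omega) hpos'
      refine ⟨(finSuccEquiv n).permCongr.symm (ins π none), ?_⟩
      rw [← orb_permCongr (finSuccEquiv n), Equiv.apply_symm_apply, orb_ins_none, hπ,
        Multiset.cons_erase hw]
    · have := hpos w hw
      obtain ⟨π, hπ⟩ := ih ((w - 1) ::ₘ L.erase w) (by rw [Multiset.sum_cons]; omega)
        (by
          intro v hv
          rcases Multiset.mem_cons.1 hv with rfl | hv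
          · omega
          · exact hpos' v hv)
      have hmem : w - 1 ∈ orb π := hπ ▸ Multiset.mem_cons_self _ _
      obtain ⟨o, -, ho⟩ := Multiset.mem_map.1 (show w - 1 ∈ orb π from hmem)
      induction o using Quotient.inductionOn with
      | h a =>
        refine ⟨(finSuccEquiv n).permCongr.symm (ins π (some a)), ?_⟩
        have hc : Nat.card {z // π.SameCycle z a} = w - 1 := by
          rw [← ho, ← Fintype.card_subtype, ← Nat.card_eq_fintype_card]
          exact Nat.card_congr (Equiv.subtypeEquivRight fun z => by rw [Quotient.eq]; rfl)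
        rw [← orb_permCongr (finSuccEquiv n), Equiv.apply_symm_apply, orb_ins_some, hc, hπ,
          Multiset.erase_cons_head, show w - 1 + 1 = w by omega, Multiset.cons_erase hw]

end CfsgLib.SymBlocks
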