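import Cfsg.Agent.Lib.SymBlocks.SelfConj

/-!
# Sharper bounds: functions fixed by conjugation, and the prime `2`

For an odd prime the functions compatible with conjugation are determined by half of the runners;
at the prime `2` the drops commute, which gives the bound by partitions.
-/

set_option autoImplicit false
set_option linter.unusedSectionVars false
set_option linter.unusedVariables false
set_option linter.unusedSimpArgs false
set_option linter.style.haveILetI false

noncomputable section

open scoped Classical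

namespace CfsgLib.SymBlocks

open Equiv

variable {n p : ℕ} [NeZero p]

/-- The functions of the space compatible with conjugation. -/
def twSpace (n p : ℕ) [NeZero p] (c : ZMod p → ℕ) (q : ℤ) (κ : ℂ) : Submodule ℂ (Exp n → ℂ) where
  carrier := {a | a ∈ space n p c q ∧ (∀ β, a β ≠ 0 → ∑ i, β i = n + baseDeg n) ∧
    ∀ π : Perm (Fin n ⊕ Fin n), a (mirrorOf π) = κ * ((Perm.sign π : ℤ) : ℂ) * a (beadsOf π)}
  zero_mem' := ⟨Submodule.zero_mem _, fun β h => absurd rfl h, fun π => by simp⟩
  add_mem' := by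
    rintro a b ⟨ha1, ha2, ha3⟩ ⟨hb1, hb2, hb3⟩
    refine ⟨Submodule.add_mem _ ha1 hb1, fun β h => ?_, fun π => ?_⟩
    · rw [Pi.add_apply] at h
      by_cases h1 : a β = 0
      · rw [h1, zero_add] at h
        exact hb2 β h
      · exact ha2 β h1
    · simp only [Pi.add_apply, ha3 π, hb3 π, mul_add]
  smul_mem' := by
    rintro z a ⟨ha1, ha2, ha3⟩
    refine ⟨Submodule.smul_mem _ z ha1, fun β h => ha2 β (right_ne_zero_of_mul h), fun π => ?_⟩
    simp only [Pi.smul_apply, smul_eq_mul, ha3 π]
    ring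

/-- A bead moved up lands on a gap. -/
theorem moves_up {a : Exp n → ℂ} (hanti : AntiSym a)
    (hlt : ∀ β, a β ≠ 0 → ∀ i, β i < 2 * (n : ℤ)) (π : Perm (Fin n ⊕ Fin n)) {m : ℕ} (hm : 0 < m)
    (i : Fin n) : a (beadsOf π + Pi.single i (m : ℤ)) =
      ∑ j, if pos n (π (Sum.inl i)) + (m : ℤ) = pos n (π (Sum.inr j)) then
        a (beadsOf (π * swap (Sum.inl i) (Sum.inr j))) else 0 := by
  by_cases hex : ∃ j, pos n (π (Sum.inl i)) + (m : ℤ) = pos n (π (Sum.inr j))
  · obtain ⟨j, hj⟩ := hex
    rw [Finset.sum_eq_single j (fun j' _ hne => if_neg fun h =>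
      hne (Sum.inr_injective (π.injective (pos_injective (h.symm.trans hj)))))
      (fun h => absurd (Finset.mem_univ _) h), if_pos hj]
    rw [(beadsOf_step π (m := -(m : ℤ)) (by rw [sub_neg_eq_add]; exact hj)).1, Pi.single_neg,
      sub_neg_eq_add]
  · rw [Finset.sum_eq_zero fun j _ => if_neg fun h => hex ⟨j, h⟩]
    by_contra hne
    have h1 := hlt _ hne i
    simp only [beadsOf, Pi.add_apply, Pi.single_eq_same] at h1
    obtain ⟨z, hz⟩ := pos_surj (n := n) (x := pos n (π (Sum.inl i)) + (m : ℤ))
      (by have := pos_nonneg (π (Sum.inl i)); omega) h1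
    obtain ⟨w, rfl⟩ := π.surjective z
    rcases w with k | k
    · have hki : k ≠ i := fun e => by subst e; omega
      refine hne (hanti.eq_zero fun hinj => hki (hinj ?_))
      simp [beadsOf, Pi.single_apply, hki, hz]
    · exact hex ⟨k, hz.symm⟩

theorem drop_mirror_eq_zero {c : ZMod p → ℕ} {q : ℤ} {κ : ℂ} {a : Exp n → ℂ}
    (ha : a ∈ twSpace n p c q κ) {r : ZMod p} {m : ℕ} (hm : 0 < m) (h : drop p r m a = 0) :
    drop p (mirrorRes p n r) m a = 0 := by
  obtain ⟨hsp, hdeg, htw⟩ := ha
  obtain ⟨hanti, hsupp, -⟩ := mem_space.1 hsp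
  have hinj : ∀ β, a β ≠ 0 → Function.Injective β := fun β hβ =>
    by_contra fun h => hβ (hanti.eq_zero h)
  have hlt : ∀ β, a β ≠ 0 → ∀ i, β i < 2 * (n : ℤ) := fun β hβ =>
    lt_two_mul (hinj β hβ) (hsupp β hβ).1 (hdeg β hβ).le
  funext γ
  by_contra hne
  change drop p (mirrorRes p n r) m a γ ≠ 0 at hne
  have hγ : ∀ i, 0 ≤ γ i := by_contra fun h0 => hne (if_neg h0)
  have hd : drop p (mirrorRes p n r) m a γ ≠ 0 := hne
  rw [drop_apply _ _ _ hγ] at hd
  obtain ⟨j₀, -, hj₀⟩ := Finset.exists_ne_zero_of_sum_ne_zero hd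
  have hγinj : Function.Injective γ :=
    by_contra fun h0 => hne ((mem_space.1 (drop_mem_space _ m hsp)).1.eq_zero h0)
  have hγd : ∑ i, γ i ≤ n + baseDeg n := by
    have h1 := hdeg _ hj₀
    simp only [Pi.add_apply, Finset.sum_add_distrib, Finset.sum_pi_single', Finset.mem_univ,
      if_true] at h1
    have : (0 : ℤ) ≤ (p : ℤ) * m := by positivity
    linarith
  obtain ⟨ρ, hρ⟩ := exists_beadsOf_of_deg hγinj hγ hγd
  obtain ⟨π, rfl⟩ : ∃ π, flip π = ρ := ⟨flip ρ, by ext z; simp [flip]⟩
  rw [beadsOf_flip] at hρ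
  subst hρ
  refine hne ?_
  have hzero := congrFun h (beadsOf π)
  rw [Pi.zero_apply, drop_apply _ _ _ (beadsOf_nonneg π)] at hzero
  rw [drop_apply _ _ _ hγ, Finset.sum_filter]
  rw [Finset.sum_filter] at hzero
  have hM : 0 < p * m := Nat.mul_pos (Nat.pos_of_neZero p) hm
  have hcast : ((p : ℤ) * m) = ((p * m : ℕ) : ℤ) := by push_cast; ring
  have e2 : ∀ j, (mirrorOf π + Pi.single j ((p : ℤ) * m)) =
      beadsOf (flip π) + Pi.single j (((p * m : ℕ)) : ℤ) := fun j => by rw [beadsOf_flip, hcast]
  have hR : ∀ j, a (mirrorOf π + Pi.single j ((p : ℤ) * m)) =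
      ∑ i, if pos n (π (Sum.inl i)) + ((p * m : ℕ) : ℤ) = pos n (π (Sum.inr j)) then
        a (mirrorOf (π * swap (Sum.inl i) (Sum.inr j))) else 0 := by
    intro j
    rw [e2 j, moves_up hanti hlt (flip π) hM]
    refine Finset.sum_congr rfl fun i _ => ?_
    have e : flip π * swap (Sum.inl j) (Sum.inr i) = flip (π * swap (Sum.inl i) (Sum.inr j)) := by
      ext z
      simp only [flip, Perm.mul_apply, Equiv.trans_apply]
      congr 2
      rcases z with k | k <;> simp [swap_apply_def, Equiv.sumComm_apply] <;> split_ifs <;> rfl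
    rw [e, beadsOf_flip]
    refine if_congr ?_ rfl rfl
    simp only [flip, Equiv.trans_apply, Equiv.sumComm_apply, Sum.swap_inl, Sum.swap_inr]
    rw [show (π (Sum.inr j)).swap = (Equiv.sumComm _ _) (π (Sum.inr j)) from rfl,
      show (π (Sum.inl i)).swap = (Equiv.sumComm _ _) (π (Sum.inl i)) from rfl, pos_swap,
      pos_swap]
    omega
  have hL : ∀ i, a (beadsOf π + Pi.single i ((p : ℤ) * m)) =
      ∑ j, if pos n (π (Sum.inl i)) + ((p * m : ℕ) : ℤ) = pos n (π (Sum.inr j)) then
        a (beadsOf (π * swap (Sum.inl i) (Sum.inr j))) else 0 := fun i => by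
    rw [hcast]
    exact moves_up hanti hlt π hM i
  simp only [hR]
  simp only [hL] at hzero
  calc _ = -κ * ((Perm.sign π : ℤ) : ℂ) * (∑ i, if ((beadsOf π i : ℤ) : ZMod p) = r then
        ∑ j, if pos n (π (Sum.inl i)) + ((p * m : ℕ) : ℤ) = pos n (π (Sum.inr j)) then
          a (beadsOf (π * swap (Sum.inl i) (Sum.inr j))) else 0 else 0) := by
        have hite : ∀ (P : Prop) [Decidable P] (f : Fin n → ℂ),
            (if P then ∑ i, f i else 0) = ∑ i, if P then f i else 0 := fun P _ f => by
          split_ifs <;> simp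
        simp only [Finset.mul_sum, hite, mul_ite, mul_zero]
        rw [Finset.sum_comm]
        refine Finset.sum_congr rfl fun i _ => Finset.sum_congr rfl fun j _ => ?_
        by_cases hc : pos n (π (Sum.inl i)) + ((p * m : ℕ) : ℤ) = pos n (π (Sum.inr j))
        · have hres : ((mirrorOf π j : ℤ) : ZMod p) = mirrorRes p n r ↔
              ((beadsOf π i : ℤ) : ZMod p) = r := by
            simp only [mirrorOf, beadsOf, ← hc, mirrorRes]
            push_cast
            simp [sub_right_inj]
          simp only [hres, hc, if_true]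
          rw [htw (π * swap (Sum.inl i) (Sum.inr j)), Perm.sign_mul, Perm.sign_swap (by simp)]
          split_ifs
          · push_cast; ring
          · rfl
        · simp only [if_neg hc, ite_self]
    _ = 0 := by rw [hzero, mul_zero]

/-- The functions compatible with conjugation at an odd prime. -/
theorem finrank_twSpace [Fact p.Prime] (hp2 : p ≠ 2) (c : ZMod p → ℕ) (q : ℤ) (κ : ℂ) {v : ℕ}
    (hv : 0 < v) (hq : 2 * q = pairCount c + 2 * (v : ℤ)) :
    FiniteDimensional ℂ (twSpace n p c q κ) ∧
      2 * Module.finrank ℂ (twSpace n p c q κ) ≤ p ^ v - 1 := by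
  have hstep : ∀ j : Fin v, 2 * (q - ((v - (j : ℕ) : ℕ) : ℤ)) = pairCount c + 2 * ((j : ℕ) : ℤ) :=
    fun j => by have := j.2; omega
  haveI : ∀ z : {r : ZMod p // r ∈ halfRes p n} × Fin v,
      FiniteDimensional ℂ (space n p c (q - ((v - (z.2 : ℕ) : ℕ) : ℤ))) :=
    fun z => (finrank_space (N := n) (z.2 : ℕ) c _ (hstep z.2)).1
  let F : twSpace n p c q κ →ₗ[ℂ] (z : {r : ZMod p // r ∈ halfRes p n} × Fin v) →
      space n p c (q - ((v - (z.2 : ℕ) : ℕ) : ℤ)) :=
    LinearMap.pi fun z => LinearMap.codRestrict _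
      ((drop p z.1.1 (v - (z.2 : ℕ))).comp (twSpace n p c q κ).subtype)
      fun a => drop_mem_space _ _ a.2.1
  have hfix : (fixRes p n).Nonempty := by
    rw [← Finset.card_pos]
    have h1 := two_mul_halfRes_add (p := p) (n := n)
    have h2 : p % 2 = 1 := ((Fact.out : p.Prime).eq_two_or_odd).resolve_left hp2
    omega
  obtain ⟨r₀, hr₀⟩ := hfix
  have hF : Function.Injective F := by
    refine (injective_iff_map_eq_zero F).2 fun a ha => Subtype.ext ?_
    have hhalf : ∀ r ∈ halfRes p n, ∀ m, 0 < m → drop p r m (a : Exp n → ℂ) = 0 := by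
      intro r hr m hm
      rcases le_or_gt m v with hmv | hmv
      · have := congrArg Subtype.val (congrFun ha (⟨r, hr⟩, ⟨v - m, by omega⟩))
        simp only [F, LinearMap.pi_apply, LinearMap.codRestrict_apply, LinearMap.comp_apply,
          Submodule.subtype_apply, Pi.zero_apply, ZeroMemClass.coe_zero] at this
        rwa [show v - (v - m) = m by omega] at this
      · have := drop_mem_space r m a.2.1
        rwa [space_eq_bot (by omega), Submodule.mem_bot] at this
    refine eq_zero_of_drop (by omega) a.2.1 r₀ fun r hr m hm => ?_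
    rcases lt_trichotomy r.val (mirrorRes p n r).val with h | h | h
    · exact hhalf r (Finset.mem_filter.2 ⟨Finset.mem_univ _, h⟩) m hm
    · exact absurd (Finset.card_le_one.1 (fixRes_card_le hp2) r
        (Finset.mem_filter.2 ⟨Finset.mem_univ _, (ZMod.val_injective p h).symm⟩) r₀ hr₀) hr
    · rw [← mirrorRes_mirrorRes (p := p) (n := n) r]
      refine drop_mirror_eq_zero a.2 hm (hhalf _ ?_ m hm)
      rw [halfRes, Finset.mem_filter, mirrorRes_mirrorRes]
      exact ⟨Finset.mem_univ _, h⟩
  haveI := Module.Finite.of_injective F hF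
  refine ⟨this, ?_⟩
  have hle := LinearMap.finrank_le_finrank_of_injective hF
  rw [Module.finrank_pi_fintype, Fintype.sum_prod_type] at hle
  have hsum : ∑ x : {r : ZMod p // r ∈ halfRes p n}, ∑ j : Fin v,
      Module.finrank ℂ (space n p c (q - ((v - (j : ℕ) : ℕ) : ℤ))) ≤
      (halfRes p n).card * ∑ j ∈ Finset.range v, p ^ j := by
    refine le_trans (Finset.sum_le_sum
      (g := fun _ : {r : ZMod p // r ∈ halfRes p n} => ∑ j : Fin v, p ^ (j : ℕ))
      fun x _ => Finset.sum_le_sum fun j _ =>
        le_trans (finrank_space (N := n) (j : ℕ) c _ (hstep j)).2 ?_) ?_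
    · split_ifs with hj
      · simp [hj]
      · exact Nat.sub_le _ _
    · rw [Finset.sum_const, Finset.card_univ, smul_eq_mul, Fintype.card_coe,
        Fin.sum_univ_eq_sum_range (fun j => p ^ j)]
  have hh : 2 * (halfRes p n).card ≤ p - 1 := by
    have := two_mul_halfRes_add (p := p) (n := n)
    have := Finset.card_pos.2 ⟨r₀, hr₀⟩
    omega
  have hb := geom_bound p (Nat.pos_of_neZero p) v
  have h3 := Nat.mul_le_mul_left 2 (hle.trans hsum)
  rw [← mul_assoc] at h3
  have h4 : 2 * (halfRes p n).card * ∑ j ∈ Finset.range v, p ^ j ≤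
      (p - 1) * ∑ j ∈ Finset.range v, p ^ j := Nat.mul_le_mul_right _ hh
  omega

/-! ## The prime `2` -/

/-- The drops along one residue commute. -/
theorem drop_comm (r : ZMod p) (k m : ℕ) (a : Exp n → ℂ) :
    drop p r k (drop p r m a) = drop p r m (drop p r k a) := by
  funext γ
  by_cases hγ : ∀ i, 0 ≤ γ i
  swap
  · show (if _ then _ else _) = (if _ then _ else _)
    rw [if_neg hγ, if_neg hγ]
  have hnn : ∀ (i : Fin n) (l : ℕ), ∀ x, 0 ≤ (γ + Pi.single i ((p : ℤ) * l) : Exp n) x := by
    intro i l x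
    simp only [Pi.add_apply, Pi.single_apply]
    have := hγ x
    split_ifs <;> positivity
  rw [drop_apply _ _ _ hγ, drop_apply _ _ _ hγ]
  rw [Finset.sum_congr rfl fun i _ => drop_apply r m a (hnn i k),
    Finset.sum_congr rfl fun i _ => drop_apply r k a (hnn i m)]
  simp only [res_add_single]
  rw [Finset.sum_comm]
  exact Finset.sum_congr rfl fun i _ => Finset.sum_congr rfl fun j _ => by rw [add_right_comm]

/-- The functions killed by the first drop. -/
def kerOne (n : ℕ) (c : ZMod 2 → ℕ) (q : ℤ) : Submodule ℂ (Exp n → ℂ) :=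
  space n 2 c q ⊓ LinearMap.ker (drop (N := n) 2 (1 : ZMod 2) 1)

/-- The bound on the functions killed by the first drop. -/
def kerBound (v : ℕ) : ℕ := if v = 1 then 0 else if v ≤ 2 then 1 else 2 ^ (v - 3)

theorem zmod_two_eq_one {r : ZMod 2} (h : r ≠ 0) : r = 1 := by
  revert r
  decide

theorem sum_kerBound : ∀ v, ∑ j ∈ Finset.range (v + 3), kerBound j ≤ 2 ^ v + 1 := by
  intro v
  induction v with
  | zero => decide
  | succ v ih =>
    have hk : kerBound (v + 3) = 2 ^ v := by
      simp [kerBound]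
    rw [Finset.sum_range_succ, hk, pow_succ]
    omega

theorem finrank_kerOne (v : ℕ) : ∀ (c : ZMod 2 → ℕ) (q : ℤ), 2 * q = pairCount c + 2 * (v : ℤ) →
    FiniteDimensional ℂ (kerOne n c q) ∧ Module.finrank ℂ (kerOne n c q) ≤ kerBound v := by
  induction v using Nat.strong_induction_on with
  | _ v ih =>
  intro c q hq
  rcases Nat.eq_zero_or_pos v with rfl | hv
  · obtain ⟨h1, h2⟩ := finrank_space (N := n) 0 c q hq
    haveI := h1
    exact ⟨Submodule.finiteDimensional_inf_left _ _,
      le_trans (Submodule.finrank_mono inf_le_left) (le_trans h2 (by decide))⟩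
  have hstep : ∀ j : Fin (v - 1),
      2 * (q - ((v - (j : ℕ) : ℕ) : ℤ)) = pairCount c + 2 * ((j : ℕ) : ℤ) :=
    fun j => by have := j.2; omega
  haveI : ∀ j : Fin (v - 1), FiniteDimensional ℂ (kerOne n c (q - ((v - (j : ℕ) : ℕ) : ℤ))) :=
    fun j => (ih j (by omega) c _ (hstep j)).1
  let F : kerOne n c q →ₗ[ℂ] (j : Fin (v - 1)) → kerOne n c (q - ((v - (j : ℕ) : ℕ) : ℤ)) :=
    LinearMap.pi fun j => LinearMap.codRestrict _
      ((drop 2 1 (v - (j : ℕ))).comp (kerOne n c q).subtype) fun a =>
        Submodule.mem_inf.2 ⟨drop_mem_space _ _ (Submodule.mem_inf.1 a.2).1, by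
          rw [LinearMap.mem_ker, LinearMap.comp_apply, Submodule.subtype_apply, drop_comm,
            LinearMap.mem_ker.1 (Submodule.mem_inf.1 a.2).2, map_zero]⟩
  have hF : Function.Injective F := by
    refine (injective_iff_map_eq_zero F).2 fun a ha => Subtype.ext ?_
    refine eq_zero_of_drop (by omega) (Submodule.mem_inf.1 a.2).1 0 fun r hr m hm => ?_
    obtain rfl : r = 1 := zmod_two_eq_one hr
    rcases eq_or_lt_of_le (show 1 ≤ m from hm) with e | e
    · rw [← e]; exact LinearMap.mem_ker.1 (Submodule.mem_inf.1 a.2).2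
    rcases le_or_gt m v with hmv | hmv
    · have := congrArg Subtype.val (congrFun ha ⟨v - m, by omega⟩)
      simp only [F, LinearMap.pi_apply, LinearMap.codRestrict_apply, LinearMap.comp_apply,
        Submodule.subtype_apply, Pi.zero_apply, ZeroMemClass.coe_zero] at this
      rwa [show v - (v - m) = m by omega] at this
    · have := drop_mem_space (1 : ZMod 2) m (Submodule.mem_inf.1 a.2).1
      rwa [space_eq_bot (by omega), Submodule.mem_bot] at this
  haveI := Module.Finite.of_injective F hF
  refine ⟨this, (LinearMap.finrank_le_finrank_of_injective hF).trans ?_⟩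
  rw [Module.finrank_pi_fintype]
  refine (Finset.sum_le_sum (g := fun j : Fin (v - 1) => kerBound j)
    fun j _ => (ih j (by omega) c _ (hstep j)).2).trans ?_
  rw [Fin.sum_univ_eq_sum_range kerBound]
  rcases eq_or_ne v 1 with rfl | h1
  · simp
  rcases lt_or_ge v 4 with h4 | h4
  · interval_cases v <;> decide
  · obtain ⟨w, rfl⟩ : ∃ w, v = w + 4 := ⟨v - 4, by omega⟩
    rw [show w + 4 - 1 = w + 3 by omega]
    refine (sum_kerBound w).trans ?_
    simp only [kerBound]
    rw [if_neg (by omega), if_neg (by omega), show w + 4 - 3 = w + 1 by omega, pow_succ]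
    have : 0 < 2 ^ w := by positivity
    omega

/-- The bound by partitions at the prime `2`. -/
theorem finrank_space_two : ∀ (v : ℕ), 2 ≤ v → ∀ (c : ZMod 2 → ℕ) (q : ℤ),
    2 * q = pairCount c + 2 * (v : ℤ) → Module.finrank ℂ (space n 2 c q) ≤ 2 ^ (v - 2) + 1 := by
  intro v hv
  induction v, hv using Nat.le_induction with
  | base =>
    intro c q hq
    haveI := (finrank_space (N := n) 2 c q hq).1
    haveI := (finrank_space (N := n) 1 c (q - (1 : ℕ)) (by push_cast at hq ⊢; linarith)).1
    let T : space n 2 c q →ₗ[ℂ] space n 2 c (q - (1 : ℕ)) :=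
      LinearMap.codRestrict _ ((drop 2 1 1).comp (space n 2 c q).subtype)
        fun a => drop_mem_space _ _ a.2
    have h1 := LinearMap.finrank_range_add_finrank_ker T
    have h2 : Module.finrank ℂ T.range ≤ 1 :=
      (Submodule.finrank_le _).trans
        (finrank_space (N := n) 1 c (q - (1 : ℕ)) (by push_cast at hq ⊢; linarith)).2
    haveI := (finrank_kerOne (n := n) 2 c q hq).1
    have h3 : Module.finrank ℂ T.ker ≤ 1 := by
      refine le_trans (LinearMap.finrank_le_finrank_of_injective
        (f := LinearMap.codRestrict (kerOne n c q) ((space n 2 c q).subtype.comp T.ker.subtype)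
          fun a => Submodule.mem_inf.2 ⟨a.1.2, LinearMap.mem_ker.2
            (congrArg Subtype.val (LinearMap.mem_ker.1 a.2))⟩)
        fun a b h => Subtype.ext (Subtype.ext (congrArg Subtype.val h :)))
        (finrank_kerOne (n := n) 2 c q hq).2
    rw [show 2 - 2 = 0 from rfl, pow_zero]
    omega
  | succ v hv ih =>
    intro c q hq
    haveI := (finrank_space (N := n) (v + 1) c q hq).1
    have hq' : 2 * (q - (1 : ℕ)) = pairCount c + 2 * (v : ℤ) := by push_cast at hq ⊢; linarith
    haveI := (finrank_space (N := n) v c _ hq').1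
    let T : space n 2 c q →ₗ[ℂ] space n 2 c (q - (1 : ℕ)) :=
      LinearMap.codRestrict _ ((drop 2 1 1).comp (space n 2 c q).subtype)
        fun a => drop_mem_space _ _ a.2
    have h1 := LinearMap.finrank_range_add_finrank_ker T
    have h2 : Module.finrank ℂ T.range ≤ 2 ^ (v - 2) + 1 :=
      (Submodule.finrank_le _).trans (ih c _ hq')
    haveI := (finrank_kerOne (n := n) (v + 1) c q hq).1
    have h3 : Module.finrank ℂ T.ker ≤ 2 ^ (v - 2) := by
      refine le_trans (LinearMap.finrank_le_finrank_of_injective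
        (f := LinearMap.codRestrict (kerOne n c q) ((space n 2 c q).subtype.comp T.ker.subtype)
          fun a => Submodule.mem_inf.2 ⟨a.1.2, LinearMap.mem_ker.2
            (congrArg Subtype.val (LinearMap.mem_ker.1 a.2))⟩)
        fun a b h => Subtype.ext (Subtype.ext (congrArg Subtype.val h :))) ?_
      refine (finrank_kerOne (n := n) (v + 1) c q hq).2.trans ?_
      rw [kerBound, if_neg (by omega), if_neg (by omega), show v + 1 - 3 = v - 2 by omega]
    rw [show v + 1 - 2 = v - 2 + 1 by omega, pow_succ]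
    omega

end CfsgLib.SymBlocks
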