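import Cfsg.Agent.Lib.SymBlocks.Content
import Cfsg.Agent.Lib.Blocks.CentralChar
import Cfsg.Agent.Lib.Blocks.ClassCount
import Cfsg.Agent.Lib.Blocks.BlockParts
import Mathlib.Algebra.Polynomial.Roots

/-!
# Residues of the exponents are invariants of the blocks

Characters in one block have congruent content polynomials, hence the same numbers of exponents
in each residue class.
-/

set_option autoImplicit false
set_option linter.unusedSectionVars false
set_option linter.unusedVariables false
set_option linter.unusedSimpArgs false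

noncomputable section

open scoped Classical

namespace CfsgLib.SymBlocks

open Equiv Cfsg CfsgLib.Blocks Polynomial CfsgLib.Characters CfsgLib.ClassCount

variable {N n p : ℕ} {M : Ideal AlgInt}

/-- The number of exponents in each residue class. -/
def resCount (p : ℕ) (β : Exp N) (r : ZMod p) : ℕ :=
  (Finset.univ.filter fun i => (β i : ZMod p) = r).card

theorem resCount_comp (p : ℕ) (β : Exp N) (τ : Perm (Fin N)) :
    resCount p (β ∘ τ) = resCount p β := by
  funext r
  exact Finset.card_equiv τ fun i => by simp [Function.comp]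


/-- A representative of a class. -/
def crep {G : Type*} [Group G] (c : ConjClasses G) : G := (ConjClasses.exists_rep c).choose

theorem mk_crep {G : Type*} [Group G] (c : ConjClasses G) : ConjClasses.mk (crep c) = c :=
  (ConjClasses.exists_rep c).choose_spec

theorem sum_classes_centralChar {G : Type*} [Group G] [Fintype G] (ψ : IrrCharacter G)
    (P : G → Prop) [DecidablePred P] (hP : ∀ g h, IsConj g h → (P g ↔ P h)) :
    ∑ c : ConjClasses G, (if P (crep c) then centralChar (ψ : G → ℂ) (crep c) else 0) =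
      (∑ g ∈ Finset.univ.filter P, (ψ : G → ℂ) g) / (ψ : G → ℂ) 1 := by
  rw [Finset.sum_filter, ← Finset.sum_fiberwise Finset.univ (ConjClasses.mk : G → ConjClasses G),
    Finset.sum_div]
  refine Finset.sum_congr rfl fun c _ => ?_
  have hc : (Finset.univ.filter fun g => ConjClasses.mk g = c) = cls (crep c) := by
    ext g
    rw [mem_cls, Finset.mem_filter]
    simp only [Finset.mem_univ, true_and]
    rw [isConj_comm, ← ConjClasses.mk_eq_mk_iff_isConj, mk_crep]
  rw [hc]
  by_cases hcP : P (crep c)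
  · rw [if_pos hcP, Finset.sum_congr rfl fun g hg => by
      rw [if_pos ((hP _ _ (mem_cls.1 hg)).1 hcP)]]
    rw [Finset.sum_congr rfl fun g hg => show (ψ : G → ℂ) g = (ψ : G → ℂ) (crep c) by
      obtain ⟨t, ht⟩ := isConj_iff.1 (mem_cls.1 hg)
      rw [← ht]
      exact irr_isClassFunction ψ _ _]
    rw [Finset.sum_const, card_cls, nsmul_eq_mul, centralChar]
  · rw [if_neg hcP, Finset.sum_eq_zero fun g hg => if_neg fun h =>
      hcP ((hP _ _ (mem_cls.1 hg)).2 h), zero_div]

theorem orb_conj {Ω : Type*} [Fintype Ω] (σ τ : Perm Ω) : orb (τ * σ * τ⁻¹) = orb σ := by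
  rw [← orb_permCongr τ σ]
  congr 1

/-- The coefficients of the content product from the central character. -/
theorem coeff_rootPoly {β : Exp N} (hβ : Adm n β) (hle : ∀ i : Fin N, ((i : ℕ) : ℤ) ≤ β i)
    {ψ : IrrCharacter (Perm (Fin n))} {ε : ℂ} (hε : ε ≠ 0)
    (hψ : (chi β : Perm (Fin n) → ℂ) = ε • (ψ : Perm (Fin n) → ℂ)) (m : ℕ) :
    (((rootPoly β).coeff m : ℤ) : ℂ) = ∑ c : ConjClasses (Perm (Fin n)),
      (if Multiset.card (orb (crep c)) = m then centralChar (ψ : Perm (Fin n) → ℂ) (crep c) else 0) := by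
  have hsum := sum_classes_centralChar ψ (fun σ => Multiset.card (orb σ) = m) fun g h hgh => by
    obtain ⟨t, rfl⟩ := isConj_iff.1 hgh
    rw [orb_conj]
  refine Eq.trans ?_ (hsum.symm.trans (Finset.sum_congr (by ext; simp) fun c _ =>
    if_congr Iff.rfl rfl rfl))
  have h1 : ∀ σ, (ψ : Perm (Fin n) → ℂ) σ = ε⁻¹ * (phi (orb σ) β : ℂ) := fun σ => by
    rw [show (phi (orb σ) β : ℂ) = ε * (ψ : Perm (Fin n) → ℂ) σ from congrFun hψ σ,
      inv_mul_cancel_left₀ hε]
  have h := congrArg (fun P : ℤ[X] => ((P.coeff m : ℤ) : ℂ)) (contentPoly_eq hle hβ.deg)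
  simp only [contentPoly, finsetSum_coeff, coeff_C_mul, coeff_X_pow, mul_ite, mul_one, mul_zero,
    Int.cast_sum, Int.cast_mul, Int.cast_ite, Int.cast_zero] at h
  rw [eq_div_iff (irr_one_ne_zero ψ), Finset.sum_filter, h1 1, ← mul_assoc, mul_comm _ ε⁻¹,
    mul_assoc, mul_comm _ ((phi (orb (1 : Perm (Fin n))) β : ℂ)), ← h, Finset.mul_sum]
  refine Finset.sum_congr rfl fun σ _ => ?_
  rw [h1, mul_ite, mul_zero]
  exact if_congr eq_comm rfl rfl

/-- The number of cells of the given residue. -/
def cellCount (p : ℕ) (β : Exp N) (j : ZMod p) : ℕ :=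
  ∑ i : Fin N, ((Finset.Ioc ((i : ℕ) : ℤ) (β i)).filter fun x : ℤ => (x : ZMod p) = j).card

theorem cellCount_telescope {a b : ℤ} (h : a ≤ b) (j : ZMod p) :
    (((Finset.Ioc a b).filter fun x : ℤ => (x : ZMod p) = j).card : ℤ) -
      ((Finset.Ioc a b).filter fun x : ℤ => (x : ZMod p) = j + 1).card =
      (if (b : ZMod p) = j then 1 else 0) - if (a : ZMod p) = j then 1 else 0 := by
  refine Int.leInduction (by simp) (fun c hc ih => ?_) b h
  have e : Finset.Ioc a (c + 1) = insert (c + 1) (Finset.Ioc a c) := by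
    ext x
    simp only [Finset.mem_Ioc, Finset.mem_insert]
    omega
  have hc' : (((c + 1 : ℤ) : ZMod p) = j + 1) ↔ ((c : ZMod p) = j) := by
    push_cast
    exact add_left_inj _
  rw [e, Finset.filter_insert, Finset.filter_insert]
  simp only [hc']
  split_ifs at ih ⊢ <;> first
    | (rw [Finset.card_insert_of_notMem (by simp), Finset.card_insert_of_notMem (by simp)]
       push_cast
       linarith)
    | (rw [Finset.card_insert_of_notMem (by simp)]
       push_cast
       linarith)
    | linarith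

theorem resCount_sub {β : Exp N} (hle : ∀ i : Fin N, ((i : ℕ) : ℤ) ≤ β i) (j : ZMod p) :
    (resCount p β j : ℤ) = (cellCount p β j : ℤ) - cellCount p β (j + 1) +
      resCount p (fun i : Fin N => ((i : ℕ) : ℤ)) j := by
  simp only [cellCount, resCount, Nat.cast_sum]
  rw [Finset.card_filter, Finset.card_filter, Nat.cast_sum, Nat.cast_sum, ← Finset.sum_sub_distrib, ← Finset.sum_add_distrib]
  refine Finset.sum_congr rfl fun i _ => ?_
  rw [cellCount_telescope (hle i) j]
  push_cast
  ring

theorem roots_rootPoly [Fact p.Prime] (β : Exp N) (j : ZMod p) :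
    (((rootPoly β).map (Int.castRingHom (ZMod p))).roots).count ((N : ZMod p) - j) =
      cellCount p β j := by
  have e : (rootPoly β).map (Int.castRingHom (ZMod p)) =
      ∏ z ∈ (Finset.univ : Finset (Fin N)).sigma (fun i => Finset.Ioc ((i : ℕ) : ℤ) (β i)),
        (X - C ((N : ZMod p) - (z.2 : ZMod p))) := by
    rw [Finset.prod_sigma, rootPoly, Polynomial.map_prod]
    refine Finset.prod_congr rfl fun i _ => ?_
    rw [Polynomial.map_prod]
    refine Finset.prod_congr rfl fun x _ => ?_
    rw [Polynomial.map_add, map_X, map_C, eq_intCast, Int.cast_sub, Int.cast_natCast,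
      sub_eq_add_neg X, ← C_neg, neg_sub]
  rw [e, Finset.prod_eq_multiset_prod]
  rw [show (fun z : (_ : Fin N) × ℤ => (X : (ZMod p)[X]) - C ((N : ZMod p) - (z.2 : ZMod p))) =
    (fun a : ZMod p => (X : (ZMod p)[X]) - C a) ∘ (fun z : (_ : Fin N) × ℤ => (N : ZMod p) - (z.2 : ZMod p)) from rfl,
    ← Multiset.map_map, roots_multiset_prod_X_sub_C, Multiset.count_map]
  simp only [sub_right_inj, eq_comm (a := j)]
  rw [← Finset.filter_val, Finset.card_val, Finset.card_filter, Finset.sum_sigma, cellCount]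
  exact Finset.sum_congr rfl fun i _ => by rw [Finset.card_filter]

/-- Characters in one block have the same numbers of exponents in each residue class. -/
theorem resCount_eq_of_sameBlock [Fact p.Prime] (hM : IsPModular p M) {β γ : Exp N}
    (hβ : Adm n β) (hγ : Adm n γ) {ψ φ : IrrCharacter (Perm (Fin n))} {ε δ : ℂ} (hε : ε ≠ 0)
    (hδ : δ ≠ 0) (hψ : (chi β : Perm (Fin n) → ℂ) = ε • (ψ : Perm (Fin n) → ℂ))
    (hφ : (chi γ : Perm (Fin n) → ℂ) = δ • (φ : Perm (Fin n) → ℂ))
    (h : SameBlock M (ψ : Perm (Fin n) → ℂ) (φ : Perm (Fin n) → ℂ)) :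
    resCount p β = resCount p γ := by
  obtain ⟨τ, -, hτ⟩ := exists_sort β hβ.inj hβ.nonneg
  obtain ⟨ρ, -, hρ⟩ := exists_sort γ hγ.inj hγ.nonneg
  have adm : ∀ {ζ : Exp N}, Adm n ζ → ∀ π : Perm (Fin N), Adm n (ζ ∘ π) := fun {ζ} hζ π =>
    ⟨hζ.inj.comp π.injective, fun i => hζ.nonneg _, by
      rw [← hζ.deg, ← Equiv.sum_comp π ζ]; rfl⟩
  have hs : ∀ π : Perm (Fin N), ((Perm.sign π : ℤ) : ℂ) ≠ 0 := fun π => by
    rcases Int.units_eq_one_or (Perm.sign π) with h | h <;> simp [h]
  have hc : ∀ m, ((rootPoly (β ∘ τ)).coeff m : ZMod p) = (rootPoly (γ ∘ ρ)).coeff m := by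
    intro m
    have e1 := coeff_rootPoly (adm hβ τ) hτ (mul_ne_zero (hs τ) hε) (ψ := ψ)
      (by rw [chi_comp, hψ, smul_smul]) m
    have e2 := coeff_rootPoly (adm hγ ρ) hρ (mul_ne_zero (hs ρ) hδ) (ψ := φ)
      (by rw [chi_comp, hφ, smul_smul]) m
    have hm : MemLocalIdeal M
        ((((rootPoly (β ∘ τ)).coeff m - (rootPoly (γ ∘ ρ)).coeff m : ℤ) : AlgInt) : ℂ) := by
      push_cast
      rw [e1, e2, ← Finset.sum_sub_distrib]
      refine MemLocalIdeal.sum hM _ fun c _ => ?_
      split_ifs with hcm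
      · exact h (crep c)
      · rw [sub_zero]; exact memLocalIdeal_zero hM
    rw [memLocalIdeal_coe_iff hM, intCast_mem_iff hM, ← ZMod.intCast_zmod_eq_zero_iff_dvd,
      Int.cast_sub, sub_eq_zero] at hm
    exact hm
  have hpoly : (rootPoly (β ∘ τ)).map (Int.castRingHom (ZMod p)) =
      (rootPoly (γ ∘ ρ)).map (Int.castRingHom (ZMod p)) :=
    Polynomial.ext fun m => by simpa [coeff_map] using hc m
  funext j
  rw [← resCount_comp p β τ, ← resCount_comp p γ ρ]
  have h1 := resCount_sub (p := p) (β := β ∘ ⇑τ) hτ j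
  have h2 := resCount_sub (p := p) (β := γ ∘ ⇑ρ) hρ j
  rw [← roots_rootPoly, ← roots_rootPoly, hpoly, roots_rootPoly, roots_rootPoly] at h1
  omega

end CfsgLib.SymBlocks
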