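import Cfsg.Agent.Lib.SymBlocks.Separation
import Mathlib.LinearAlgebra.Dimension.Constructions
import Mathlib.LinearAlgebra.FiniteDimensional.Basic

/-!
# Antisymmetric functions killed by moving beads down the runners

A function on the exponent vectors with given residue counts which is annihilated by all the
operators "add `p * m` to one exponent" is determined by its parts along the nonzero residues, one
weight lower; so the space of these functions has dimension below `p ^ weight`.
-/

set_option autoImplicit false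
set_option linter.unusedSectionVars false
set_option linter.unusedVariables false
set_option linter.unusedSimpArgs false
set_option linter.style.haveILetI false

noncomputable section

open scoped Classical

namespace CfsgLib.SymBlocks

open Equiv

variable {N p : ℕ} [NeZero p]

/-- The sum of the levels of the exponents. -/
def qSum (p : ℕ) (β : Exp N) : ℤ := ∑ i, β i / (p : ℤ)

/-- Twice the least possible sum of levels. -/
def pairCount (c : ZMod p → ℕ) : ℤ := ∑ r, (c r : ℤ) * ((c r : ℤ) - 1)

theorem res_eq_iff {x y : ℤ} : (x : ZMod p) = (y : ZMod p) ↔ x % (p : ℤ) = y % (p : ℤ) :=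
  ZMod.intCast_eq_intCast_iff' x y p

theorem qSum_add_single (γ : Exp N) (i : Fin N) (m : ℤ) :
    qSum p (γ + Pi.single i ((p : ℤ) * m)) = qSum p γ + m := by
  have hp : (p : ℤ) ≠ 0 := by exact_mod_cast NeZero.ne p
  have e : ∀ j, (γ + Pi.single i ((p : ℤ) * m) : Exp N) j / (p : ℤ) =
      γ j / (p : ℤ) + if j = i then m else 0 := fun j => by
    simp only [Pi.add_apply, Pi.single_apply]
    split_ifs
    · rw [Int.add_mul_ediv_left _ _ hp]
    · simp
  rw [qSum, qSum, Finset.sum_congr rfl fun j _ => e j, Finset.sum_add_distrib]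
  simp

theorem res_add_single (γ : Exp N) (i j : Fin N) (m : ℤ) :
    (((γ + Pi.single i ((p : ℤ) * m) : Exp N) j : ℤ) : ZMod p) = (γ j : ZMod p) := by
  simp only [Pi.add_apply, Pi.single_apply]
  split_ifs <;> simp

theorem resCount_add_single (γ : Exp N) (i : Fin N) (m : ℤ) :
    resCount p (γ + Pi.single i ((p : ℤ) * m)) = resCount p γ := by
  funext r
  simp only [resCount, res_add_single]

theorem qSum_comp (γ : Exp N) (τ : Perm (Fin N)) : qSum p (γ ∘ τ) = qSum p γ :=
  Equiv.sum_comp τ (fun i => γ i / (p : ℤ))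

theorem card_samePairs (β : Exp N) :
    ((samePairs p β).card : ℤ) = pairCount (resCount p β) := by
  have h1 : ∀ i : Fin N,
      (((Finset.univ.filter fun k => i ≠ k ∧ (p : ℤ) ∣ β k - β i).card : ℕ) : ℤ) =
      (resCount p β (β i : ZMod p) : ℤ) - 1 := by
    intro i
    have e : (Finset.univ.filter fun k => i ≠ k ∧ (p : ℤ) ∣ β k - β i) =
        (Finset.univ.filter fun k => (β k : ZMod p) = (β i : ZMod p)).erase i := by
      ext k
      simp only [Finset.mem_filter, Finset.mem_univ, true_and, Finset.mem_erase]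
      rw [eq_comm (a := (β k : ZMod p)), ZMod.intCast_eq_intCast_iff_dvd_sub, ne_comm]
    rw [e, Finset.card_erase_of_mem (by simp)]
    have : 0 < resCount p β (β i : ZMod p) := Finset.card_pos.2 ⟨i, by simp⟩
    rw [resCount] at this ⊢
    omega
  rw [samePairs, Finset.card_filter, Nat.cast_sum, Fintype.sum_prod_type]
  simp only [← Nat.cast_sum, ← Finset.card_filter, h1]
  rw [← Finset.sum_fiberwise Finset.univ (fun i : Fin N => (β i : ZMod p)), pairCount]
  refine Finset.sum_congr rfl fun r _ => ?_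
  rw [Finset.sum_congr rfl fun i hi => show (resCount p β (β i : ZMod p) : ℤ) - 1 =
    (resCount p β r : ℤ) - 1 by rw [(Finset.mem_filter.1 hi).2]]
  rw [Finset.sum_const, nsmul_eq_mul]
  rfl

/-- The number of smaller exponents in the same residue class. -/
def rankIn (p : ℕ) (β : Exp N) (i : Fin N) : ℕ :=
  (Finset.univ.filter fun k => (β k : ZMod p) = (β i : ZMod p) ∧ β k < β i).card

theorem eq_of_res_of_div {x y : ℤ} (h : (x : ZMod p) = (y : ZMod p))
    (hd : x / (p : ℤ) = y / (p : ℤ)) : x = y := by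
  rw [← Int.mul_ediv_add_emod x p, ← Int.mul_ediv_add_emod y p, hd, res_eq_iff.1 h]

theorem rankIn_le {β : Exp N} (hinj : Function.Injective β) (h0 : ∀ i, 0 ≤ β i) (i : Fin N) :
    (rankIn p β i : ℤ) ≤ β i / (p : ℤ) := by
  have hp : (0 : ℤ) < p := by exact_mod_cast Nat.pos_of_neZero p
  have h2 : rankIn p β i ≤ (Finset.range (β i / (p : ℤ)).toNat).card := by
    refine Finset.card_le_card_of_injOn (fun k => (β k / (p : ℤ)).toNat) (fun k hk => ?_) ?_
    · obtain ⟨hres, hlt⟩ := (Finset.mem_filter.1 (Finset.mem_coe.1 hk)).2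
      refine Finset.mem_coe.2 (Finset.mem_range.2 ?_)
      have h0k := Int.ediv_nonneg (h0 k) hp.le
      have hne : β k / (p : ℤ) ≠ β i / (p : ℤ) := fun h => hlt.ne (eq_of_res_of_div hres h)
      have hle := Int.ediv_le_ediv hp hlt.le
      show (β k / (p : ℤ)).toNat < _
      omega
    · intro k hk l hl h
      obtain ⟨hresk, -⟩ := (Finset.mem_filter.1 (Finset.mem_coe.1 hk)).2
      obtain ⟨hresl, -⟩ := (Finset.mem_filter.1 (Finset.mem_coe.1 hl)).2
      have h0k := Int.ediv_nonneg (h0 k) hp.le
      have h0l := Int.ediv_nonneg (h0 l) hp.le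
      simp only at h
      exact hinj (eq_of_res_of_div (hresk.trans hresl.symm) (by omega))
  rw [Finset.card_range] at h2
  have := Int.ediv_nonneg (h0 i) hp.le
  omega

theorem two_mul_sum_rankIn {β : Exp N} (hinj : Function.Injective β) :
    2 * ∑ i, rankIn p β i = (samePairs p β).card := by
  have e1 : ∑ i, rankIn p β i = ((samePairs p β).filter fun z => β z.2 < β z.1).card := by
    rw [samePairs, Finset.filter_filter, Finset.card_filter, Fintype.sum_prod_type]
    refine Finset.sum_congr rfl fun i _ => ?_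
    rw [← Finset.card_filter, rankIn]
    congr 1
    ext k
    simp only [Finset.mem_filter, Finset.mem_univ, true_and]
    rw [eq_comm (a := (β k : ZMod p)), ZMod.intCast_eq_intCast_iff_dvd_sub]
    exact ⟨fun h => ⟨⟨fun e => h.2.ne (e ▸ rfl), h.1⟩, h.2⟩, fun h => ⟨h.1.2, h.2⟩⟩
  have e2 : ((samePairs p β).filter fun z => ¬ β z.2 < β z.1).card =
      ((samePairs p β).filter fun z => β z.2 < β z.1).card := by
    refine Finset.card_equiv (Equiv.prodComm _ _) fun z => ?_
    simp only [samePairs, Finset.mem_filter, Finset.mem_univ, true_and, Equiv.prodComm_apply,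
      Prod.fst_swap, Prod.snd_swap]
    rw [← dvd_neg, neg_sub, ne_comm]
    constructor
    · rintro ⟨⟨hne, hd⟩, hlt⟩
      exact ⟨⟨hne, hd⟩, lt_of_le_of_ne (not_lt.1 hlt) fun e => hne (hinj e).symm⟩
    · rintro ⟨h, hlt⟩
      exact ⟨h, hlt.not_gt⟩
  rw [e1, two_mul]
  nth_rw 2 [← e2]
  exact Finset.card_filter_add_card_filter_not _

theorem pairCount_le {β : Exp N} (hinj : Function.Injective β) (h0 : ∀ i, 0 ≤ β i) :
    pairCount (resCount p β) ≤ 2 * qSum p β := by
  rw [← card_samePairs, ← two_mul_sum_rankIn hinj, qSum]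
  push_cast
  linarith [Finset.sum_le_sum fun i (_ : i ∈ (Finset.univ : Finset (Fin N))) =>
    rankIn_le (p := p) hinj h0 i]

theorem eq_comp_of_min {β γ : Exp N} (hβ : Function.Injective β) (hβ0 : ∀ i, 0 ≤ β i)
    (hγ : Function.Injective γ) (hγ0 : ∀ i, 0 ≤ γ i) (hc : resCount p β = resCount p γ)
    (hβm : 2 * qSum p β = pairCount (resCount p β))
    (hγm : 2 * qSum p γ = pairCount (resCount p γ)) : ∃ π : Perm (Fin N), β = γ ∘ π := by
  have hp : (0 : ℤ) < p := by exact_mod_cast Nat.pos_of_neZero p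
  have key : ∀ {ζ : Exp N}, Function.Injective ζ → (∀ i, 0 ≤ ζ i) →
      2 * qSum p ζ = pairCount (resCount p ζ) → ∀ i,
      ζ i / (p : ℤ) = rankIn p ζ i ∧ rankIn p ζ i < resCount p ζ (ζ i : ZMod p) := by
    intro ζ hζ hζ0 hm i
    refine ⟨?_, ?_⟩
    · refine ((Finset.sum_eq_sum_iff_of_le fun j _ => rankIn_le (p := p) hζ hζ0 j).1 ?_ i
        (Finset.mem_univ i)).symm
      rw [← card_samePairs, ← two_mul_sum_rankIn hζ] at hm
      push_cast at hm
      rw [qSum] at hm
      linarith
    · refine Finset.card_lt_card ⟨fun k hk => ?_, fun h => ?_⟩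
      · simp only [Finset.mem_filter, Finset.mem_univ, true_and] at hk ⊢
        exact hk.1
      · have := h (show i ∈ Finset.univ.filter (fun k => (ζ k : ZMod p) = (ζ i : ZMod p)) by simp)
        exact lt_irrefl _ (Finset.mem_filter.1 this).2.2
  have hex : ∀ i, ∃ k, β i = γ k := by
    intro i
    set r : ZMod p := (β i : ZMod p) with hr
    set S := Finset.univ.filter fun k => (γ k : ZMod p) = r with hS
    have himg : S.image (fun k => rankIn p γ k) = Finset.range S.card := by
      refine Finset.eq_of_subset_of_card_le (fun x hx => ?_) ?_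
      · obtain ⟨k, hk, rfl⟩ := Finset.mem_image.1 hx
        have h := (key hγ hγ0 hγm k).2
        rw [(Finset.mem_filter.1 hk).2] at h
        exact Finset.mem_range.2 h
      · rw [Finset.card_range, Finset.card_image_of_injOn fun k hk l hl h => ?_]
        have hk' := (Finset.mem_filter.1 (Finset.mem_coe.1 hk)).2
        have hl' := (Finset.mem_filter.1 (Finset.mem_coe.1 hl)).2
        exact hγ (eq_of_res_of_div (hk'.trans hl'.symm)
          (by rw [(key hγ hγ0 hγm k).1, (key hγ hγ0 hγm l).1, h]))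
    have hmem : rankIn p β i ∈ Finset.range S.card := by
      have h := (key hβ hβ0 hβm i).2
      rw [hc] at h
      exact Finset.mem_range.2 h
    rw [← himg] at hmem
    obtain ⟨k, hk, hrank⟩ := Finset.mem_image.1 hmem
    exact ⟨k, eq_of_res_of_div (Finset.mem_filter.1 hk).2.symm
      (by rw [(key hβ hβ0 hβm i).1, (key hγ hγ0 hγm k).1, hrank])⟩
  choose f hf using hex
  refine ⟨Equiv.ofBijective f (Finite.injective_iff_bijective.1 fun i j h => hβ ?_), funext hf⟩
  rw [hf i, hf j, h]

/-- The functions on exponent vectors with residue counts `c` and level sum `q` annihilated by the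
moves. -/
def space (N p : ℕ) [NeZero p] (c : ZMod p → ℕ) (q : ℤ) : Submodule ℂ (Exp N → ℂ) where
  carrier := {a | AntiSym a ∧ (∀ β, a β ≠ 0 → (∀ i, 0 ≤ β i) ∧ resCount p β = c ∧ qSum p β = q) ∧
    ∀ (γ : Exp N) (m : ℕ), (∀ i, 0 ≤ γ i) → 0 < m →
      ∑ i, a (γ + Pi.single i ((p : ℤ) * m)) = 0}
  zero_mem' := ⟨fun τ β => by simp, fun β h => absurd rfl h, fun γ m _ _ => by simp⟩
  add_mem' := by
    rintro a b ⟨ha1, ha2, ha3⟩ ⟨hb1, hb2, hb3⟩
    refine ⟨fun τ β => ?_, fun β h => ?_, fun γ m hγ hm => ?_⟩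
    · simp only [Pi.add_apply, ha1 τ β, hb1 τ β, mul_add]
    · rw [Pi.add_apply] at h
      by_cases h1 : a β = 0
      · rw [h1, zero_add] at h
        exact hb2 β h
      · exact ha2 β h1
    · simp only [Pi.add_apply, Finset.sum_add_distrib, ha3 γ m hγ hm, hb3 γ m hγ hm, add_zero]
  smul_mem' := by
    rintro z a ⟨ha1, ha2, ha3⟩
    refine ⟨fun τ β => ?_, fun β h => ha2 β (right_ne_zero_of_mul h), fun γ m hγ hm => ?_⟩
    · simp only [Pi.smul_apply, smul_eq_mul, ha1 τ β]
      ring
    · simp only [Pi.smul_apply, smul_eq_mul, ← Finset.mul_sum, ha3 γ m hγ hm, mul_zero]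

theorem mem_space {c : ZMod p → ℕ} {q : ℤ} {a : Exp N → ℂ} :
    a ∈ space N p c q ↔ AntiSym a ∧
      (∀ β, a β ≠ 0 → (∀ i, 0 ≤ β i) ∧ resCount p β = c ∧ qSum p β = q) ∧
      ∀ (γ : Exp N) (m : ℕ), (∀ i, 0 ≤ γ i) → 0 < m →
        ∑ i, a (γ + Pi.single i ((p : ℤ) * m)) = 0 :=
  Iff.rfl

/-- The part along a residue of the move by `p * m`. -/
def drop (p : ℕ) (r : ZMod p) (m : ℕ) : (Exp N → ℂ) →ₗ[ℂ] (Exp N → ℂ) where
  toFun a γ := if ∀ i, 0 ≤ γ i then
    ∑ i ∈ Finset.univ.filter (fun i => (γ i : ZMod p) = r), a (γ + Pi.single i ((p : ℤ) * m))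
    else 0
  map_add' a b := by
    funext γ
    simp only [Pi.add_apply, Finset.sum_add_distrib]
    split_ifs <;> simp
  map_smul' z a := by
    funext γ
    simp only [Pi.smul_apply, smul_eq_mul, RingHom.id_apply, ← Finset.mul_sum]
    split_ifs <;> simp

theorem drop_apply (r : ZMod p) (m : ℕ) (a : Exp N → ℂ) {γ : Exp N} (hγ : ∀ i, 0 ≤ γ i) :
    drop p r m a γ = ∑ i ∈ Finset.univ.filter (fun i => (γ i : ZMod p) = r),
      a (γ + Pi.single i ((p : ℤ) * m)) :=
  if_pos hγ

theorem drop_mem_space {c : ZMod p → ℕ} {q : ℤ} (r : ZMod p) (m : ℕ) {a : Exp N → ℂ}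
    (ha : a ∈ space N p c q) : drop p r m a ∈ space N p c (q - m) := by
  obtain ⟨ha1, ha2, ha3⟩ := mem_space.1 ha
  refine mem_space.2 ⟨fun τ γ => ?_, fun γ h => ?_, fun δ k hδ hk => ?_⟩
  · by_cases hγ : ∀ i, 0 ≤ γ i
    · rw [drop_apply r m a (γ := γ ∘ ⇑τ) fun i => hγ (τ i), drop_apply r m a hγ, Finset.mul_sum]
      refine Finset.sum_equiv τ (fun i => by simp) fun i _ => ?_
      rw [← ha1 τ]
      congr 1
      funext j
      simp only [Function.comp_apply, Pi.add_apply, Pi.single_apply, τ.injective.eq_iff]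
    · have hγ' : ¬ ∀ i, 0 ≤ (γ ∘ τ) i := fun h => hγ fun i => by simpa using h (τ.symm i)
      show (if _ then _ else _) = _ * (if _ then _ else _)
      rw [if_neg hγ', if_neg hγ, mul_zero]
  · by_cases hγ : ∀ i, 0 ≤ γ i
    · rw [drop_apply r m a hγ] at h
      obtain ⟨i, -, hi⟩ := Finset.exists_ne_zero_of_sum_ne_zero h
      obtain ⟨-, h2, h3⟩ := ha2 _ hi
      rw [resCount_add_single] at h2
      rw [qSum_add_single] at h3
      exact ⟨hγ, h2, by omega⟩
    · exact absurd (if_neg hγ) h
  · have hnn : ∀ (ζ : Exp N) (j : Fin N) (l : ℕ), (∀ i, 0 ≤ ζ i) →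
        ∀ i, 0 ≤ (ζ + Pi.single j ((p : ℤ) * l) : Exp N) i := by
      intro ζ j l hζ i
      simp only [Pi.add_apply, Pi.single_apply]
      have := hζ i
      split_ifs <;> positivity
    rw [Finset.sum_congr rfl fun j _ => drop_apply r m a (hnn δ j k hδ)]
    simp only [res_add_single]
    rw [Finset.sum_comm]
    refine Finset.sum_eq_zero fun i _ => ?_
    rw [← ha3 (δ + Pi.single i ((p : ℤ) * m)) k (hnn δ i m hδ) hk]
    exact Finset.sum_congr rfl fun j _ => by rw [add_right_comm]

theorem sum_drop {c : ZMod p → ℕ} {q : ℤ} {a : Exp N → ℂ} (ha : a ∈ space N p c q) {m : ℕ}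
    (hm : 0 < m) {γ : Exp N} (hγ : ∀ i, 0 ≤ γ i) : ∑ r, drop p r m a γ = 0 := by
  rw [Finset.sum_congr rfl fun r _ => drop_apply r m a hγ, Finset.sum_fiberwise]
  exact (mem_space.1 ha).2.2 γ m hγ hm

/-- Functions killed by the drops along all residues but one vanish above the least weight. -/
theorem eq_zero_of_drop {c : ZMod p → ℕ} {q : ℤ} (hq : pairCount c < 2 * q) {a : Exp N → ℂ}
    (ha : a ∈ space N p c q) (r₀ : ZMod p)
    (h : ∀ r : ZMod p, r ≠ r₀ → ∀ m, 0 < m → drop p r m a = 0) :
    a = 0 := by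
  obtain ⟨ha1, ha2, -⟩ := mem_space.1 ha
  funext β
  by_contra hne
  obtain ⟨hβ, hc, hqβ⟩ := ha2 β hne
  have hall : ∀ (r : ZMod p) (m : ℕ), 0 < m → ∀ γ : Exp N, (∀ i, 0 ≤ γ i) →
      drop p r m a γ = 0 := by
    intro r m hm γ hγ
    rcases eq_or_ne r r₀ with hr | hr
    · have := sum_drop ha hm hγ
      subst hr
      rwa [Finset.sum_eq_single r (fun s _ hs => congrFun (h s hs m hm) γ)
        (fun h => absurd (Finset.mem_univ _) h)] at this
    · exact congrFun (h r hr m hm) γ
  have key := two_mul_move_sum ha1 p (Nat.pos_of_neZero p) β hβ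
  rw [Finset.sum_eq_zero, mul_zero, eq_comm, mul_eq_zero] at key
  · rcases key with key | key
    · rw [Int.cast_eq_zero, card_samePairs, hc] at key
      have e : ∑ i, (((β i).toNat / p : ℕ) : ℤ) = qSum p β := Finset.sum_congr rfl fun i _ => by
        rw [Int.natCast_div, Int.toNat_of_nonneg (hβ i)]
      rw [e, hqβ] at key
      linarith
    · exact hne key
  · intro i _
    rw [Finset.sum_comm]
    refine Finset.sum_eq_zero fun m hm => ?_
    set γ : Exp N := β + Pi.single i ((p : ℤ) * -((m : ℤ) + 1)) with hγ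
    have hγ0 : ∀ j, 0 ≤ γ j := by
      intro j
      simp only [hγ, Pi.add_apply, Pi.single_apply]
      have := hβ j
      split_ifs with hj
      · subst hj
        have h1 := Finset.mem_range.1 hm
        have h2 : p * (m + 1) ≤ (β j).toNat :=
          le_trans (Nat.mul_le_mul_left p h1) (Nat.mul_div_le _ _)
        have h3 : ((p * (m + 1) : ℕ) : ℤ) ≤ β j := by omega
        push_cast at h3
        linarith
      · omega
    have hz := hall (β i : ZMod p) (m + 1) m.succ_pos γ hγ0
    rw [drop_apply _ _ _ hγ0] at hz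
    refine Eq.trans (Finset.sum_congr ?_ fun k _ => ?_) hz
    · ext k
      simp only [Finset.mem_filter, Finset.mem_univ, true_and, hγ, res_add_single]
      rw [eq_comm (a := (β k : ZMod p)), ZMod.intCast_eq_intCast_iff_dvd_sub]
    · congr 1
      funext j
      simp only [move, hγ, Pi.sub_apply, Pi.add_apply, Pi.single_apply]
      push_cast
      split_ifs <;> ring

theorem space_eq_bot {c : ZMod p → ℕ} {q : ℤ} (hq : 2 * q < pairCount c) :
    space N p c q = ⊥ := by
  refine (Submodule.eq_bot_iff _).2 fun a ha => ?_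
  obtain ⟨ha1, ha2, -⟩ := mem_space.1 ha
  funext β
  by_contra hne
  obtain ⟨hβ, hc, hqβ⟩ := ha2 β hne
  have hinj : Function.Injective β := by_contra fun h => hne (ha1.eq_zero h)
  have := pairCount_le (p := p) hinj hβ
  rw [hc, hqβ] at this
  omega

theorem geom_bound (p : ℕ) (hp : 0 < p) :
    ∀ v : ℕ, (p - 1) * ∑ j ∈ Finset.range v, p ^ j + 1 = p ^ v := by
  intro v
  induction v with
  | zero => simp
  | succ v ih =>
    rw [Finset.sum_range_succ, mul_add, add_right_comm, ih, pow_succ']
    conv_rhs => rw [show p = (p - 1) + 1 by omega, add_mul, one_mul]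
    rw [show p - 1 + 1 = p by omega, add_comm]

/-- The dimension of the space of weight `v`. -/
theorem finrank_space (v : ℕ) : ∀ (c : ZMod p → ℕ) (q : ℤ), 2 * q = pairCount c + 2 * (v : ℤ) →
    FiniteDimensional ℂ (space N p c q) ∧
      Module.finrank ℂ (space N p c q) ≤ if v = 0 then 1 else p ^ v - 1 := by
  induction v using Nat.strong_induction_on with
  | _ v ih =>
  intro c q hq
  rcases Nat.eq_zero_or_pos v with hv | hv
  · subst hv
    rw [if_pos rfl]
    by_cases hex : ∃ β : Exp N, Function.Injective β ∧ (∀ i, 0 ≤ β i) ∧ resCount p β = c ∧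
        qSum p β = q
    · obtain ⟨β₀, h1, h2, h3, h4⟩ := hex
      let ev : space N p c q →ₗ[ℂ] ℂ :=
        (LinearMap.proj β₀).comp (space N p c q).subtype
      have hev : Function.Injective ev := by
        refine (injective_iff_map_eq_zero ev).2 fun a ha => Subtype.ext (funext fun β => ?_)
        obtain ⟨ha1, ha2, -⟩ := mem_space.1 a.2
        by_contra hne
        obtain ⟨hβ, hc, hqβ⟩ := ha2 β hne
        obtain ⟨π, hπ⟩ := eq_comp_of_min (p := p) (by_contra fun h => hne (ha1.eq_zero h)) hβ h1 h2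
          (hc.trans h3.symm) (by rw [hc, hqβ, hq]; simp) (by rw [h3, h4, hq]; simp)
        have ha0 : (a : Exp N → ℂ) β₀ = 0 := ha
        rw [hπ, ha1 π β₀, ha0, mul_zero] at hne
        exact hne rfl
      haveI := Module.Finite.of_injective ev hev
      exact ⟨this, (LinearMap.finrank_le_finrank_of_injective hev).trans_eq
        (Module.finrank_self ℂ)⟩
    · have hb : space N p c q = ⊥ := by
        refine (Submodule.eq_bot_iff _).2 fun a ha => funext fun β => ?_
        obtain ⟨ha1, ha2, -⟩ := mem_space.1 ha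
        by_contra hne
        obtain ⟨hβ, hc, hqβ⟩ := ha2 β hne
        exact hex ⟨β, by_contra fun h => hne (ha1.eq_zero h), hβ, hc, hqβ⟩
      rw [hb]
      exact ⟨inferInstance, by simp⟩
  · rw [if_neg hv.ne']
    have hstep : ∀ j : Fin v, 2 * (q - ((v - (j : ℕ) : ℕ) : ℤ)) = pairCount c + 2 * ((j : ℕ) : ℤ) :=
      fun j => by
        have := j.2
        omega
    haveI : ∀ z : {r : ZMod p // r ≠ 0} × Fin v,
        FiniteDimensional ℂ (space N p c (q - ((v - (z.2 : ℕ) : ℕ) : ℤ))) :=
      fun z => (ih z.2 z.2.2 c _ (hstep z.2)).1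
    let F : space N p c q →ₗ[ℂ] (z : {r : ZMod p // r ≠ 0} × Fin v) →
        space N p c (q - ((v - (z.2 : ℕ) : ℕ) : ℤ)) :=
      LinearMap.pi fun z => LinearMap.codRestrict _
        ((drop p z.1.1 (v - (z.2 : ℕ))).comp (space N p c q).subtype)
        fun a => drop_mem_space _ _ a.2
    have hF : Function.Injective F := by
      refine (injective_iff_map_eq_zero F).2 fun a ha => Subtype.ext ?_
      refine eq_zero_of_drop (by omega) a.2 0 fun r hr m hm => ?_
      rcases le_or_gt m v with hmv | hmv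
      · have := congrArg Subtype.val (congrFun ha (⟨r, hr⟩, ⟨v - m, by omega⟩))
        simp only [F, LinearMap.pi_apply, LinearMap.codRestrict_apply, LinearMap.comp_apply,
          Submodule.subtype_apply, Pi.zero_apply, ZeroMemClass.coe_zero] at this
        rwa [show v - (v - m) = m by omega] at this
      · have := drop_mem_space r m a.2
        rwa [space_eq_bot (by omega), Submodule.mem_bot] at this
    haveI := Module.Finite.of_injective F hF
    refine ⟨this, (LinearMap.finrank_le_finrank_of_injective hF).trans ?_⟩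
    rw [Module.finrank_pi_fintype, Fintype.sum_prod_type]
    have hb := geom_bound p (Nat.pos_of_neZero p) v
    refine le_trans (Finset.sum_le_sum
      (g := fun _ : {r : ZMod p // r ≠ 0} => ∑ j : Fin v, p ^ (j : ℕ))
      fun x _ => Finset.sum_le_sum fun j _ => le_trans (ih j j.2 c _ (hstep j)).2 ?_) ?_
    · split_ifs with hj
      · simp [hj]
      · exact Nat.sub_le _ _
    · rw [Finset.sum_const, Finset.card_univ, smul_eq_mul, Fintype.card_subtype_compl,
        Fintype.card_subtype_eq, ZMod.card, Fin.sum_univ_eq_sum_range (fun j => p ^ j)]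
      omega

end CfsgLib.SymBlocks
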