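import Cfsg.Agent.Lib.SymBlocks.Space
import Mathlib.GroupTheory.Perm.Option

/-!
# Conjugating exponent vectors

Reflecting the gaps of a set of `n` beads in `0, …, 2 n - 1` multiplies the characters by the sign.
-/

set_option autoImplicit false
set_option linter.unusedSectionVars false
set_option linter.unusedVariables false
set_option linter.unusedSimpArgs false

noncomputable section

open scoped Classical

namespace CfsgLib.SymBlocks

open Equiv

variable {n p : ℕ}

/-- The sign of a permutation from the number of orbits. -/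
theorem sign_eq_orb : ∀ (n : ℕ) (σ : Perm (Fin n)),
    (Perm.sign σ : ℤ) = (-1) ^ (n + Multiset.card (orb σ)) := by
  intro n
  induction n with
  | zero =>
    intro σ
    obtain rfl : σ = 1 := Subsingleton.elim _ _
    simp [orb_one]
  | succ n ih =>
    intro σ
    obtain ⟨τ, rfl⟩ := ((finSuccEquiv n).permCongr).symm.surjective σ
    obtain ⟨⟨x, π⟩, rfl⟩ := (Perm.decomposeOption (α := Fin n)).symm.surjective τ
    have h1 : orb ((finSuccEquiv n).permCongr.symm (ins π x)) = orb (ins π x) := by
      rw [← orb_permCongr (finSuccEquiv n) _, Equiv.apply_symm_apply]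
    show (Perm.sign ((finSuccEquiv n).permCongr.symm (ins π x)) : ℤ) =
      (-1) ^ (n + 1 + Multiset.card (orb ((finSuccEquiv n).permCongr.symm (ins π x))))
    rw [h1, Equiv.permCongr_symm, Perm.sign_permCongr]
    have hs : Perm.sign (ins π x) = Perm.sign (swap none x) * Perm.sign π := by
      rw [ins, Perm.decomposeOption_symm_apply, Perm.sign_mul, Equiv.optionCongr_sign]
    rw [hs, Units.val_mul, ih π]
    cases x with
    | none =>
      rw [orb_ins_none, Multiset.card_cons, Equiv.swap_self, Perm.sign_refl]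
      rw [show n + 1 + (Multiset.card (orb π) + 1) = n + Multiset.card (orb π) + 2 by omega]
      simp [pow_add]
    | some a =>
      have hmem : Nat.card {z // π.SameCycle z a} ∈ orb π := by
        refine Multiset.mem_map.2 ⟨Quotient.mk (Perm.SameCycle.setoid π) a, by simp, ?_⟩
        rw [← Fintype.card_subtype, ← Nat.card_eq_fintype_card]
        exact Nat.card_congr (Equiv.subtypeEquivRight fun z => by rw [Quotient.eq]; rfl)
      rw [orb_ins_some, Multiset.card_cons, Multiset.card_erase_of_mem hmem,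
        Perm.sign_swap (by simp)]
      have hpos := Multiset.card_pos_iff_exists_mem.2 ⟨_, hmem⟩
      rw [show n + 1 + (Nat.pred (Multiset.card (orb π)) + 1) =
        n + Multiset.card (orb π) + 1 by rw [Nat.pred_eq_sub_one]; omega, pow_succ]
      simp

/-! ## Positions -/

/-- The position of a bead or of a gap. -/
def pos (n : ℕ) : Fin n ⊕ Fin n → ℤ :=
  Sum.elim (fun i => ((i : ℕ) : ℤ)) (fun j => 2 * (n : ℤ) - 1 - ((j : ℕ) : ℤ))

/-- The beads of an arrangement. -/
def beadsOf (π : Perm (Fin n ⊕ Fin n)) : Exp n := fun i => pos n (π (Sum.inl i))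

/-- The reflected gaps of an arrangement. -/
def mirrorOf (π : Perm (Fin n ⊕ Fin n)) : Exp n :=
  fun j => 2 * (n : ℤ) - 1 - pos n (π (Sum.inr j))

theorem pos_nonneg (z : Fin n ⊕ Fin n) : 0 ≤ pos n z := by
  rcases z with i | i <;> simp only [pos, Sum.elim_inl, Sum.elim_inr] <;> omega

theorem pos_lt (z : Fin n ⊕ Fin n) : pos n z < 2 * (n : ℤ) := by
  rcases z with i | i <;> simp only [pos, Sum.elim_inl, Sum.elim_inr] <;> omega

theorem pos_injective : Function.Injective (pos n) := by
  rintro (i | i) (j | j) h <;> simp only [pos, Sum.elim_inl, Sum.elim_inr] at h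
  · exact congrArg Sum.inl (Fin.ext (by omega))
  · exfalso; omega
  · exfalso; omega
  · exact congrArg Sum.inr (Fin.ext (by omega))

theorem pos_surj {x : ℤ} (h0 : 0 ≤ x) (h1 : x < 2 * (n : ℤ)) : ∃ z, pos n z = x := by
  rcases lt_or_ge x (n : ℤ) with h | h
  · exact ⟨Sum.inl ⟨x.toNat, by omega⟩, by simp [pos]; omega⟩
  · exact ⟨Sum.inr ⟨(2 * (n : ℤ) - 1 - x).toNat, by omega⟩, by simp [pos]; omega⟩

theorem beadsOf_injective (π : Perm (Fin n ⊕ Fin n)) : Function.Injective (beadsOf π) :=
  fun i j h => Sum.inl_injective (π.injective (pos_injective h))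

theorem mirrorOf_injective (π : Perm (Fin n ⊕ Fin n)) : Function.Injective (mirrorOf π) :=
  fun i j h => Sum.inr_injective (π.injective (pos_injective (by
    simp only [mirrorOf] at h; omega)))

theorem beadsOf_nonneg (π : Perm (Fin n ⊕ Fin n)) (i : Fin n) : 0 ≤ beadsOf π i := pos_nonneg _

theorem mirrorOf_nonneg (π : Perm (Fin n ⊕ Fin n)) (j : Fin n) : 0 ≤ mirrorOf π j := by
  have := pos_lt (π (Sum.inr j))
  simp only [mirrorOf]
  omega

/-- Interchange beads and mirrored gaps. -/
def flip (π : Perm (Fin n ⊕ Fin n)) : Perm (Fin n ⊕ Fin n) :=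
  (Equiv.sumComm _ _).trans (π.trans (Equiv.sumComm _ _))

theorem pos_swap (z : Fin n ⊕ Fin n) :
    pos n ((Equiv.sumComm _ _) z) = 2 * (n : ℤ) - 1 - pos n z := by
  rcases z with i | i <;> simp [pos]

theorem beadsOf_flip (π : Perm (Fin n ⊕ Fin n)) : beadsOf (flip π) = mirrorOf π := by
  funext i
  simp [beadsOf, mirrorOf, flip, pos_swap, -Equiv.sumComm_apply]
  rfl

theorem mirrorOf_flip (π : Perm (Fin n ⊕ Fin n)) : mirrorOf (flip π) = beadsOf π := by
  funext i
  simp [beadsOf, mirrorOf, flip, pos_swap, -Equiv.sumComm_apply]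
  rfl

theorem exists_beadsOf {β : Exp n} (hinj : Function.Injective β) (h0 : ∀ i, 0 ≤ β i)
    (h1 : ∀ i, β i < 2 * (n : ℤ)) : ∃ π, beadsOf π = β := by
  choose f hf using fun i => pos_surj (n := n) (h0 i) (h1 i)
  have hfi : Function.Injective f := fun i j h => hinj (by rw [← hf i, ← hf j, h])
  let e : {z : Fin n ⊕ Fin n // z.isLeft} ≃ {z : Fin n ⊕ Fin n // z ∈ Set.range f} :=
    ({ toFun := fun z => z.1.getLeft z.2
       invFun := fun i => ⟨Sum.inl i, rfl⟩
       left_inv := fun z => by
        rcases z with ⟨i | j, hz⟩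
        · rfl
        · simp at hz
       right_inv := fun i => rfl } : {z : Fin n ⊕ Fin n // z.isLeft} ≃ Fin n).trans
      (Equiv.ofInjective f hfi)
  refine ⟨e.extendSubtype, funext fun i => ?_⟩
  rw [beadsOf, Equiv.extendSubtype_apply_of_mem e (Sum.inl i) rfl]
  exact hf i

theorem lt_two_mul {β : Exp n} (hinj : Function.Injective β) (h0 : ∀ i, 0 ≤ β i)
    (hdeg : ∑ i, β i ≤ n + baseDeg n) (i : Fin n) : β i < 2 * (n : ℤ) := by
  obtain ⟨τ, -, hτ⟩ := exists_sort β hinj h0
  obtain ⟨k, rfl⟩ := τ.surjective i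
  have h := Finset.single_le_sum (f := fun i : Fin n => β (τ i) - ((i : ℕ) : ℤ))
    (fun i _ => by have := hτ i; omega) (Finset.mem_univ k)
  rw [Finset.sum_sub_distrib, Equiv.sum_comp τ β] at h
  change β (τ k) - ((k : ℕ) : ℤ) ≤ ∑ i, β i - baseDeg n at h
  omega

theorem exists_beadsOf_of_deg {β : Exp n} (hinj : Function.Injective β) (h0 : ∀ i, 0 ≤ β i)
    (hdeg : ∑ i, β i ≤ n + baseDeg n) : ∃ π, beadsOf π = β :=
  exists_beadsOf hinj h0 (lt_two_mul hinj h0 hdeg)

theorem sum_mirrorOf (π : Perm (Fin n ⊕ Fin n)) : ∑ j, mirrorOf π j = ∑ i, beadsOf π i := by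
  have h := Equiv.sum_comp π (pos n)
  rw [Fintype.sum_sum_type, Fintype.sum_sum_type] at h
  simp only [mirrorOf, beadsOf, pos, Sum.elim_inl, Sum.elim_inr, Finset.sum_sub_distrib,
    Finset.sum_const, Finset.card_univ, Fintype.card_fin] at h ⊢
  linarith

/-! ## The characters -/

theorem permVec_nonneg_lt (a : Perm (Fin n)) (i : Fin n) : permVec a i < (n : ℤ) := by
  simp [permVec]

theorem altDelta_beadsOf (π : Perm (Fin n ⊕ Fin n)) :
    altDelta (beadsOf π) = (Perm.sign π : ℤ) * altDelta (mirrorOf π) := by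
  by_cases hmaps : Set.MapsTo π (Set.range Sum.inl) (Set.range Sum.inl)
  · obtain ⟨⟨a, b⟩, rfl⟩ := Perm.mem_sumCongrHom_range_of_perm_mapsTo_inl hmaps
    have e1 : beadsOf (Perm.sumCongrHom (Fin n) (Fin n) (a, b)) = permVec a := by
      funext i
      simp [beadsOf, pos, permVec]
    have e2 : mirrorOf (Perm.sumCongrHom (Fin n) (Fin n) (a, b)) = permVec b := by
      funext i
      simp [mirrorOf, pos, permVec]
    rw [e1, e2, altDelta_permVec, altDelta_permVec, Perm.sumCongrHom_apply, Perm.sign_sumCongr,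
      Units.val_mul, mul_assoc, ← Units.val_mul, Int.units_mul_self, Units.val_one, mul_one]
  · have hnot : ∀ (ρ : Perm (Fin n ⊕ Fin n)), ¬ Set.MapsTo ρ (Set.range Sum.inl) (Set.range Sum.inl) →
        altDelta (beadsOf ρ) = 0 := by
      intro ρ hρ
      refine Finset.sum_eq_zero fun a _ => ?_
      rw [if_neg, mul_zero]
      intro h
      refine hρ ?_
      rintro _ ⟨i, rfl⟩
      have hi := congrFun h i
      rcases hz : ρ (Sum.inl i) with k | k
      · exact ⟨k, rfl⟩
      · exfalso
        simp only [beadsOf, hz, pos, Sum.elim_inr] at hi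
        have := permVec_nonneg_lt a i
        omega
    have hflip : ¬ Set.MapsTo (flip π) (Set.range Sum.inl) (Set.range Sum.inl) := by
      intro h
      refine hmaps ?_
      have hb : ∀ j, ∃ k, π (Sum.inr j) = Sum.inr k := by
        intro j
        obtain ⟨k, hk⟩ := h ⟨j, rfl⟩
        refine ⟨k, ?_⟩
        rcases hz : π (Sum.inr j) with l | l <;> simp_all [flip]
      choose g hg using hb
      have hgb : Function.Surjective g := Finite.injective_iff_surjective.1 fun x y hxy =>
        Sum.inr_injective (π.injective (by rw [hg, hg, hxy]))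
      rintro _ ⟨i, rfl⟩
      rcases hz : π (Sum.inl i) with k | k
      · exact ⟨k, rfl⟩
      · obtain ⟨j, rfl⟩ := hgb k
        exact absurd (π.injective (hz.trans (hg j).symm)) (by simp)
    rw [hnot π hmaps, ← beadsOf_flip, hnot _ hflip, mul_zero]

/-- The bead moved down by `m` fills the gap at `j`. -/
theorem beadsOf_step (π : Perm (Fin n ⊕ Fin n)) {i j : Fin n} {m : ℤ}
    (h : pos n (π (Sum.inl i)) - m = pos n (π (Sum.inr j))) :
    beadsOf (π * swap (Sum.inl i) (Sum.inr j)) = beadsOf π - Pi.single i m ∧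
      mirrorOf (π * swap (Sum.inl i) (Sum.inr j)) = mirrorOf π - Pi.single j m := by
  constructor <;> funext x <;> simp only [beadsOf, mirrorOf, Perm.mul_apply, Pi.sub_apply,
    Pi.single_apply, swap_apply_def, Sum.inl.injEq, Sum.inr.injEq, reduceCtorEq, if_false] <;>
    split_ifs with hx <;> first | (subst hx; omega) | omega

theorem moves_eq (π : Perm (Fin n ⊕ Fin n)) (L : Multiset ℕ) {m : ℕ} (hm : 0 < m) (i : Fin n) :
    phi L (beadsOf π - Pi.single i (m : ℤ)) =
      ∑ j, if pos n (π (Sum.inl i)) - (m : ℤ) = pos n (π (Sum.inr j)) then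
        phi L (beadsOf (π * swap (Sum.inl i) (Sum.inr j))) else 0 := by
  by_cases hex : ∃ j, pos n (π (Sum.inl i)) - (m : ℤ) = pos n (π (Sum.inr j))
  · obtain ⟨j, hj⟩ := hex
    rw [Finset.sum_eq_single j (fun j' _ hne => if_neg fun h =>
      hne (Sum.inr_injective (π.injective (pos_injective (h.symm.trans hj)))))
      (fun h => absurd (Finset.mem_univ _) h), if_pos hj, (beadsOf_step π hj).1]
  · rw [Finset.sum_eq_zero fun j _ => if_neg fun h => hex ⟨j, h⟩]
    by_cases h0 : 0 ≤ pos n (π (Sum.inl i)) - (m : ℤ)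
    swap
    · exact phi_eq_zero_of_neg _ _ (i := i) (by simp [beadsOf]; omega)
    obtain ⟨z, hz⟩ := pos_surj (n := n) h0 (by have := pos_lt (π (Sum.inl i)); omega)
    obtain ⟨w, rfl⟩ := π.surjective z
    rcases w with k | k
    · refine (antiSym_phi _).eq_zero fun hinj => ?_
      have hik : k ≠ i := fun e => by subst e; omega
      refine hik (hinj ?_)
      simp [beadsOf, Pi.single_apply, hik, hz]
    · exact absurd ⟨k, hz.symm⟩ hex

theorem phi_mirrorOf : ∀ (L : Multiset ℕ), (∀ m ∈ L, 0 < m) → ∀ π : Perm (Fin n ⊕ Fin n),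
    phi L (beadsOf π) =
      (Perm.sign π : ℤ) * (-1) ^ Multiset.card L * phi L (mirrorOf π) := by
  intro L
  induction L using Multiset.induction_on with
  | empty => intro _ π; rw [phi_zero, altDelta_beadsOf]; simp
  | cons m L ih =>
    intro hpos π
    have hm := hpos m (Multiset.mem_cons_self _ _)
    have ih' := ih fun k hk => hpos k (Multiset.mem_cons_of_mem hk)
    rw [phi_cons, phi_cons, Finset.mul_sum]
    simp only [moves_eq π L hm]
    have h2 : ∀ j, phi L (mirrorOf π - Pi.single j (m : ℤ)) =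
        ∑ i, if pos n (π (Sum.inl i)) - (m : ℤ) = pos n (π (Sum.inr j)) then
          phi L (mirrorOf (π * swap (Sum.inl i) (Sum.inr j))) else 0 := by
      intro j
      rw [← beadsOf_flip, moves_eq (flip π) L hm]
      refine Finset.sum_congr rfl fun i _ => ?_
      have e : flip π * swap (Sum.inl j) (Sum.inr i) = flip (π * swap (Sum.inl i) (Sum.inr j)) := by
        ext z
        simp only [flip, Perm.mul_apply, Equiv.trans_apply]
        congr 2
        rcases z with k | k <;> simp [swap_apply_def, Equiv.sumComm_apply] <;> split_ifs <;> rfl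
      rw [e, beadsOf_flip]
      refine if_congr ?_ rfl rfl
      simp only [flip, Equiv.trans_apply, pos_swap, Equiv.sumComm_apply, Sum.swap_inl,
        Sum.swap_inr]
      rw [show (π (Sum.inr j)).swap = (Equiv.sumComm _ _) (π (Sum.inr j)) from rfl,
        show (π (Sum.inl i)).swap = (Equiv.sumComm _ _) (π (Sum.inl i)) from rfl, pos_swap,
        pos_swap]
      omega
    simp only [h2, Finset.mul_sum]
    rw [Finset.sum_comm]
    refine Finset.sum_congr rfl fun j _ => Finset.sum_congr rfl fun i _ => ?_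
    split_ifs with h
    · rw [ih', Perm.sign_mul, Perm.sign_swap (by simp), Multiset.card_cons, pow_succ]
      push_cast
      ring
    · rw [mul_zero]

/-- Reflecting the gaps twists the character by the sign. -/
theorem chi_mirrorOf (π : Perm (Fin n ⊕ Fin n)) (σ : Perm (Fin n)) :
    chi (mirrorOf π) σ =
      ((Perm.sign π : ℤ) : ℂ) * (-1) ^ n * ((Perm.sign σ : ℤ) : ℂ) * chi (beadsOf π) σ := by
  rw [sign_eq_orb n σ, chi, chi,
    phi_mirrorOf (orb σ) (fun m hm => pos_of_mem_orb hm) π]
  push_cast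
  rw [pow_add]
  have h1 : ((Perm.sign π : ℤ) : ℂ) * ((Perm.sign π : ℤ) : ℂ) = 1 := by
    rw [← Int.cast_mul, ← Units.val_mul, Int.units_mul_self]
    simp
  have h2 : ∀ k : ℕ, ((-1 : ℂ) ^ k) * (-1) ^ k = 1 := fun k => by
    rw [← mul_pow]
    simp
  linear_combination (-((phi (orb σ) (mirrorOf π) : ℂ) * ((Perm.sign π : ℤ) : ℂ) ^ 2 *
    ((-1 : ℂ) ^ Multiset.card (orb σ)) ^ 2)) * h2 n -
    ((phi (orb σ) (mirrorOf π) : ℂ) * ((Perm.sign π : ℤ) : ℂ) ^ 2) *
      h2 (Multiset.card (orb σ)) - (phi (orb σ) (mirrorOf π) : ℂ) * h1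

theorem adm_mirrorOf {π : Perm (Fin n ⊕ Fin n)} (h : Adm n (beadsOf π)) : Adm n (mirrorOf π) :=
  ⟨mirrorOf_injective π, mirrorOf_nonneg π, by rw [sum_mirrorOf]; exact h.deg⟩

/-! ## Residues -/

/-- The residue of the reflected position. -/
def mirrorRes (p n : ℕ) (r : ZMod p) : ZMod p := 2 * (n : ZMod p) - 1 - r

theorem mirrorRes_mirrorRes (r : ZMod p) : mirrorRes p n (mirrorRes p n r) = r := by
  simp [mirrorRes]

/-- The number of positions in a residue class. -/
def posCount (p n : ℕ) (r : ZMod p) : ℕ :=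
  (Finset.univ.filter fun z : Fin n ⊕ Fin n => (pos n z : ZMod p) = r).card

theorem resCount_mirrorOf (π : Perm (Fin n ⊕ Fin n)) (r : ZMod p) :
    resCount p (mirrorOf π) r + resCount p (beadsOf π) (mirrorRes p n r) =
      posCount p n (mirrorRes p n r) := by
  have e : ∀ j, ((mirrorOf π j : ℤ) : ZMod p) = r ↔
      (pos n (π (Sum.inr j)) : ZMod p) = mirrorRes p n r := fun j => by
    simp only [mirrorOf, mirrorRes]
    push_cast
    constructor <;> intro h
    · rw [← h]; ring
    · rw [h]; ring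
  simp only [resCount, e, posCount]
  rw [Finset.card_filter, Finset.card_filter, Finset.card_filter]
  simp only [beadsOf]
  rw [← Equiv.sum_comp π (fun z => if (pos n z : ZMod p) = mirrorRes p n r then 1 else 0),
    Fintype.sum_sum_type, add_comm]
  congr

end CfsgLib.SymBlocks
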