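import Cfsg.Agent.Lib.SymBlocks.Hook
import Cfsg.Agent.Lib.Blocks.DefectInduced
import Cfsg.Agent.Lib.Blocks.FirstMain
import Cfsg.Agent.Lib.BlockCover.DefectGroup
import Cfsg.Prelude.Def_CaseTheorems

/-!
# An elementary abelian subgroup of a defect group

A block of weight `v` does not vanish at a product of `v` cycles of length `p`; the translations
along these cycles then lie in a defect group.
-/

set_option autoImplicit false
set_option linter.unusedSectionVars false
set_option linter.unusedVariables false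
set_option linter.unusedSimpArgs false
set_option linter.style.haveILetI false

noncomputable section

open scoped Classical

namespace CfsgLib.SymBlocks

open Equiv Cfsg CfsgLib.Blocks CfsgLib.Characters

variable {n p : ℕ} {M : Ideal AlgInt}

/-- The points: `v` cycles of length `p` and `r` fixed points. -/
abbrev Pts (v p r : ℕ) := (Fin v × ZMod p) ⊕ Fin r

/-- The translations along the cycles. -/
def transHom (v p r : ℕ) : Multiplicative (Fin v → ZMod p) →* Perm (Pts v p r) where
  toFun t :=
    { toFun := Sum.map (fun z => (z.1, z.2 + t.toAdd z.1)) id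
      invFun := Sum.map (fun z => (z.1, z.2 - t.toAdd z.1)) id
      left_inv := fun z => by rcases z with ⟨i, a⟩ | j <;> simp
      right_inv := fun z => by rcases z with ⟨i, a⟩ | j <;> simp }
  map_one' := Equiv.ext fun z => by rcases z with ⟨i, a⟩ | j <;> simp
  map_mul' s t := Equiv.ext fun z => by
    rcases z with ⟨i, a⟩ | j
    · simp [Perm.mul_apply]
      ring
    · simp [Perm.mul_apply]

theorem transHom_inl {v r : ℕ} (t : Multiplicative (Fin v → ZMod p)) (i : Fin v) (a : ZMod p) :
    transHom v p r t (Sum.inl (i, a)) = Sum.inl (i, a + t.toAdd i) := rfl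

theorem transHom_inr {v r : ℕ} (t : Multiplicative (Fin v → ZMod p)) (j : Fin r) :
    transHom v p r t (Sum.inr j) = Sum.inr j := rfl

theorem transHom_injective {v r : ℕ} : Function.Injective (transHom v p r) := by
  intro s t h
  refine Multiplicative.toAdd.injective (funext fun i => ?_)
  have := congrArg (fun f : Perm (Pts v p r) => f (Sum.inl (i, 0))) h
  simpa [transHom_inl] using this

/-- The product of the cycles. -/
def baseCyc (v p r : ℕ) : Perm (Pts v p r) :=
  transHom v p r (Multiplicative.ofAdd fun _ => 1)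

theorem baseCyc_pow {v r : ℕ} (k : ℕ) :
    baseCyc v p r ^ k = transHom v p r (Multiplicative.ofAdd fun _ => (k : ZMod p)) := by
  rw [baseCyc, ← map_pow, ← ofAdd_nsmul]
  congr 2
  funext i
  simp

variable [NeZero p]

theorem sameCycle_baseCyc {v r : ℕ} (z w : Pts v p r) :
    Sum.map Prod.fst id z = Sum.map Prod.fst id w ↔ (baseCyc v p r).SameCycle z w := by
  constructor
  · rcases z with ⟨i, a⟩ | j <;> rcases w with ⟨i', a'⟩ | j' <;> intro h <;> simp at h
    · subst h
      refine ⟨((a' - a).val : ℤ), ?_⟩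
      rw [zpow_natCast, baseCyc_pow, transHom_inl, toAdd_ofAdd]
      simp
    · subst h
      exact Perm.SameCycle.refl _ _
  · intro h
    obtain ⟨k, hk⟩ := h.exists_nat_pow_eq
    rw [← hk, baseCyc_pow]
    rcases z with ⟨i, a⟩ | j
    · rw [transHom_inl]; rfl
    · rw [transHom_inr]

theorem orb_baseCyc (v r : ℕ) :
    orb (baseCyc v p r) = Multiset.replicate v p + Multiset.replicate r 1 := by
  rw [orb_of_label (baseCyc v p r) (Sum.map Prod.fst id : Pts v p r → Fin v ⊕ Fin r)
    (fun q => by
      rcases q with i | j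
      · exact ⟨Sum.inl (i, 0), rfl⟩
      · exact ⟨Sum.inr j, rfl⟩) sameCycle_baseCyc]
  have h1 : ∀ i : Fin v, (Finset.univ.filter fun x : Pts v p r =>
      Sum.map Prod.fst id x = (Sum.inl i : Fin v ⊕ Fin r)).card = p := by
    intro i
    have e : (Finset.univ.filter fun x : Pts v p r =>
        Sum.map Prod.fst id x = (Sum.inl i : Fin v ⊕ Fin r)) =
        (Finset.univ : Finset (ZMod p)).image fun a => (Sum.inl (i, a) : Pts v p r) := by
      ext x
      rcases x with ⟨i', a⟩ | j <;> simp [eq_comm]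
    rw [e, Finset.card_image_of_injective _ fun a b h => by simpa using h, Finset.card_univ,
      ZMod.card]
  have h2 : ∀ j : Fin r, (Finset.univ.filter fun x : Pts v p r =>
      Sum.map Prod.fst id x = (Sum.inr j : Fin v ⊕ Fin r)).card = 1 := by
    intro j
    refine Finset.card_eq_one.2 ⟨Sum.inr j, ?_⟩
    ext x
    rcases x with ⟨i', a⟩ | j' <;> simp
  rw [show (Finset.univ : Finset (Fin v ⊕ Fin r)).val =
      (Finset.univ : Finset (Fin v)).val.disjSum (Finset.univ : Finset (Fin r)).val from rfl,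
    Multiset.disjSum, Multiset.map_add,
    Multiset.map_map, Multiset.map_map]
  congr 1
  · refine (Multiset.map_congr rfl (g := fun _ => p) fun i _ => ?_).trans (by simp)
    simp only [Function.comp_apply]
    convert h1 i
  · refine (Multiset.map_congr rfl (g := fun _ => 1) fun j _ => ?_).trans (by simp)
    simp only [Function.comp_apply]
    convert h2 j

/-- Commuting with the product of the cycles and preserving each of them is translating. -/
theorem mem_range_of_cycles {v r : ℕ} {σ : Perm (Pts v p r)} (hc : Commute σ (baseCyc v p r))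
    (hpre : ∀ z, ∃ k : ℕ, σ z = (baseCyc v p r ^ k) z) : σ ∈ (transHom v p r).range := by
  choose k hk using hpre
  refine ⟨Multiplicative.ofAdd fun i => ((k (Sum.inl (i, 0)) : ℕ) : ZMod p), Equiv.ext fun z => ?_⟩
  rcases z with ⟨i, a⟩ | j
  · have h0 : (baseCyc v p r ^ a.val) (Sum.inl (i, 0)) = Sum.inl (i, a) := by
      rw [baseCyc_pow, transHom_inl]
      simp
    have h1 : σ (Sum.inl (i, a)) = (baseCyc v p r ^ a.val) (σ (Sum.inl (i, 0))) := by
      rw [← h0, ← Perm.mul_apply, (hc.pow_right a.val).eq]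
      rfl
    rw [h1, hk, baseCyc_pow, baseCyc_pow, transHom_inl, transHom_inl, transHom_inl]
    simp [add_comm]
  · rw [hk, baseCyc_pow, transHom_inr, transHom_inr]

/-- A block of weight `v` is induced from the centraliser of a product of `v` cycles. -/
theorem exists_witness [Fact p.Prime] (hM : IsPModular p M)
    {B : Set (IrrCharacter (Perm (Fin n)))} (hB : IsPBlock M B) {β₀ : Exp n} (hβ₀ : Adm n β₀)
    {ψ₀ : IrrCharacter (Perm (Fin n))} (hψ₀ : ψ₀ ∈ B) {ε₀ : ℂ}
    (hchi : (chi β₀ : Perm (Fin n) → ℂ) = ε₀ • (ψ₀ : Perm (Fin n) → ℂ)) {v : ℕ}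
    (hv : 2 * qSum p β₀ = pairCount (resCount p β₀) + 2 * (v : ℤ)) :
    ∃ (r : ℕ) (e : Pts v p r ≃ Fin n)
      (b : Set (IrrCharacter (Subgroup.centralizer
        ({e.permCongr (baseCyc v p r)} : Set (Perm (Fin n)))))),
      IsInducedBlock M (Subgroup.centralizer
        ({e.permCongr (baseCyc v p r)} : Set (Perm (Fin n)))) b B := by
  obtain ⟨τ, hτ⟩ := exists_keySorted (p := p) hβ₀.inj
  have h0 : ∀ i, 0 ≤ (β₀ ∘ ⇑τ) i := fun i => hβ₀.nonneg _
  have hv' : 2 * qSum p (β₀ ∘ ⇑τ) = pairCount (resCount p (β₀ ∘ ⇑τ)) + 2 * (v : ℤ) := by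
    rw [qSum_comp, resCount_comp]; exact hv
  obtain ⟨κ, hκ, hκ0, hκc, hκm, hκd⟩ := exists_core v _ hτ h0 hv'
  have hτd : ∑ i, (β₀ ∘ ⇑τ) i = (n : ℤ) + baseDeg n := (Equiv.sum_comp τ β₀).trans hβ₀.deg
  rw [hτd] at hκd
  have hle : p * v ≤ n := by
    have := baseDeg_le κ hκ.injective hκ0
    zify
    linarith
  obtain ⟨r, hr⟩ := Nat.exists_eq_add_of_le hle
  have hne : phi (Multiset.replicate v p + Multiset.replicate r 1) (β₀ ∘ ⇑τ) ≠ 0 := by
    refine left_ne_zero_of_mul (hook_value_pos r hκ hκ0 hκm ?_ v _ hτ h0 hκc.symm hv').ne'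
    rw [hκd, hr]
    push_cast
    ring
  have hcard : Fintype.card (Pts v p r) = n := by
    simp [ZMod.card, hr, mul_comm]
  let e : Pts v p r ≃ Fin n := Fintype.equivFinOfCardEq hcard
  let Φ : Multiplicative (Fin v → ZMod p) →* Perm (Fin n) :=
    (e.permCongrHom : Perm (Pts v p r) ≃* Perm (Fin n)).toMonoidHom.comp (transHom v p r)
  have hΦ : ∀ t, Φ t = e.permCongr (transHom v p r t) := fun t => rfl
  have hΦinj : Function.Injective Φ := fun s t h => transHom_injective (by
    rw [hΦ, hΦ] at h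
    exact e.permCongr.injective h)
  set x : Perm (Fin n) := Φ (Multiplicative.ofAdd fun _ => 1) with hxdef
  have horb : orb x = Multiset.replicate v p + Multiset.replicate r 1 := by
    rw [hxdef, hΦ, orb_permCongr, ← baseCyc, orb_baseCyc]
  have hψx : (ψ₀ : Perm (Fin n) → ℂ) x ≠ 0 := by
    intro h
    refine hne ?_
    have h1 := congrFun hchi x
    rw [Pi.smul_apply, h, smul_zero] at h1
    simp only [chi, horb, Int.cast_eq_zero] at h1
    rw [antiSym_phi, h1, mul_zero]
  have hpow : ∀ t, Φ t ^ p = 1 := fun t => by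
    rw [← map_pow]
    convert map_one Φ
    refine Multiplicative.toAdd.injective (funext fun i => ?_)
    simp
  have hxp : ∃ k : ℕ, orderOf x = p ^ k := by
    obtain ⟨k, -, hk⟩ := (Nat.dvd_prime_pow (m := 1) (Fact.out : p.Prime)).1
      (by simpa using orderOf_dvd_of_pow_eq_one (hpow (Multiplicative.ofAdd fun _ => 1)))
    exact ⟨k, hk⟩
  set C := Subgroup.centralizer ({x} : Set (Perm (Fin n))) with hC
  letI := Fintype.ofFinite C
  -- a block of the centraliser induces `B`
  obtain ⟨b, hb⟩ : ∃ b : Set (IrrCharacter C), IsInducedBlock M C b B := by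
    by_contra! hnot
    refine hψx ?_
    have h1 : blockPart (Set.univ : Set (IrrCharacter C))
        (sectionFun x (ψ₀ : Perm (Fin n) → ℂ)) 1 = 0 := by
      refine blockPart_union_eq_zero hM (fun _ _ _ _ => Set.mem_univ _) fun ξ _ => ?_
      refine blockPart_sectionFun_eq_zero hM hxp (isPBlock_blockOf ξ) (fun hind => ?_)
        (by rw [orderOf_one]; exact (Fact.out : p.Prime).not_dvd_one)
      rw [← IsPBlock.eq_blockOf hM hB hψ₀] at hind
      exact hnot _ hind
    rw [blockPart_eq_sum] at h1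
    rw [← h1, show (ψ₀ : Perm (Fin n) → ℂ) x = sectionFun x (ψ₀ : Perm (Fin n) → ℂ) (1 : C) by
      simp [sectionFun]]
    conv_lhs => rw [classFunction_eq_sum (isClassFunction_sectionFun (irr_isClassFunction ψ₀))]
    simp
    exact Finset.sum_congr (by ext; simp) fun _ _ => rfl
  exact ⟨r, e, b, hb⟩

/-- A normal `p`-subgroup of the centraliser lies in a defect group of the induced block. -/
theorem exists_defect_ge_normal [Fact p.Prime] (hM : IsPModular p M)
    {B : Set (IrrCharacter (Perm (Fin n)))} {x : Perm (Fin n)}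
    {b : Set (IrrCharacter (Subgroup.centralizer ({x} : Set (Perm (Fin n)))))}
    (hb : IsInducedBlock M (Subgroup.centralizer ({x} : Set (Perm (Fin n)))) b B)
    {K : Subgroup (Perm (Fin n))} (hK : K ≤ Subgroup.centralizer ({x} : Set (Perm (Fin n))))
    (hn : ∀ c : Perm (Fin n), Commute c x → ∀ a ∈ K, c * a * c⁻¹ ∈ K) (hp : IsPGroup p K) :
    ∃ D : Subgroup (Perm (Fin n)), IsDefectGroup p M B D ∧ K ≤ D := by
  set C := Subgroup.centralizer ({x} : Set (Perm (Fin n))) with hC
  letI := Fintype.ofFinite C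
  haveI : (K.subgroupOf C).Normal := ⟨fun a ha c => Subgroup.mem_subgroupOf.2 (by
    simp only [Subgroup.coe_mul, Subgroup.coe_inv]
    exact hn _ (Subgroup.mem_centralizer_singleton_iff.1 c.2) _ (Subgroup.mem_subgroupOf.1 ha))⟩
  have hKp : IsPGroup p (K.subgroupOf C) := hp.of_equiv (Subgroup.subgroupOfEquivOfLe hK).symm
  obtain ⟨D₁, hD₁⟩ := exists_isDefectGroup hM hb.1
  obtain ⟨D, hD, hle'⟩ := exists_defectGroup_map_le hM hb hD₁
  exact ⟨D, hD, fun a ha =>
    hle' ⟨⟨a, hK ha⟩, normal_le_defect hM hb.1 hKp hD₁ (Subgroup.mem_subgroupOf.2 ha), rfl⟩⟩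

/-- The translations are normalised by the centraliser of the product of the cycles. -/
theorem conj_mem_transRange [Fact p.Prime] {v r : ℕ} (e : Pts v p r ≃ Fin n) {c : Perm (Fin n)}
    (hc : Commute c (e.permCongr (baseCyc v p r))) {a : Perm (Fin n)}
    (ha : a ∈ ((e.permCongrHom : Perm (Pts v p r) ≃* Perm (Fin n)).toMonoidHom.comp
      (transHom v p r)).range) :
    c * a * c⁻¹ ∈ ((e.permCongrHom : Perm (Pts v p r) ≃* Perm (Fin n)).toMonoidHom.comp
      (transHom v p r)).range := by
    obtain ⟨t, rfl⟩ := ha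
    set c' : Perm (Pts v p r) := e.permCongrHom.symm c with hc'
    have hcx : Commute c' (baseCyc v p r) := by
      have h2 := hc.map (e.permCongrHom.symm : Perm (Fin n) ≃* Perm (Pts v p r))
      rwa [show e.permCongrHom.symm (e.permCongr (baseCyc v p r)) = baseCyc v p r from
        (e.permCongrHom).symm_apply_apply _] at h2
    obtain ⟨s, hs⟩ := mem_range_of_cycles (σ := c' * transHom v p r t * c'⁻¹) (by
      have h3 : Commute (transHom v p r t) (baseCyc v p r) := by
        rw [baseCyc, Commute, SemiconjBy, ← map_mul, ← map_mul, mul_comm]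
      exact (hcx.mul_left h3).mul_left hcx.inv_left) (fun z => by
      rcases hz : (c'⁻¹ : Perm (Pts v p r)) z with ⟨i, a⟩ | j
      · refine ⟨(t.toAdd i).val, ?_⟩
        have e1 : transHom v p r t (Sum.inl (i, a)) =
            (baseCyc v p r ^ (t.toAdd i).val) (Sum.inl (i, a)) := by
          rw [baseCyc_pow, transHom_inl, transHom_inl]
          simp
        rw [Perm.mul_apply, Perm.mul_apply, hz, e1, ← Perm.mul_apply, (hcx.pow_right _).eq,
          Perm.mul_apply, ← hz, ← Perm.mul_apply c', mul_inv_cancel, Perm.one_apply]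
      · refine ⟨0, ?_⟩
        rw [Perm.mul_apply, Perm.mul_apply, hz, transHom_inr, ← hz, ← Perm.mul_apply c',
          mul_inv_cancel, pow_zero])
    refine ⟨s, ?_⟩
    have h4 := congrArg e.permCongrHom hs
    rw [map_mul, map_mul, map_inv, hc', MulEquiv.apply_symm_apply] at h4
    exact h4

/-- The permutations of the fixed points are normalised by the same centraliser. -/
theorem conj_fixed [Fact p.Prime] {v r : ℕ} {c : Perm (Pts v p r)}
    (hc : Commute c (baseCyc v p r)) (s : Perm (Fin r)) :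
    ∃ s', c * Perm.sumCongr 1 s * c⁻¹ = Perm.sumCongr 1 s' := by
  haveI : Fact (1 < p) := ⟨(Fact.out : p.Prime).one_lt⟩
  have hcomm : ∀ (c : Perm (Pts v p r)), Commute c (baseCyc v p r) → ∀ z,
      c (baseCyc v p r z) = baseCyc v p r (c z) := fun c hc z => by
    rw [← Perm.mul_apply, hc.eq, Perm.mul_apply]
  have hinr : ∀ (c : Perm (Pts v p r)), Commute c (baseCyc v p r) → ∀ j,
      ∃ j', c (Sum.inr j) = Sum.inr j' := by
    intro c hc j
    rcases hz : c (Sum.inr j) with ⟨i, a⟩ | j'
    · have h1 := hcomm c hc (Sum.inr j)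
      rw [baseCyc, transHom_inr, hz, transHom_inl] at h1
      simp at h1
    · exact ⟨j', rfl⟩
  have hinl : ∀ i a, ∃ i' a', (c⁻¹ : Perm (Pts v p r)) (Sum.inl (i, a)) = Sum.inl (i', a') := by
    intro i a
    rcases hz : (c⁻¹ : Perm (Pts v p r)) (Sum.inl (i, a)) with ⟨i', a'⟩ | j
    · exact ⟨i', a', rfl⟩
    · obtain ⟨j', hj'⟩ := hinr c hc j
      rw [← hz, ← Perm.mul_apply, mul_inv_cancel, Perm.one_apply] at hj'
      exact absurd hj' (by simp)
  choose f hf using hinr c hc
  choose f' hf' using hinr c⁻¹ hc.inv_left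
  refine ⟨{ toFun := fun j => f (s (f' j))
            invFun := fun j => f (s.symm (f' j))
            left_inv := fun j => ?_
            right_inv := fun j => ?_ }, Equiv.ext fun z => ?_⟩
  · have key : ∀ j, f' (f j) = j := fun j => Sum.inr_injective (by
      rw [← hf', ← hf, ← Perm.mul_apply, inv_mul_cancel, Perm.one_apply])
    have key' : ∀ j, f (f' j) = j := fun j => Sum.inr_injective (by
      rw [← hf, ← hf', ← Perm.mul_apply, mul_inv_cancel, Perm.one_apply])
    simp [key, key']
  · have key : ∀ j, f' (f j) = j := fun j => Sum.inr_injective (by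
      rw [← hf', ← hf, ← Perm.mul_apply, inv_mul_cancel, Perm.one_apply])
    have key' : ∀ j, f (f' j) = j := fun j => Sum.inr_injective (by
      rw [← hf, ← hf', ← Perm.mul_apply, mul_inv_cancel, Perm.one_apply])
    simp [key, key']
  · rcases z with ⟨i, a⟩ | j
    · obtain ⟨i', a', h⟩ := hinl i a
      rw [Perm.mul_apply, Perm.mul_apply, h]
      show c (Sum.inl (i', a')) = Sum.inl (i, a)
      rw [← h, ← Perm.mul_apply, mul_inv_cancel, Perm.one_apply]
    · rw [Perm.mul_apply, Perm.mul_apply, hf']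
      exact hf _

/-- A block of weight `v` has a defect group containing an elementary abelian group of order
`p ^ v`. -/
theorem exists_elementary [Fact p.Prime] (hM : IsPModular p M)
    {B : Set (IrrCharacter (Perm (Fin n)))} (hB : IsPBlock M B) {β₀ : Exp n} (hβ₀ : Adm n β₀)
    {ψ₀ : IrrCharacter (Perm (Fin n))} (hψ₀ : ψ₀ ∈ B) {ε₀ : ℂ}
    (hchi : (chi β₀ : Perm (Fin n) → ℂ) = ε₀ • (ψ₀ : Perm (Fin n) → ℂ)) {v : ℕ}
    (hv : 2 * qSum p β₀ = pairCount (resCount p β₀) + 2 * (v : ℤ)) :
    ∃ (D : Subgroup (Perm (Fin n))) (A : Subgroup (Perm (Fin n))), IsDefectGroup p M B D ∧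
      A ≤ D ∧ IsMulCommutative A ∧ (∀ a ∈ A, a ^ p = 1) ∧ Nat.card A = p ^ v := by
  obtain ⟨r, e, b, hb⟩ := exists_witness hM hB hβ₀ hψ₀ hchi hv
  let Φ : Multiplicative (Fin v → ZMod p) →* Perm (Fin n) :=
    (e.permCongrHom : Perm (Pts v p r) ≃* Perm (Fin n)).toMonoidHom.comp (transHom v p r)
  have hΦinj : Function.Injective Φ := fun s t h =>
    transHom_injective (e.permCongrHom.injective h)
  have hpow : ∀ t, Φ t ^ p = 1 := fun t => by
    rw [← map_pow]
    convert map_one Φ
    refine Multiplicative.toAdd.injective (funext fun i => ?_)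
    simp
  have hx : e.permCongr (baseCyc v p r) = Φ (Multiplicative.ofAdd fun _ => 1) := rfl
  have hnormal : ∀ c : Perm (Fin n), Commute c (e.permCongr (baseCyc v p r)) →
      ∀ a ∈ Φ.range, c * a * c⁻¹ ∈ Φ.range := fun c hc a ha => conj_mem_transRange e hc ha
  obtain ⟨D, hD, hle⟩ := exists_defect_ge_normal hM hb (K := Φ.range)
    (fun a ha => by
      obtain ⟨t, rfl⟩ := ha
      rw [Subgroup.mem_centralizer_singleton_iff, hx, ← map_mul, ← map_mul, mul_comm])
    hnormal (fun a => ⟨1, by
      obtain ⟨t, ht⟩ := a.2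
      refine Subtype.ext ?_
      rw [pow_one, Subgroup.coe_pow, ← ht]
      exact hpow t⟩)
  refine ⟨D, Φ.range, hD, hle, ⟨⟨?_⟩⟩, ?_, ?_⟩
  · rintro ⟨_, s, rfl⟩ ⟨_, t, rfl⟩
    exact Subtype.ext (show Φ s * Φ t = Φ t * Φ s by rw [← map_mul, ← map_mul, mul_comm])
  · rintro _ ⟨t, rfl⟩
    exact hpow t
  · rw [Nat.card_congr (MonoidHom.ofInjective hΦinj).toEquiv.symm, Nat.card_eq_fintype_card,
      Fintype.card_multiplicative, Fintype.card_fun, ZMod.card, Fintype.card_fin]

end CfsgLib.SymBlocks
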